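import Groth.Agent.RelPCLib.Push

/-!
# Pseudo-coherence is detected by direct images along closed immersions
-/

set_option autoImplicit false
set_option backward.isDefEq.respectTransparency false
set_option linter.style.haveILetI false
set_option linter.unusedSectionVars false
set_option maxHeartbeats 1000000

universe u

open CategoryTheory CategoryTheory.Limits AlgebraicGeometry TopologicalSpace
open CategoryTheory.Pretriangulated

attribute [local instance] HasDerivedCategory.standard

noncomputable section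

namespace Groth.Agent.RelPCLib

open Groth.Agent.DCohLib

/-- A module whose direct image along a closed immersion has finite type has finite type. -/
theorem isFT_of_push {Z X : Scheme.{u}} (i : Z ⟶ X) [IsClosedImmersion i] {M : Z.Modules}
    (h : CohB1.IsFT ((Scheme.Modules.pushforward i).obj M)) : CohB1.IsFT M := by
  refine isFT_of_local_epi fun z => ?_
  obtain ⟨V, n, p, hz, hp⟩ := exists_free_epi h (i.base z)
  let N := (Scheme.Modules.restrictFunctor (i ⁻¹ᵁ V).ι).obj M
  let q := p ≫ ((restrictPushIso i V).app M).hom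
  haveI : Epi q := epi_comp' hp inferInstance
  haveI : PreservesColimitsOfSize.{0, 0} (Scheme.Modules.pullback (i ∣_ V)) :=
    (Scheme.Modules.pullbackPushforwardAdjunction (i ∣_ V)).leftAdjoint_preservesColimits
  haveI := isIso_counit_closedImmersion (i ∣_ V) N
  refine ⟨_, (i ⁻¹ᵁ V).ι, inferInstance, ⟨z, hz⟩, n,
    (pullFreeIso (i ∣_ V) n).inv ≫ (Scheme.Modules.pullback (i ∣_ V)).map q ≫
      (Scheme.Modules.pullbackPushforwardAdjunction (i ∣_ V)).counit.app N, rfl, ?_⟩
  haveI : Epi ((Scheme.Modules.pullback (i ∣_ V)).map q) := inferInstance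
  exact epi_comp' inferInstance (epi_comp' inferInstance inferInstance)

/-- The top cohomology is killed, locally, by a finite free module in one degree. -/
theorem exists_local_kill_single {Z : Scheme.{u}} {n : ℤ} {K : DCoh.D Z} (hK : AboveZero (n + 1) K)
    (hft : CohB1.IsFT (DCoh.HD K n)) (z : Z) :
    ∃ (W : Z.Opens) (_ : z ∈ W) (E : CochainComplex (W : Scheme.{u}).Modules ℤ)
      (α : DerivedCategory.Q.obj E ⟶ (DCoh.restrictD W.ι).obj K),
      DCoh.IsStrictlyPerfect E ∧ (∀ q, q ≠ n → IsZero (E.X q)) ∧ MIso n α := by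
  obtain ⟨V, r, p, hz, hp⟩ := exists_free_epi hft z
  let K' := (DCoh.restrictD V.ι).obj K
  let G := DerivedCategory.Q.objPreimage K'
  let e : DerivedCategory.Q.obj G ≅ K' := DerivedCategory.Q.objObjPreimageIso K'
  let eH : DCoh.HD K' n ≅ G.homology n :=
    (DerivedCategory.homologyFunctor _ n).mapIso e.symm ≪≫ (DerivedCategory.homologyFunctorFactors _ n).app G
  let c : FlatMod.freeMod (V : Scheme.{u}) r ⟶ G.homology n := p ≫ (restrictHDIso V.ι K n).inv ≫ eH.hom
  haveI : Epi c := epi_comp' hp (epi_comp' inferInstance inferInstance)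
  obtain ⟨W, hW, ψ, hψ⟩ := exists_lift_free (G.homologyπ n) c ⟨z, hz⟩
  let R := Scheme.Modules.restrictFunctor W.ι
  let P := R.obj (FlatMod.freeMod (V : Scheme.{u}) r)
  let G' := (resCx W.ι).obj G
  let h := (G.sc n).leftHomologyData.map R
  let E := (HomologicalComplex.single (W : Scheme.{u}).Modules (ComplexShape.up ℤ) n).obj P
  let φ : E ⟶ G' := HomologicalComplex.mkHomFromSingle (ψ ≫ R.map (G.iCycles n)) fun k _ => by
    show (ψ ≫ R.map (G.iCycles n)) ≫ R.map (G.d n k) = 0
    rw [Category.assoc, ← R.map_comp, G.iCycles_d, R.map_zero, comp_zero]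
  haveI hepi : Epi (HomologicalComplex.homologyMap φ n) := by
    let d : (G'.sc n).LeftHomologyData := h
    have hi : (HomologicalComplex.singleObjCyclesSelfIso (ComplexShape.up ℤ) n P).inv ≫
        HomologicalComplex.cyclesMap φ n ≫ d.cyclesIso.hom = ψ ≫ R.map (G.sc n).leftHomologyData.cyclesIso.hom := by
      rw [← cancel_mono d.i, Category.assoc, Category.assoc, ShortComplex.LeftHomologyData.cyclesIso_hom_comp_i]
      refine (congrArg (_ ≫ ·) (HomologicalComplex.cyclesMap_i φ n)).trans ?_
      have e1 : (G.sc n).leftHomologyData.cyclesIso.hom ≫ (G.sc n).leftHomologyData.i = G.iCycles n :=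
        ShortComplex.LeftHomologyData.cyclesIso_hom_comp_i _
      refine Eq.trans ?_ (((congrArg (ψ ≫ ·) ((congrArg R.map e1).symm.trans (R.map_comp _ _))).trans
        (Category.assoc _ _ _).symm))
      simp [φ]
      erw [HomologicalComplex.singleObjCyclesSelfIso_inv_iCycles_assoc]
      simp
    have hπ : (HomologicalComplex.singleObjHomologySelfIso (ComplexShape.up ℤ) n P).inv ≫
        HomologicalComplex.homologyMap φ n ≫ d.homologyIso.hom =
        R.map c ≫ R.map (G.sc n).leftHomologyData.homologyIso.hom := by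
      rw [← HomologicalComplex.singleObjCyclesSelfIso_inv_homologyπ, Category.assoc]
      erw [HomologicalComplex.homologyπ_naturality_assoc]
      refine (congrArg (fun t => _ ≫ _ ≫ t) (ShortComplex.LeftHomologyData.homologyπ_comp_homologyIso_hom (h := d))).trans ?_
      refine ((congrArg (_ ≫ ·) (Category.assoc _ _ _).symm).trans (Category.assoc _ _ _).symm).trans ?_
      refine (congrArg (· ≫ d.π) hi).trans ?_
      have e2 : G.homologyπ n ≫ (G.sc n).leftHomologyData.homologyIso.hom =
          (G.sc n).leftHomologyData.cyclesIso.hom ≫ (G.sc n).leftHomologyData.π :=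
        (G.sc n).leftHomologyData.homologyπ_comp_homologyIso_hom
      refine ((Category.assoc _ _ _).trans (congrArg (ψ ≫ ·)
        (((R.map_comp _ _).symm.trans (congrArg R.map e2.symm)).trans (R.map_comp _ _)))).trans ?_
      exact (Category.assoc _ _ _).symm.trans (congrArg (· ≫ _) hψ)
    haveI : Epi ((HomologicalComplex.singleObjHomologySelfIso (ComplexShape.up ℤ) n P).inv ≫
        HomologicalComplex.homologyMap φ n ≫ d.homologyIso.hom) := by
      rw [hπ]
      exact epi_comp' inferInstance inferInstance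
    haveI : Epi (HomologicalComplex.homologyMap φ n ≫ d.homologyIso.hom) :=
      epi_of_epi (HomologicalComplex.singleObjHomologySelfIso (ComplexShape.up ℤ) n P).inv _
    simpa using epi_comp' this (inferInstance : Epi d.homologyIso.inv)
  let hle : W.ι ''ᵁ ⊤ ≤ (⊤ : (V : Scheme.{u}).Opens) := le_top
  let W' : Z.Opens := (W.ι ≫ V.ι).opensRange
  let s := (W.ι ≫ V.ι).isoOpensRange.inv
  let e' : DerivedCategory.Q.obj G' ≅ (DCoh.restrictD (W.ι ≫ V.ι)).obj K :=
    (restrictDQ W.ι G).symm ≪≫ (DCoh.restrictD W.ι).mapIso e ≪≫ ((restrictDComp W.ι V.ι).app K).symm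
  have hm : MIso n (DerivedCategory.Q.map φ ≫ e'.hom) := by
    refine MIso.comp ((mIso_iff n _).2 ⟨fun q hq => ?_, ?_⟩) (mIso_of_isIso n e'.hom)
    · refine IsZero.isIso ?_ ?_ _
      · exact ((HomologicalComplex.exactAt_iff_isZero_homology _ _).1
          (HomologicalComplex.ExactAt.of_isZero
            (HomologicalComplex.isZero_single_obj_X _ _ _ _ (by omega)))).of_iso
          ((DerivedCategory.homologyFunctorFactors _ q).app E)
      · exact ((hK.restrict (W.ι ≫ V.ι)) q (by omega)).of_iso ((DerivedCategory.homologyFunctor _ q).mapIso e')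
    · exact ((MorphismProperty.epimorphisms _).arrow_mk_iso_iff
        (Arrow.isoMk ((DerivedCategory.homologyFunctorFactors (W : Scheme.{u}).Modules n).app E)
          ((DerivedCategory.homologyFunctorFactors (W : Scheme.{u}).Modules n).app G')
          (((DerivedCategory.homologyFunctorFactors (W : Scheme.{u}).Modules n)).hom.naturality φ).symm :
          Arrow.mk _ ≅ Arrow.mk (HomologicalComplex.homologyMap φ n))).2 hepi
  have hE : DCoh.IsStrictlyPerfect E :=
    ⟨⟨n, n, fun q hq => HomologicalComplex.isZero_single_obj_X _ _ _ _ (by omega)⟩, fun q => by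
      by_cases hq : q = n
      · subst hq
        exact isFinLocFree_iso (HomologicalComplex.singleObjXSelf (ComplexShape.up ℤ) q P).symm
          (isFinLocFree_iso (restrictFreeMod W.ι r).symm (isFinLocFree_freeMod r))
      · exact isFinLocFree_of_isZero (HomologicalComplex.isZero_single_obj_X _ _ _ _ hq)⟩
  exact ⟨W', ⟨⟨⟨z, hz⟩, hW⟩, rfl⟩, (resCx s).obj E,
    (restrictDQ s E).inv ≫ (DCoh.restrictD s).map (DerivedCategory.Q.map φ ≫ e'.hom) ≫
      (((restrictDComp s (W.ι ≫ V.ι)).symm ≪≫
        restrictDCongr (W.ι ≫ V.ι).isoOpensRange_inv_comp).app K).hom,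
    isStrictlyPerfect_restrict s hE,
    fun q hq => isZero_resCx s (HomologicalComplex.isZero_single_obj_X _ _ _ _ hq),
    (mIso_of_isIso n _).comp ((hm.restrict s).comp (mIso_of_isIso n _))⟩

/-- The top cohomology is killed, locally, by a finite free module. -/
theorem exists_local_kill {Z : Scheme.{u}} {n : ℤ} {K : DCoh.D Z} (hK : AboveZero (n + 1) K)
    (hft : CohB1.IsFT (DCoh.HD K n)) (z : Z) :
    ∃ (W : Z.Opens) (_ : z ∈ W) (E : CochainComplex (W : Scheme.{u}).Modules ℤ)
      (α : DerivedCategory.Q.obj E ⟶ (DCoh.restrictD W.ι).obj K),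
      DCoh.IsStrictlyPerfect E ∧ MIso n α := by
  obtain ⟨W, hz, E, α, hE, -, hα⟩ := exists_local_kill_single hK hft z
  exact ⟨W, hz, E, α, hE, hα⟩

theorem pc_of_pushD_aux (m : ℤ) : ∀ (d : ℕ) {Z X : Scheme.{u}} (i : Z ⟶ X) [IsClosedImmersion i],
    PCUnit i → ∀ K : DCoh.D Z, AboveZero (m + d) K →
    DCoh.IsPseudoCoherentD m ((pushD i).obj K) → DCoh.IsPseudoCoherentD m K := by
  intro d
  induction d with
  | zero =>
    intro Z X i _ _ K hK _
    exact pc_zero (by simpa using hK)
  | succ d ih =>
    intro Z X i _ hO K hK h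
    have hK' : AboveZero (m + d + 1) K := hK.mono (by push_cast; omega)
    have hft : CohB1.IsFT (DCoh.HD K (m + d)) := by
      refine isFT_of_push i ?_
      have hz := isFT_top (isPseudoCoherentD_mono (show m ≤ m + d by omega) h) fun q hq =>
        (aboveZero_pushD i hK') q (by omega)
      exact isFT_of_local_epi fun x => by
        obtain ⟨V, n, p, hx, hp⟩ := exists_free_epi hz x
        exact ⟨V, V.ι, inferInstance, ⟨x, hx⟩, n,
          p ≫ (Scheme.Modules.restrictFunctor V.ι).map (pushHDIso i K (m + d)).hom, rfl,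
          epi_comp' hp inferInstance⟩
    refine isPseudoCoherentD_of_local fun z => ?_
    obtain ⟨W, hzW, E, α, hE, hα⟩ := exists_local_kill hK' hft z
    obtain ⟨V', rfl⟩ : ∃ V' : X.Opens, i ⁻¹ᵁ V' = W := by
      obtain ⟨V, hV⟩ := (Topology.IsInducing.isOpen_iff i.isClosedEmbedding.isInducing).1 W.2
      exact ⟨⟨V, hV.1⟩, TopologicalSpace.Opens.ext hV.2⟩
    refine ⟨_, (i ⁻¹ᵁ V').ι, inferInstance, ⟨z, hzW⟩, rfl, ?_⟩
    have hEpc : ∀ k, DCoh.IsPseudoCoherentD k (DerivedCategory.Q.obj E) := fun k =>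
      (isPseudoCoherentD_iff k _).2 fun _ => ⟨⊤, trivial, (PerfOn.pcOn ⟨E, hE, ⟨Iso.refl _⟩⟩ k).restrict _⟩
    obtain ⟨D, g, k, hT, hD⟩ := hα
    refine isPseudoCoherentD_obj₂ _ hT (hEpc m) (ih (i ∣_ V') (hO.restrict i V') D hD ?_)
    obtain ⟨e⟩ := nonempty_restrict_pushD i V' K
    exact isPseudoCoherentD_obj₃ _ ((pushD (i ∣_ V')).map_distinguished _ hT)
      (pc_pushD _ (hO.restrict i V') (hEpc (m + 1)))
      (isPseudoCoherentD_iso e (isPseudoCoherentD_restrict V'.ι h))

/-- Pseudo-coherence is detected along a closed immersion with pseudo-coherent structure sheaf. -/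
theorem pc_pushD_iff {Z X : Scheme.{u}} (i : Z ⟶ X) [IsClosedImmersion i] (hO : PCUnit i) (m : ℤ) (K : DCoh.D Z) :
    DCoh.IsPseudoCoherentD m ((pushD i).obj K) ↔ DCoh.IsPseudoCoherentD m K := by
  refine ⟨fun h => ?_, pc_pushD i hO⟩
  refine isPseudoCoherentD_of_local fun z => ?_
  obtain ⟨V, n, hz, hn⟩ := exists_open_aboveZero h (i.base z)
  refine ⟨_, (i ⁻¹ᵁ V).ι, inferInstance, ⟨z, hz⟩, rfl, ?_⟩
  obtain ⟨e⟩ := nonempty_restrict_pushD i V K
  have hA := aboveZero_of_pushD (i ∣_ V) (hn.of_iso e.symm)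
  exact pc_of_pushD_aux m (n - m).toNat (i ∣_ V) (hO.restrict i V) _ (hA.mono (by omega))
    (isPseudoCoherentD_iso e (isPseudoCoherentD_restrict V.ι h))

end Groth.Agent.RelPCLib
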