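import Groth.Agent.RelPCLib.Push

/-!
# Pseudo-coherence from terms and from cohomology sheaves
-/

set_option autoImplicit false
set_option backward.isDefEq.respectTransparency false
set_option linter.style.haveILetI false
set_option linter.unusedSectionVars false
set_option maxHeartbeats 1000000

universe u

open CategoryTheory CategoryTheory.Limits AlgebraicGeometry
open CategoryTheory.Pretriangulated

attribute [local instance] HasDerivedCategory.standard

noncomputable section

namespace Groth.Agent.RelPCLib

open Groth.Agent.DCohLib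

variable {X : Scheme.{u}}

/-- An object in a single degree is a shift of the object in degree zero. -/
def singleShiftIso (n : ℤ) (M : X.Modules) :
    (DerivedCategory.singleFunctor X.Modules n).obj M ≅ (DCoh.inD X M)⟦-n⟧ :=
  (((DerivedCategory.singleFunctors X.Modules).shiftIso (-n) n 0 (by omega)).app M).symm

theorem pc_single {m n : ℤ} {M : X.Modules} (h : DCoh.IsPseudoCoherentD (m - n) (DCoh.inD X M)) :
    DCoh.IsPseudoCoherentD m ((DerivedCategory.singleFunctor X.Modules n).obj M) :=
  isPseudoCoherentD_iso (singleShiftIso n M).symm (isPseudoCoherentD_shift h (-n) (by omega))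

theorem pc_of_homology (m : ℤ) : ∀ (d : ℕ) (K : DCoh.D X), AboveZero (m + d) K →
    (∀ i, m ≤ i → DCoh.IsPseudoCoherentD (m - i) (DCoh.inD X (DCoh.HD K i))) → DCoh.IsPseudoCoherentD m K := by
  intro d
  induction d with
  | zero => intro K hK _; exact pc_zero (by simpa using hK)
  | succ d ih =>
    intro K hK h
    let n : ℤ := m + d
    have hK' : AboveZero (n + 1) K := hK.mono (by push_cast; omega)
    let t := (DerivedCategory.TStructure.t : Triangulated.TStructure (DCoh.D X))
    let T := (t.triangleLTGE n).obj K
    have hT : T ∈ distTriang _ := t.triangleLTGE_distinguished n K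
    have h₁ : AboveZero n T.obj₁ := fun i hi => by
      haveI : DerivedCategory.IsLE T.obj₁ (n - 1) := inferInstanceAs (t.IsLE ((t.truncLT n).obj K) (n - 1))
      exact DerivedCategory.isZero_of_isLE T.obj₁ (n - 1) i (by omega)
    haveI hGE : DerivedCategory.IsGE T.obj₃ n := inferInstanceAs (t.IsGE ((t.truncGE n).obj K) n)
    have h₃ : AboveZero (n + 1) T.obj₃ := fun i hi =>
      (DerivedCategory.HomologySequence.exact₃ T hT i (i + 1) rfl).isZero_X₂
        ((hK' i hi).eq_of_src _ _) ((h₁ (i + 1) (by omega)).eq_of_tgt _ _)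
    haveI : DerivedCategory.IsLE T.obj₃ n := (DerivedCategory.isLE_iff T.obj₃ n).2 fun i hi => h₃ i (by omega)
    obtain ⟨Y, ⟨eY⟩⟩ := DerivedCategory.exists_iso_singleFunctor_obj_of_isGE_of_isLE T.obj₃ n
    let H := fun i => DerivedCategory.homologyFunctor X.Modules i
    haveI : Mono ((H n).map T.mor₂) :=
      (DerivedCategory.HomologySequence.mono_homologyMap_mor₂_iff T hT n).2 ((h₁ n le_rfl).eq_of_src _ _)
    haveI : Epi ((H n).map T.mor₂) :=
      (DerivedCategory.HomologySequence.epi_homologyMap_mor₂_iff T hT n (n + 1) rfl).2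
        ((h₁ (n + 1) (by omega)).eq_of_tgt _ _)
    haveI : IsIso ((H n).map T.mor₂) := isIso_of_mono_of_epi _
    let e₂ : Y ≅ DCoh.HD K n := ((DerivedCategory.singleFunctorCompHomologyFunctorIso X.Modules n).app Y).symm ≪≫
      (H n).mapIso eY.symm ≪≫ (asIso ((H n).map T.mor₂)).symm
    refine isPseudoCoherentD_obj₂ T hT (ih T.obj₁ h₁ fun i hi => ?_) ?_
    · rcases lt_or_ge i n with hi' | hi'
      · have z : IsZero ((H i).obj T.obj₃) := DerivedCategory.isZero_of_isGE T.obj₃ n i hi'
        have z' : IsZero ((H (i - 1)).obj T.obj₃) := DerivedCategory.isZero_of_isGE T.obj₃ n (i - 1) (by omega)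
        haveI hE1 : Epi ((H i).map T.mor₁) :=
          (DerivedCategory.HomologySequence.epi_homologyMap_mor₁_iff T hT i).2 (z.eq_of_tgt _ _)
        haveI hM1 : Mono ((H i).map T.mor₁) :=
          (DerivedCategory.HomologySequence.mono_homologyMap_mor₁_iff T hT (i - 1) i (by omega)).2
            (z'.eq_of_src _ _)
        exact isPseudoCoherentD_iso ((DerivedCategory.singleFunctor X.Modules 0).mapIso
          (@asIso _ _ _ _ ((H i).map T.mor₁) (@isIso_of_mono_of_epi _ _ _ _ _ _ hM1 hE1)).symm) (h i hi)
      · exact pc_zero (aboveZero_zero _ ((DerivedCategory.singleFunctor X.Modules 0).map_isZero (h₁ i hi')))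
    · exact isPseudoCoherentD_iso eY.symm (pc_single (isPseudoCoherentD_iso
        ((DerivedCategory.singleFunctor X.Modules 0).mapIso e₂.symm) (h n (by omega))))

theorem pc_brutal (E : CochainComplex X.Modules ℤ) {b : ℤ} (hb : ∀ i, b < i → IsZero (E.X i)) (m : ℤ)
    (h : ∀ i, m ≤ i → DCoh.IsPseudoCoherentD (m - i) (DCoh.inD X (E.X i))) :
    ∀ (k : ℕ) (a : ℤ), m ≤ a → b + 1 = a + k → DCoh.IsPseudoCoherentD m (DCoh.toD X (brutalGE E a))
  | 0, a, _, hk => by
    have hE : IsZero (brutalGE E a) := (IsZero.iff_id_eq_zero _).2 (HomologicalComplex.hom_ext _ _ fun q => by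
      by_cases hq : q < a
      · exact (isZero_brutalGE_X E a q hq).eq_of_src _ _
      · haveI := isIso_brutalGEι_f E a q (not_lt.1 hq)
        exact ((hb q (by omega)).of_iso (asIso ((brutalGEι E a).f q))).eq_of_src _ _)
    exact pc_zero (aboveZero_zero m (DerivedCategory.Q.map_isZero hE))
  | k + 1, a, ha, hk => by
    let B := brutalGE E a
    have hB : ∀ q, q < a → IsZero (B.X q) := isZero_brutalGE_X E a
    have hg : ∀ q, (ComplexShape.up ℤ).Rel q a → B.d q a ≫ 𝟙 (B.X a) = 0 := fun q hq => by
      have hq' : q + 1 = a := hq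
      exact (hB q (by omega)).eq_of_src _ _
    let g := HomologicalComplex.mkHomToSingle (𝟙 (B.X a)) hg
    have hfg : brutalGEι B (a + 1) ≫ g = 0 := HomologicalComplex.hom_ext _ _ fun q => by
      rcases eq_or_ne q a with rfl | hq
      · exact (isZero_brutalGE_X B (q + 1) q (by omega)).eq_of_src _ _
      · exact (HomologicalComplex.isZero_single_obj_X _ _ _ _ hq).eq_of_tgt _ _
    have hspl : ∀ q, ((ShortComplex.mk (brutalGEι B (a + 1)) g hfg).map
        (HomologicalComplex.eval X.Modules (ComplexShape.up ℤ) q)).Splitting := fun q => by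
      by_cases hq : q = a
      · subst hq
        refine ShortComplex.Splitting.ofIsZeroOfIsIso _ (isZero_brutalGE_X B (q + 1) q (by omega)) ?_
        show IsIso (g.f q)
        rw [HomologicalComplex.mkHomToSingle_f]
        infer_instance
      · refine ShortComplex.Splitting.ofIsIsoOfIsZero _ ?_
          (HomologicalComplex.isZero_single_obj_X (ComplexShape.up ℤ) a (B.X a) q hq)
        show IsIso ((brutalGEι B (a + 1)).f q)
        by_cases hq' : a + 1 ≤ q
        · exact isIso_brutalGEι_f B (a + 1) q hq'
        · exact ⟨0, (isZero_brutalGE_X B (a + 1) q (by omega)).eq_of_src _ _, (hB q (by omega)).eq_of_src _ _⟩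
    have hS : (ShortComplex.mk (brutalGEι B (a + 1)) g hfg).ShortExact :=
      HomologicalComplex.shortExact_of_degreewise_shortExact _ fun q => (hspl q).shortExact
    refine isPseudoCoherentD_obj₂ _ (DerivedCategory.triangleOfSES_distinguished hS) ?_ ?_
    · let φ : brutalGE B (a + 1) ⟶ E := brutalGEι B (a + 1) ≫ brutalGEι E a
      have hq : ∀ q, a + 1 ≤ q → IsIso (φ.f q) := fun q hq => by
        haveI := isIso_brutalGEι_f B (a + 1) q hq
        haveI := isIso_brutalGEι_f E a q (by omega)
        exact IsIso.comp_isIso
      let ψ : brutalGE B (a + 1) ≅ brutalGE E (a + 1) :=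
        HomologicalComplex.Hom.isoOfComponents
          (fun q => if hq' : a + 1 ≤ q then
            @asIso _ _ _ _ (φ.f q) (hq q hq') ≪≫
              (@asIso _ _ _ _ ((brutalGEι E (a + 1)).f q) (isIso_brutalGEι_f E (a + 1) q hq')).symm
            else (isZero_brutalGE_X B (a + 1) q (by omega)).iso (isZero_brutalGE_X E (a + 1) q (by omega)))
          fun p q hpq => by
            by_cases hp : a + 1 ≤ p
            · have hq' : a + 1 ≤ q := by
                have : p + 1 = q := hpq
                omega
              rw [dif_pos hp, dif_pos hq']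
              haveI := isIso_brutalGEι_f E (a + 1) q hq'
              haveI := isIso_brutalGEι_f E (a + 1) p hp
              rw [← cancel_mono ((brutalGEι E (a + 1)).f q)]
              simp only [Iso.trans_hom, Iso.symm_hom, asIso_inv, asIso_hom, Category.assoc, IsIso.inv_hom_id,
                Category.comp_id]
              rw [← (brutalGEι E (a + 1)).comm p q, IsIso.inv_hom_id_assoc, φ.comm]
            · exact (isZero_brutalGE_X B (a + 1) p (by omega)).eq_of_src _ _
      exact isPseudoCoherentD_iso (DerivedCategory.Q.mapIso ψ).symm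
        (pc_brutal E hb m h k (a + 1) (by omega) (by omega))
    · haveI := isIso_brutalGEι_f E a a le_rfl
      exact isPseudoCoherentD_iso ((DerivedCategory.singleFunctorIsoCompQ X.Modules a).app (B.X a))
        (pc_single (isPseudoCoherentD_iso
          ((DerivedCategory.singleFunctor X.Modules 0).mapIso (asIso ((brutalGEι E a).f a)).symm) (h a ha)))

theorem pc_of_terms (E : CochainComplex X.Modules ℤ) {b : ℤ} (hb : ∀ i, b < i → IsZero (E.X i)) (m : ℤ)
    (h : ∀ i, m ≤ i → DCoh.IsPseudoCoherentD (m - i) (DCoh.inD X (E.X i))) :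
    DCoh.IsPseudoCoherentD m (DCoh.toD X E) := by
  rcases le_or_gt m (b + 1) with hm | hm
  · have h' := pc_brutal E hb m h (b + 1 - m).toNat m le_rfl (by omega)
    have hι : MIso m (DerivedCategory.Q.map (brutalGEι E m)) := by
      refine (mIso_iff m _).2 ⟨fun q hq => ?_, ?_⟩
      · exact ((MorphismProperty.isomorphisms _).arrow_mk_iso_iff
          (Arrow.isoMk ((DerivedCategory.homologyFunctorFactors X.Modules q).app (brutalGE E m))
            ((DerivedCategory.homologyFunctorFactors X.Modules q).app E)
            (((DerivedCategory.homologyFunctorFactors X.Modules q)).hom.naturality (brutalGEι E m)).symm :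
            Arrow.mk _ ≅ Arrow.mk (HomologicalComplex.homologyMap (brutalGEι E m) q))).2
          (isIso_homologyMap_brutalGEι E m q hq)
      · exact ((MorphismProperty.epimorphisms _).arrow_mk_iso_iff
          (Arrow.isoMk ((DerivedCategory.homologyFunctorFactors X.Modules m).app (brutalGE E m))
            ((DerivedCategory.homologyFunctorFactors X.Modules m).app E)
            (((DerivedCategory.homologyFunctorFactors X.Modules m)).hom.naturality (brutalGEι E m)).symm :
            Arrow.mk _ ≅ Arrow.mk (HomologicalComplex.homologyMap (brutalGEι E m) m))).2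
          (epi_homologyMap_brutalGEι E m)
    obtain ⟨D, g, k, hT, hD⟩ := hι
    exact isPseudoCoherentD_obj₂ _ hT h' (pc_zero hD)
  · refine pc_zero fun q hq => ?_
    exact ((HomologicalComplex.exactAt_iff_isZero_homology _ _).1
      (ShortComplex.exact_of_isZero_X₂ _ (hb q (by omega)))).of_iso
        ((DerivedCategory.homologyFunctorFactors X.Modules q).app E)

end Groth.Agent.RelPCLib
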