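import Groth.Agent.RelPCLib.ClosedPC
import Groth.Agent.RelPCLib.Abs

/-!
# Direct images along closed immersions with structure sheaf pseudo-coherent in a range
-/

set_option autoImplicit false
set_option backward.isDefEq.respectTransparency false
set_option linter.style.haveILetI false
set_option linter.unusedSectionVars false
set_option maxHeartbeats 1000000

universe u

open CategoryTheory CategoryTheory.Limits AlgebraicGeometry TopologicalSpace
open CategoryTheory.Pretriangulated

attribute [local instance] HasDerivedCategory.standard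

noncomputable section

namespace Groth.Agent.RelPCLib

open Groth.Agent.DCohLib

/-- The direct image of the structure sheaf is pseudo-coherent in degrees `≥ c`. -/
def PCU {Z X : Scheme.{u}} (i : Z ⟶ X) (c : ℤ) : Prop :=
  DCoh.IsPseudoCoherentD c (DCoh.inD X ((Scheme.Modules.pushforward i).obj (Coh.structureModule Z)))

variable {Z X : Scheme.{u}} (i : Z ⟶ X) [IsClosedImmersion i]

theorem PCU.restrict {c : ℤ} (h : PCU i c) (V : X.Opens) : PCU (i ∣_ V) c := by
  refine isPseudoCoherentD_iso ?_ (isPseudoCoherentD_restrict V.ι h)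
  exact ((Scheme.Modules.restrictFunctor V.ι).mapDerivedCategorySingleFunctor 0).app _ ≪≫
    (DerivedCategory.singleFunctor (V : Scheme.{u}).Modules 0).mapIso
      ((restrictPushIso i V).app _ ≪≫
        (Scheme.Modules.pushforward (i ∣_ V)).mapIso (restrictUnit (i ⁻¹ᵁ V).ι))

theorem pcU_push_free {c : ℤ} (h : PCU i c) : ∀ n : ℕ,
    DCoh.IsPseudoCoherentD c (DCoh.inD X ((Scheme.Modules.pushforward i).obj (FlatMod.freeMod Z n)))
  | 0 => by
    have hM : IsZero (FlatMod.freeMod Z 0) :=
      (IsZero.iff_id_eq_zero _).2 (Sigma.hom_ext _ _ fun a => a.elim0)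
    exact pc_zero (aboveZero_zero c ((DerivedCategory.singleFunctor X.Modules 0).map_isZero
      ((Scheme.Modules.pushforward i).map_isZero hM)))
  | n + 1 => by
    let P := Scheme.Modules.pushforward i
    refine isPseudoCoherentD_iso ((DerivedCategory.singleFunctor X.Modules 0).mapIso
      (P.mapIso (freeModBiprod Z n 1))) ?_
    let S₀ := ShortComplex.mk (biprod.inl : FlatMod.freeMod Z n ⟶ FlatMod.freeMod Z n ⊞ FlatMod.freeMod Z 1)
      biprod.snd biprod.inl_snd
    have hS := ((ShortComplex.Splitting.ofHasBinaryBiproduct (FlatMod.freeMod Z n) (FlatMod.freeMod Z 1)).map P).shortExact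
    refine isPseudoCoherentD_obj₂ _ hS.singleTriangle_distinguished (pcU_push_free h n) ?_
    exact isPseudoCoherentD_iso ((DerivedCategory.singleFunctor X.Modules 0).mapIso
      (P.mapIso (freeModOne Z).symm)) h

theorem pcU_push_flf {c : ℤ} (h : PCU i c) {P : Z.Modules} (hP : FlatMod.IsFinLocFree P) :
    DCoh.IsPseudoCoherentD c (DCoh.inD X ((Scheme.Modules.pushforward i).obj P)) := by
  refine isPseudoCoherentD_of_local fun x => ?_
  by_cases hx : x ∈ Set.range i
  · obtain ⟨z, rfl⟩ := hx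
    obtain ⟨W, n, hz, ⟨e⟩⟩ := hP z
    obtain ⟨V, rfl⟩ : ∃ V : X.Opens, i ⁻¹ᵁ V = W := by
      obtain ⟨V, hV⟩ := (Topology.IsInducing.isOpen_iff i.isClosedEmbedding.isInducing).1 W.2
      exact ⟨⟨V, hV.1⟩, TopologicalSpace.Opens.ext hV.2⟩
    refine ⟨_, V.ι, inferInstance, ⟨i.base z, hz⟩, rfl, ?_⟩
    refine isPseudoCoherentD_iso (((Scheme.Modules.restrictFunctor V.ι).mapDerivedCategorySingleFunctor 0).app _ ≪≫
      (DerivedCategory.singleFunctor (V : Scheme.{u}).Modules 0).mapIso
        ((restrictPushIso i V).app P ≪≫ (Scheme.Modules.pushforward (i ∣_ V)).mapIso e)).symm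
      (pcU_push_free (i ∣_ V) (h.restrict i V) n)
  · let V : X.Opens := ⟨(Set.range i)ᶜ, i.isClosedEmbedding.isClosed_range.isOpen_compl⟩
    exact ⟨V, V.ι, inferInstance, ⟨x, hx⟩, rfl,
      isPseudoCoherentD_iso ((DCoh.restrictD V.ι).mapIso (pushInD i P))
        (isPC_restrict_off i V disjoint_compl_left c (DCoh.inD Z P))⟩

/-- The direct image of a strictly perfect complex in one degree. -/
theorem pcU_push_single {c : ℤ} (h : PCU i c) {E : CochainComplex Z.Modules ℤ} (hE : DCoh.IsStrictlyPerfect E)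
    {n : ℤ} (hn : ∀ q, q ≠ n → IsZero (E.X q)) {m : ℤ} (hm : c + n ≤ m) :
    DCoh.IsPseudoCoherentD m ((pushD i).obj (DerivedCategory.Q.obj E)) := by
  refine isPseudoCoherentD_iso (pushDQ i E).symm (pc_of_terms _ (b := n) (fun q hq => ?_) m fun q hq => ?_)
  · exact (Scheme.Modules.pushforward i).map_isZero (hn q (by omega))
  · rcases eq_or_ne q n with rfl | hq'
    · exact isPseudoCoherentD_mono (by omega) (pcU_push_flf i h (hE.2 q))
    · exact pc_zero (aboveZero_zero _ ((DerivedCategory.singleFunctor X.Modules 0).map_isZero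
        ((Scheme.Modules.pushforward i).map_isZero (hn q hq'))))

/-- Descent along a closed immersion, in a range. -/
theorem pc_of_pushD_range {c b m : ℤ} (hcb : c + b ≤ m + 1) : ∀ (d : ℕ) {Z X : Scheme.{u}} (i : Z ⟶ X)
    [IsClosedImmersion i], PCU i c → ∀ K : DCoh.D Z, AboveZero (m + d) K → AboveZero (b + 1) K →
    DCoh.IsPseudoCoherentD m ((pushD i).obj K) → DCoh.IsPseudoCoherentD m K := by
  intro d
  induction d with
  | zero => exact fun {Z X} i _ _ K hK _ _ => pc_zero (by simpa using hK)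
  | succ d ih =>
    intro Z X i _ hO K hK hb h
    by_cases hd : b < m + d
    · exact ih i hO K (fun q hq => hb q (by omega)) hb h
    have hK' : AboveZero (m + d + 1) K := hK.mono (by push_cast; omega)
    have hft : CohB1.IsFT (DCoh.HD K (m + d)) := by
      refine isFT_of_push i ?_
      have hz := isFT_top (isPseudoCoherentD_mono (show m ≤ m + d by omega) h) fun q hq =>
        (aboveZero_pushD i hK') q (by omega)
      exact isFT_of_local_epi fun x => by
        obtain ⟨V, n, p, hx, hp⟩ := exists_free_epi hz x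
        exact ⟨V, V.ι, inferInstance, ⟨x, hx⟩, n,
          p ≫ (Scheme.Modules.restrictFunctor V.ι).map (pushHDIso i K (m + d)).hom, rfl,
          epi_comp' hp inferInstance⟩
    refine isPseudoCoherentD_of_local fun z => ?_
    obtain ⟨W, hzW, E, α, hE, hE', hα⟩ := exists_local_kill_single hK' hft z
    obtain ⟨V', rfl⟩ : ∃ V' : X.Opens, i ⁻¹ᵁ V' = W := by
      obtain ⟨V, hV⟩ := (Topology.IsInducing.isOpen_iff i.isClosedEmbedding.isInducing).1 W.2
      exact ⟨⟨V, hV.1⟩, TopologicalSpace.Opens.ext hV.2⟩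
    refine ⟨_, (i ⁻¹ᵁ V').ι, inferInstance, ⟨z, hzW⟩, rfl, ?_⟩
    have hEpc : DCoh.IsPseudoCoherentD m (DerivedCategory.Q.obj E) :=
      (isPseudoCoherentD_iff m _).2 fun _ => ⟨⊤, trivial, (PerfOn.pcOn ⟨E, hE, ⟨Iso.refl _⟩⟩ m).restrict _⟩
    obtain ⟨D, g, k, hT, hD⟩ := hα
    refine isPseudoCoherentD_obj₂ _ hT hEpc (ih (i ∣_ V') (hO.restrict i V') D hD (fun q hq => hD q (by omega)) ?_)
    obtain ⟨e⟩ := nonempty_restrict_pushD i V' K
    exact isPseudoCoherentD_obj₃ _ ((pushD (i ∣_ V')).map_distinguished _ hT)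
      (pcU_push_single _ (hO.restrict i V') hE hE' (by omega))
      (isPseudoCoherentD_iso e (isPseudoCoherentD_restrict V'.ι h))

/-- Ascent along a closed immersion, in a range. -/
theorem pc_pushD_range {c b m : ℤ} (hcb : c + b ≤ m) : ∀ (d : ℕ) {Z X : Scheme.{u}} (i : Z ⟶ X)
    [IsClosedImmersion i], PCU i c → ∀ K : DCoh.D Z, AboveZero (m + d) K → AboveZero (b + 1) K →
    DCoh.IsPseudoCoherentD m K → DCoh.IsPseudoCoherentD m ((pushD i).obj K) := by
  intro d
  induction d with
  | zero => exact fun {Z X} i _ _ K hK _ _ => pc_zero (aboveZero_pushD i (by simpa using hK))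
  | succ d ih =>
    intro Z X i _ hO K hK hb h
    by_cases hd : b < m + d
    · exact ih i hO K (fun q hq => hb q (by omega)) hb h
    have hK' : AboveZero (m + d + 1) K := hK.mono (by push_cast; omega)
    have hft : CohB1.IsFT (DCoh.HD K (m + d)) :=
      isFT_top (isPseudoCoherentD_mono (show m ≤ m + d by omega) h) fun q hq => hK' q (by omega)
    refine isPseudoCoherentD_of_local fun x => ?_
    by_cases hx : x ∈ Set.range i
    · obtain ⟨z, rfl⟩ := hx
      obtain ⟨W, hzW, E, α, hE, hE', hα⟩ := exists_local_kill_single hK' hft z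
      obtain ⟨V', rfl⟩ : ∃ V' : X.Opens, i ⁻¹ᵁ V' = W := by
        obtain ⟨V, hV⟩ := (Topology.IsInducing.isOpen_iff i.isClosedEmbedding.isInducing).1 W.2
        exact ⟨⟨V, hV.1⟩, TopologicalSpace.Opens.ext hV.2⟩
      refine ⟨_, V'.ι, inferInstance, ⟨i.base z, hzW⟩, rfl, ?_⟩
      obtain ⟨e⟩ := nonempty_restrict_pushD i V' K
      refine isPseudoCoherentD_iso e.symm ?_
      have hEpc : DCoh.IsPseudoCoherentD (m + 1) (DerivedCategory.Q.obj E) :=
        (isPseudoCoherentD_iff _ _).2 fun _ => ⟨⊤, trivial, (PerfOn.pcOn ⟨E, hE, ⟨Iso.refl _⟩⟩ _).restrict _⟩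
      obtain ⟨D, g, k, hT, hD⟩ := hα
      refine isPseudoCoherentD_obj₂ _ ((pushD (i ∣_ V')).map_distinguished _ hT)
        (pcU_push_single _ (hO.restrict i V') hE hE' (by omega))
        (ih (i ∣_ V') (hO.restrict i V') D hD (fun q hq => hD q (by omega)) ?_)
      exact isPseudoCoherentD_obj₃ _ hT hEpc (isPseudoCoherentD_restrict _ h)
    · let V : X.Opens := ⟨(Set.range i)ᶜ, i.isClosedEmbedding.isClosed_range.isOpen_compl⟩
      exact ⟨V, V.ι, inferInstance, ⟨x, hx⟩, rfl, isPC_restrict_off i V disjoint_compl_left m K⟩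

theorem pc_of_pushD_level {c b m : ℤ} (hcb : c + b ≤ m + 1) (hO : PCU i c) {K : DCoh.D Z}
    (hb : AboveZero (b + 1) K) (h : DCoh.IsPseudoCoherentD m ((pushD i).obj K)) : DCoh.IsPseudoCoherentD m K :=
  pc_of_pushD_range hcb (b + 1 - m).toNat i hO K (fun q hq => hb q (by omega)) hb h

theorem pc_pushD_level {c b m : ℤ} (hcb : c + b ≤ m) (hO : PCU i c) {K : DCoh.D Z}
    (hb : AboveZero (b + 1) K) (h : DCoh.IsPseudoCoherentD m K) : DCoh.IsPseudoCoherentD m ((pushD i).obj K) :=
  pc_pushD_range hcb (b + 1 - m).toNat i hO K (fun q hq => hb q (by omega)) hb h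

end Groth.Agent.RelPCLib
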