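import Groth.Agent.PCHomLib.Rel
import Groth.Agent.PCHomLib.Flat

/-!
# Ring maps pseudo-coherent in a range
-/

set_option autoImplicit false
set_option linter.style.haveILetI false
set_option linter.unusedSectionVars false
set_option backward.isDefEq.respectTransparency false
set_option maxHeartbeats 1000000

universe u

open CategoryTheory MvPolynomial
attribute [local instance] HasDerivedCategory.standard

noncomputable section

namespace Groth.Agent.RelPCLib

open Groth.Agent.DRingLib Groth.Agent.PCHomLib

variable {A B : Type u} [CommRing A] [CommRing B]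

/-- The target is pseudo-coherent in degrees `≥ c` over the source. -/
def PCAt (c : ℤ) (φ : A →+* B) : Prop :=
  PC FFree c ((DRing.restrictD φ).obj (Dual.inD B (ModuleCat.of B B)))

theorem pcMap_iff_forall {φ : A →+* B} : PCMap φ ↔ ∀ c, PCAt c φ := Iff.rfl

theorem pcAt_iff {c : ℤ} (φ : A →+* B) :
    PCAt c φ ↔ PC FFree c (Dual.inD A ((ModuleCat.restrictScalars.{u} φ).obj (ModuleCat.of B B))) := by
  obtain ⟨e⟩ := DRingLib.nonempty_restrictD_inD φ (ModuleCat.of B B)
  exact ⟨fun h => h.of_iso e, fun h => h.of_iso e.symm⟩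

attribute [local instance] MvPolynomial.algebraMvPolynomial

theorem pcAt_map {φ : A →+* B} {c : ℤ} (h : PCAt c φ) (σ : Type) :
    PCAt c (MvPolynomial.map (σ := σ) φ) := by
  letI := φ.toAlgebra
  haveI := hasLBaseChange (algebraMap A (MvPolynomial σ A))
  rw [pcAt_iff] at h ⊢
  have h0 : PC FFree c (Dual.inD A (ModuleCat.of A B)) :=
    pc_inD_congr (M := ((ModuleCat.restrictScalars.{u} φ).obj (ModuleCat.of B B))) (N := B)
      { toFun := id, invFun := id, map_add' := fun _ _ => rfl, map_smul' := fun _ _ => rfl,
        left_inv := fun _ => rfl, right_inv := fun _ => rfl } h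
  have hP := pc_lbc (algebraMap A (MvPolynomial σ A)) h0
  have e1 := lbcInDIso (algebraMap A (MvPolynomial σ A)) (flat_baseMod A (MvPolynomial σ A))
    (ModuleCat.of A B)
  haveI : Algebra.IsPushout A (MvPolynomial σ A) B (MvPolynomial σ B) := inferInstance
  have := pc_inD_congr (Algebra.IsPushout.out (R := A) (S := MvPolynomial σ A) (R' := B)
    (S' := MvPolynomial σ B)).equiv
    (pc_inD_congr (extendScalarsTensorEquiv A (MvPolynomial σ A) B) (hP.of_iso e1))
  exact pc_inD_congr (M := MvPolynomial σ B)
    (N := ((ModuleCat.restrictScalars.{u} (MvPolynomial.map (σ := σ) φ)).obj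
      (ModuleCat.of (MvPolynomial σ B) (MvPolynomial σ B))))
      { toFun := id, invFun := id, map_add' := fun _ _ => rfl, map_smul' := fun _ _ => rfl,
        left_inv := fun _ => rfl, right_inv := fun _ => rfl } this

/-- A presentation over the source of a polynomial ring over the target. -/
theorem exists_lift {c : ℤ} {n : ℕ} {ψ : MvPolynomial (Fin n) A →+* B} (hψ : Function.Surjective ψ)
    (h : PCAt c ψ) (k : ℕ) :
    ∃ (l : ℕ) (θ : MvPolynomial (Fin l) A →+* MvPolynomial (Fin k) B), Function.Surjective θ ∧
      θ.comp MvPolynomial.C = MvPolynomial.C.comp (ψ.comp MvPolynomial.C) ∧ PCAt c θ := by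
  let r := ((MvPolynomial.renameEquiv A finSumFinEquiv.symm).trans
    (MvPolynomial.sumAlgEquiv A (Fin k) (Fin n))).toRingEquiv
  refine ⟨k + n, (MvPolynomial.map ψ).comp r.toRingHom, (MvPolynomial.map_surjective ψ hψ).comp r.surjective,
    RingHom.ext fun a => by simp [r], ?_⟩
  exact (pc_restrict_comp (pcMap_of_bijective r.toRingHom r.bijective) (MvPolynomial.map ψ) _).1 (pcAt_map h (Fin k))

end Groth.Agent.RelPCLib
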