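import Groth.Agent.RelPCLib.Module
import Groth.Agent.RelPCLib.Range
import Groth.Agent.RelPCLib.RingMap

/-!
# Relative pseudo-coherence and composition
-/

set_option autoImplicit false
set_option backward.isDefEq.respectTransparency false
set_option linter.style.haveILetI false
set_option linter.unusedSectionVars false
set_option maxHeartbeats 1000000

universe u

open CategoryTheory CategoryTheory.Limits AlgebraicGeometry TopologicalSpace

attribute [local instance] HasDerivedCategory.standard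

noncomputable section

namespace Groth.Agent.RelPCLib

open Groth.Agent.DCohLib Groth.Agent.DRingLib Groth.Agent.PCHomLib

theorem pcU_spec {P Q : Type u} [CommRing P] [CommRing Q] {c : ℤ} {ψ : P →+* Q} (hψ : PCAt c ψ)
    [IsClosedImmersion (Spec.map (CommRingCat.ofHom ψ))] : PCU (Spec.map (CommRingCat.ofHom ψ)) c := by
  let f := Spec.map (CommRingCat.ofHom ψ)
  let T := (Scheme.Modules.pushforward f).obj (Coh.structureModule (Spec (CommRingCat.of Q)))
  haveI : Coh.IsQCoh (Coh.structureModule (Spec (CommRingCat.of Q))) := CohBase.isQCoh_structureModule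
  haveI : Coh.IsQCoh T := QCohLib.isQCoh_pushforward (Coh.structureModule (Spec (CommRingCat.of Q))) f
  refine isPseudoCoherentD_iso ((DerivedCategory.singleFunctorIsoCompQ _ 0).app T).symm
    ((DerSchH7.pc_single_iff T c).2 ?_)
  let N := (moduleSpecΓFunctor (R := CommRingCat.of P)).obj T
  let R := (ModuleCat.restrictScalars.{u} ψ).obj (ModuleCat.of Q Q)
  let θ : R →+ N := (Scheme.ΓSpecIso (CommRingCat.of Q)).inv.hom.toAddMonoidHom
  have hθ : Function.Bijective θ :=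
    ConcreteCategory.bijective_of_isIso ((Scheme.ΓSpecIso (CommRingCat.of Q)).inv)
  let l : R ≅ N := (AddEquiv.toLinearEquiv (AddEquiv.ofBijective θ hθ) fun a (x : Q) => by
    show (Scheme.ΓSpecIso (CommRingCat.of Q)).inv.hom (ψ a * x) =
      f.appTop ((Scheme.ΓSpecIso (CommRingCat.of P)).inv.hom a) * (Scheme.ΓSpecIso (CommRingCat.of Q)).inv.hom x
    rw [map_mul]
    exact congrArg (· * _) (ConcreteCategory.congr_hom (Scheme.ΓSpecIso_inv_naturality (CommRingCat.ofHom ψ)) a)).toModuleIso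
  exact ((pcAt_iff ψ).1 hψ).of_iso ((DerivedCategory.singleFunctor (ModuleCat.{u} P) 0).mapIso l)

variable {X : Scheme.{u}} {U : X.Opens} {P Q : Type u} [CommRing P] [CommRing Q]

theorem aboveZero_emb {φ : Q →+* Γ(X, U)} [IsClosedImmersion (emb U φ)] {b : ℤ} {K : DCoh.D X}
    (hK : AboveZero b K) : AboveZero b ((pushD (emb U φ)).obj ((DCoh.restrictD U.ι).obj K)) :=
  aboveZero_pushD _ fun q hq =>
    ((Scheme.Modules.restrictFunctor U.ι).map_isZero (hK q hq)).of_iso (restrictHDIso U.ι K q)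

theorem cpc_comp_descend {c b m : ℤ} (hcb : c + b ≤ m + 1) {K : DCoh.D X} (hK : AboveZero (b + 1) K)
    (hU : IsAffineOpen U) {φ : Q →+* Γ(X, U)} (hφ : Function.Surjective φ) {θ : P →+* Q}
    (hθs : Function.Surjective θ) (hθ : PCAt c θ) (h : CPC m K U (φ.comp θ)) : CPC m K U φ := by
  haveI := isClosedImmersion_emb hU hφ
  haveI := isClosedImmersion_emb hU (φ := φ.comp θ) (hφ.comp hθs)
  haveI : IsClosedImmersion (Spec.map (CommRingCat.ofHom θ)) := IsClosedImmersion.spec_of_surjective _ hθs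
  rw [cpc_iff] at h ⊢
  obtain ⟨e⟩ := nonempty_pushD_comp (emb U φ) (Spec.map (CommRingCat.ofHom θ)) (emb U (φ.comp θ)) (emb_comp φ θ)
    ((DCoh.restrictD U.ι).obj K)
  exact pc_of_pushD_level _ hcb (pcU_spec hθ) (aboveZero_emb hK) (isPseudoCoherentD_iso e.symm h)

theorem cpc_comp_ascend {c b m : ℤ} (hcb : c + b ≤ m) {K : DCoh.D X} (hK : AboveZero (b + 1) K)
    (hU : IsAffineOpen U) {φ : Q →+* Γ(X, U)} (hφ : Function.Surjective φ) {θ : P →+* Q}
    (hθs : Function.Surjective θ) (hθ : PCAt c θ) (h : CPC m K U φ) : CPC m K U (φ.comp θ) := by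
  haveI := isClosedImmersion_emb hU hφ
  haveI := isClosedImmersion_emb hU (φ := φ.comp θ) (hφ.comp hθs)
  haveI : IsClosedImmersion (Spec.map (CommRingCat.ofHom θ)) := IsClosedImmersion.spec_of_surjective _ hθs
  rw [cpc_iff] at h ⊢
  obtain ⟨e⟩ := nonempty_pushD_comp (emb U φ) (Spec.map (CommRingCat.ofHom θ)) (emb U (φ.comp θ)) (emb_comp φ θ)
    ((DCoh.restrictD U.ι).obj K)
  exact isPseudoCoherentD_iso e (pc_pushD_level _ hcb (pcU_spec hθ) (aboveZero_emb hK) h)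

/-- The test on the structure sheaf, read on rings. -/
theorem cpc_structure_iff {c : ℤ} {R : Type u} [CommRing R] {n : ℕ} (hU : IsAffineOpen U)
    {ψ : MvPolynomial (Fin n) R →+* Γ(X, U)} (hψ : Function.Surjective ψ) :
    CPC c (DCoh.inD X (Coh.structureModule X)) U ψ ↔ PCAt c ψ := by
  haveI := isClosedImmersion_emb hU hψ
  let M := Coh.structureModule X
  let T := (DerSchH7.chartFun U ψ).obj M
  haveI : Coh.IsQCoh (Coh.structureModule (U : Scheme.{u})) := CohBase.isQCoh_structureModule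
  haveI : IsAffine (U : Scheme.{u}) := hU
  haveI : Coh.IsQCoh T := isQCoh_of_iso'
    ((Scheme.Modules.pushforward (emb U ψ)).mapIso (restrictUnit U.ι)).symm
    (QCohLib.isQCoh_pushforward (Coh.structureModule U) (emb U ψ))
  obtain ⟨e, he⟩ := DerSchH7.exists_chart_sections_equiv M U ψ
  let N := (moduleSpecΓFunctor (R := CommRingCat.of (MvPolynomial (Fin n) R))).obj T
  let R' := (ModuleCat.restrictScalars.{u} ψ).obj (ModuleCat.of Γ(X, U) Γ(X, U))
  let l : R' ≅ N := (AddEquiv.toLinearEquiv (M := R') (M₂ := N) e fun p s => he p s).toModuleIso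
  let el := (DerivedCategory.singleFunctor (ModuleCat.{u} (MvPolynomial (Fin n) R)) 0).mapIso l
  let eQ := (DerivedCategory.singleFunctorIsoCompQ _ 0).app T
  rw [cpc_inD_iff, pcAt_iff]
  exact ⟨fun h => ((DerSchH7.pc_single_iff T c).1 (isPseudoCoherentD_iso eQ h)).of_iso el.symm,
    fun h => isPseudoCoherentD_iso eQ.symm ((DerSchH7.pc_single_iff T c).2 (h.of_iso el))⟩

section Mor

variable {Y Z : Scheme.{u}} (g : Y ⟶ Z)

theorem pcAt_of_rel {c : ℤ} (hg : DerSch.IsNPseudoCoherent g c) {V : Y.Opens} (hV : IsAffineOpen V) {W : Z.Opens}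
    (hW : IsAffineOpen W) {h : V ≤ g ⁻¹ᵁ W} {n : ℕ} {ψ : MvPolynomial (Fin n) Γ(Z, W) →+* Γ(Y, V)}
    (hψ : DerSch.IsChart g V W h ψ) : PCAt c ψ :=
  (cpc_structure_iff hV hψ.1).1 ((cpc_of_rel g hg hV hW hψ).of_iso
    ((DerivedCategory.singleFunctorIsoCompQ Y.Modules 0).app (Coh.structureModule Y)).symm)

theorem pcHom_appLE_of_rel [LocallyOfFiniteType g] (hg : ∀ c : ℤ, DerSch.IsNPseudoCoherent g c) {V : Y.Opens}
    (hV : IsAffineOpen V) {W : Z.Opens} (hW : IsAffineOpen W) (h : V ≤ g ⁻¹ᵁ W) :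
    PCHom (g.appLE W V h).hom := by
  obtain ⟨n, ψ, hψ⟩ := exists_chart g h (g.finiteType_appLE hW hV h)
  exact ⟨n, ψ, hψ.1, hψ.2, fun c => pcAt_of_rel g (hg c) hV hW hψ⟩

theorem pcHom_appLE_of_flat [Flat g] [LocallyOfFinitePresentation g] {V : Y.Opens}
    (hV : IsAffineOpen V) {W : Z.Opens} (hW : IsAffineOpen W) (h : V ≤ g ⁻¹ᵁ W) :
    PCHom (g.appLE W V h).hom := by
  letI := (g.appLE W V h).hom.toAlgebra
  haveI : Module.Flat Γ(Z, W) Γ(Y, V) := g.flat_appLE hW hV h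
  haveI : Algebra.FinitePresentation Γ(Z, W) Γ(Y, V) := g.finitePresentation_appLE hW hV h
  exact pcHom_of_flat (A := Γ(Z, W)) (B := Γ(Y, V))

variable {X : Scheme.{u}} (f : X ⟶ Y)

theorem exists_affine_triple (x : X) : ∃ (U : X.Opens) (V : Y.Opens) (W : Z.Opens),
    IsAffineOpen U ∧ IsAffineOpen V ∧ IsAffineOpen W ∧ x ∈ U ∧ U ≤ f ⁻¹ᵁ V ∧ V ≤ g ⁻¹ᵁ W := by
  obtain ⟨V, W, hV, hW, hy, hVW⟩ := exists_affine_pair g (f.base x)
  obtain ⟨_, ⟨U : X.Opens, hU, rfl⟩, hx, hUV⟩ :=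
    X.isBasis_affineOpens.exists_subset_of_mem_open (a := x) (show x ∈ f ⁻¹ᵁ V from hy) (f ⁻¹ᵁ V).isOpen
  exact ⟨U, V, W, hU, hV, hW, hx, hUV, hVW⟩

/-- Composition with a pseudo-coherent morphism. -/
theorem rel_comp_iff [LocallyOfFiniteType f] [LocallyOfFiniteType g]
    (hp : ∀ (V : Y.Opens) (W : Z.Opens) (h : V ≤ g ⁻¹ᵁ W), IsAffineOpen V → IsAffineOpen W →
      PCHom (g.appLE W V h).hom) (m : ℤ) (K : DCoh.D X) :
    DerSch.IsPseudoCoherentRel f m K ↔ DerSch.IsPseudoCoherentRel (f ≫ g) m K := by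
  have key : ∀ (U : X.Opens) (V : Y.Opens) (W : Z.Opens) (_ : IsAffineOpen U) (_ : IsAffineOpen V)
      (_ : IsAffineOpen W) (h₁ : U ≤ f ⁻¹ᵁ V) (h₂ : V ≤ g ⁻¹ᵁ W) (h₃ : U ≤ (f ≫ g) ⁻¹ᵁ W),
      Test f m K U V h₁ ↔ Test (f ≫ g) m K U W h₃ := fun U V W hU hV hW h₁ h₂ h₃ => by
    obtain ⟨n, φ, hφ⟩ := exists_chart f h₁ (f.finiteType_appLE hV hU h₁)
    obtain ⟨k, χ, hχ⟩ := exists_chart (f ≫ g) h₃ ((f ≫ g).finiteType_appLE hW hU h₃)
    rw [test_iff_of_chart f hU hφ, test_iff_of_chart (f ≫ g) hU hχ]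
    refine (cpc_base hU (hp V W h₂ hV hW) hχ.1 hφ.1 ?_).symm
    rw [hχ.2, hφ.2, ← CommRingCat.hom_comp, Scheme.Hom.appLE_comp_appLE]
  constructor
  · intro h
    refine rel_of_test (f ≫ g) fun x => ?_
    obtain ⟨U, V, W, hU, hV, hW, hx, hUV, hVW⟩ := exists_affine_triple g f x
    have h₃ : U ≤ (f ≫ g) ⁻¹ᵁ W := hUV.trans (f.preimage_mono hVW)
    exact ⟨U, W, h₃, hU, hW, hx, (key U V W hU hV hW hUV hVW h₃).1 (test_of_rel f h hU hV hUV)⟩
  · intro h
    refine rel_of_test f fun x => ?_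
    obtain ⟨U, V, W, hU, hV, hW, hx, hUV, hVW⟩ := exists_affine_triple g f x
    have h₃ : U ≤ (f ≫ g) ⁻¹ᵁ W := hUV.trans (f.preimage_mono hVW)
    exact ⟨U, V, hUV, hU, hV, hx, (key U V W hU hV hW hUV hVW h₃).2 (test_of_rel (f ≫ g) h hU hW h₃)⟩

theorem exists_comp_chart [LocallyOfFiniteType g] {U : X.Opens} {V : Y.Opens} {W : Z.Opens} (hV : IsAffineOpen V)
    (hW : IsAffineOpen W) {h₁ : U ≤ f ⁻¹ᵁ V} (h₂ : V ≤ g ⁻¹ᵁ W) (h₃ : U ≤ (f ≫ g) ⁻¹ᵁ W) {n : ℕ}
    {φ : MvPolynomial (Fin n) Γ(Y, V) →+* Γ(X, U)} (hφ : DerSch.IsChart f U V h₁ φ) {c : ℤ}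
    (hg : DerSch.IsNPseudoCoherent g c) :
    ∃ (l : ℕ) (θ : MvPolynomial (Fin l) Γ(Z, W) →+* MvPolynomial (Fin n) Γ(Y, V)),
      Function.Surjective θ ∧ PCAt c θ ∧ DerSch.IsChart (f ≫ g) U W h₃ (φ.comp θ) := by
  obtain ⟨k, ψ, hψ⟩ := exists_chart g h₂ (g.finiteType_appLE hW hV h₂)
  obtain ⟨l, θ, hθ, hθc, hθp⟩ := exists_lift hψ.1 (pcAt_of_rel g hg hV hW hψ) n
  refine ⟨l, θ, hθ, hθp, hφ.1.comp hθ, ?_⟩
  rw [RingHom.comp_assoc, hθc, hψ.2, ← RingHom.comp_assoc, hφ.2, ← CommRingCat.hom_comp,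
    Scheme.Hom.appLE_comp_appLE]

theorem rel_of_comp [LocallyOfFiniteType f] [LocallyOfFiniteType g] {m c b : ℤ} (hcb : c + b ≤ m + 1) {K : DCoh.D X}
    (hK : AboveZero (b + 1) K) (hg : DerSch.IsNPseudoCoherent g c)
    (h : DerSch.IsPseudoCoherentRel (f ≫ g) m K) : DerSch.IsPseudoCoherentRel f m K := by
  refine rel_of_test f fun x => ?_
  obtain ⟨U, V, W, hU, hV, hW, hx, hUV, hVW⟩ := exists_affine_triple g f x
  have h₃ : U ≤ (f ≫ g) ⁻¹ᵁ W := hUV.trans (f.preimage_mono hVW)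
  obtain ⟨n, φ, hφ⟩ := exists_chart f hUV (f.finiteType_appLE hV hU hUV)
  obtain ⟨l, θ, hθ, hθp, hχ⟩ := exists_comp_chart g f hV hW hVW h₃ hφ hg
  exact ⟨U, V, hUV, hU, hV, hx, (test_iff_of_chart f hU hφ).2
    (cpc_comp_descend hcb hK hU hφ.1 hθ hθp (cpc_of_rel (f ≫ g) h hU hW hχ))⟩

theorem rel_comp_range [LocallyOfFiniteType f] [LocallyOfFiniteType g] {m c b : ℤ} (hcb : c + b ≤ m) {K : DCoh.D X}
    (hK : AboveZero (b + 1) K) (hg : DerSch.IsNPseudoCoherent g c)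
    (h : DerSch.IsPseudoCoherentRel f m K) : DerSch.IsPseudoCoherentRel (f ≫ g) m K := by
  refine rel_of_test (f ≫ g) fun x => ?_
  obtain ⟨U, V, W, hU, hV, hW, hx, hUV, hVW⟩ := exists_affine_triple g f x
  have h₃ : U ≤ (f ≫ g) ⁻¹ᵁ W := hUV.trans (f.preimage_mono hVW)
  obtain ⟨n, φ, hφ⟩ := exists_chart f hUV (f.finiteType_appLE hV hU hUV)
  obtain ⟨l, θ, hθ, hθp, hχ⟩ := exists_comp_chart g f hV hW hVW h₃ hφ hg
  exact ⟨U, W, h₃, hU, hW, hx, (test_iff_of_chart (f ≫ g) hU hχ).2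
    (cpc_comp_ascend hcb hK hU hφ.1 hθ hθp (cpc_of_rel f h hU hV hφ))⟩

theorem cpc_mono {m m' : ℤ} (hm : m ≤ m') {K : DCoh.D X} {U : X.Opens} {R : Type u} [CommRing R]
    {φ : R →+* Γ(X, U)} (h : CPC m K U φ) : CPC m' K U φ :=
  fun hc => isPseudoCoherentD_mono hm (h hc)

theorem rel_mono {m m' : ℤ} (hm : m ≤ m') {K : DCoh.D X} (h : DerSch.IsPseudoCoherentRel f m K) :
    DerSch.IsPseudoCoherentRel f m' K := by
  haveI := h.1
  exact rel_of_cpc f fun U V hle hU hV n φ hφ => cpc_mono hm (cpc_of_rel f h hU hV hφ)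

/-- Relative pseudo-coherence along a closed immersion. -/
theorem rel_closed_iff [IsClosedImmersion f] (m : ℤ) (K : DCoh.D X) :
    DerSch.IsPseudoCoherentRel f m K ↔ DCoh.IsPseudoCoherentD m ((pushD f).obj K) := by
  have key : ∀ (V : Y.Opens) (hV : IsAffineOpen V),
      Test f m K (f ⁻¹ᵁ V) V le_rfl ↔ DCoh.IsPseudoCoherentD m ((DCoh.restrictD V.ι).obj ((pushD f).obj K)) := by
    intro V hV
    have hU : IsAffineOpen (f ⁻¹ᵁ V) := hV.preimage f
    let ev : MvPolynomial (Fin 0) Γ(Y, V) →+* Γ(Y, V) := MvPolynomial.eval Fin.elim0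
    have hev : Function.Bijective ev := ⟨fun p q h => by
      obtain ⟨a, rfl⟩ := MvPolynomial.C_surjective (Fin 0) p
      obtain ⟨b, rfl⟩ := MvPolynomial.C_surjective (Fin 0) q
      simp only [ev, MvPolynomial.eval_C] at h
      rw [h], fun a => ⟨MvPolynomial.C a, by simp [ev]⟩⟩
    have hφ : DerSch.IsChart f (f ⁻¹ᵁ V) V le_rfl ((f.app V).hom.comp ev) :=
      ⟨(f.app_surjective V hV).comp hev.2, RingHom.ext fun a => by
        simp [ev, Scheme.Hom.app_eq_appLE]⟩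
    rw [test_iff_of_chart f hU hφ]
    haveI := isClosedImmersion_emb hU hφ.1
    haveI : IsClosedImmersion (emb V ev) := isClosedImmersion_emb hV hev.2
    haveI : IsIso (emb V ev) := by
      haveI : IsIso V.toSpecΓ := by
        rw [← hV.isoSpec_hom]
        infer_instance
      haveI : IsIso (CommRingCat.ofHom ev) := (ConcreteCategory.isIso_iff_bijective _).2 hev
      delta emb
      infer_instance
    have hcomp : (f ∣_ V) ≫ emb V ev = emb (f ⁻¹ᵁ V) ((f.app V).hom.comp ev) := by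
      rw [emb, emb, CommRingCat.ofHom_comp, Spec.map_comp, ← Category.assoc, ← Category.assoc]
      congr 1
      exact (Scheme.Opens.toSpecΓ_naturality f V).symm
    rw [cpc_iff]
    obtain ⟨e1⟩ := nonempty_restrict_pushD f V K
    obtain ⟨e2⟩ := nonempty_pushD_comp (f ∣_ V) (emb V ev) (emb (f ⁻¹ᵁ V) ((f.app V).hom.comp ev)) hcomp
      ((DCoh.restrictD (f ⁻¹ᵁ V).ι).obj K)
    rw [← pc_pushD_iso_iff (asIso (emb V ev)) m ((DCoh.restrictD V.ι).obj ((pushD f).obj K))]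
    let e := (pushD (emb V ev)).mapIso e1 ≪≫ e2
    exact ⟨isPseudoCoherentD_iso e.symm, isPseudoCoherentD_iso e⟩
  constructor
  · intro h
    refine isPseudoCoherentD_of_local fun y => ?_
    obtain ⟨_, ⟨V : Y.Opens, hV, rfl⟩, hy, -⟩ :=
      Y.isBasis_affineOpens.exists_subset_of_mem_open (a := y) (Set.mem_univ _) isOpen_univ
    exact ⟨V, V.ι, inferInstance, ⟨y, hy⟩, rfl,
      (key V hV).1 (test_of_rel f h (hV.preimage f) hV le_rfl)⟩
  · intro h
    refine rel_of_test f fun x => ?_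
    obtain ⟨_, ⟨V : Y.Opens, hV, rfl⟩, hy, -⟩ :=
      Y.isBasis_affineOpens.exists_subset_of_mem_open (a := f.base x) (Set.mem_univ _) isOpen_univ
    exact ⟨f ⁻¹ᵁ V, V, le_rfl, hV.preimage f, hV, hy, (key V hV).2 (isPseudoCoherentD_restrict V.ι h)⟩

/-- Relative pseudo-coherence over the identity. -/
theorem rel_id_iff (m : ℤ) (K : DCoh.D X) :
    DerSch.IsPseudoCoherentRel (𝟙 X) m K ↔ DCoh.IsPseudoCoherentD m K := by
  rw [rel_closed_iff (𝟙 X)]
  obtain ⟨e⟩ := nonempty_restrictD_pushInv (Iso.refl X) K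
  exact (show _ ↔ DCoh.IsPseudoCoherentD m ((DCoh.restrictD (Iso.refl X).hom).obj K) from
    ⟨isPseudoCoherentD_iso e.symm, isPseudoCoherentD_iso e⟩).trans (pc_restrict_iso_iff (Iso.refl X) m K)

end Mor

end Groth.Agent.RelPCLib
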