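import Groth.Agent.RelPCLib.Push
import Groth.Agent.DCohLib.ProjClosed
import Groth.Agent.DCohLib.ProjMap
import Groth.Agent.DCohLib.PullPerf
import Groth.Agent.S12131
import Groth.Agent.EtAlgEasy.PrinPartFlat

/-!
# Inverse images along flat morphisms and direct images along closed immersions
-/

set_option autoImplicit false
set_option backward.isDefEq.respectTransparency false
set_option linter.style.haveILetI false
set_option linter.unusedSectionVars false
set_option maxHeartbeats 1000000

universe u

open CategoryTheory CategoryTheory.Limits AlgebraicGeometry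

attribute [local instance] HasDerivedCategory.standard

noncomputable section

namespace Groth.Agent.RelPCLib

open Groth.Agent.DCohLib

variable {X Y : Scheme.{u}}

section Flat

variable (g : X ⟶ Y) [Flat g]

instance preservesFiniteLimits_pullback : PreservesFiniteLimits (Scheme.Modules.pullback g) :=
  Groth.Agent.EtAlgEasy.PrinPartFlat.preservesFiniteLimits_pullback_of_flat g

instance preservesFiniteColimits_pullback : PreservesFiniteColimits (Scheme.Modules.pullback g) := by
  haveI : PreservesColimitsOfSize.{0, 0} (Scheme.Modules.pullback g) :=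
    (Scheme.Modules.pullbackPushforwardAdjunction g).leftAdjoint_preservesColimits
  infer_instance

/-- Inverse images along flat morphisms are computed termwise. -/
theorem nonempty_lpull_flat [DCoh.HasLpull g] (K : CochainComplex Y.Modules ℤ) :
    Nonempty ((DCoh.Lpull g).obj (DerivedCategory.Q.obj K) ≅
      DerivedCategory.Q.obj (((Scheme.Modules.pullback g).mapHomologicalComplex (ComplexShape.up ℤ)).obj K)) := by
  let Q := HomotopyCategory.quotient Y.Modules (ComplexShape.up ℤ)
  haveI : QuasiIso ((resXπ Y).app K) := quasiIso_resXπ K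
  haveI : QuasiIso (((Scheme.Modules.pullback g).mapHomologicalComplex (ComplexShape.up ℤ)).map ((resXπ Y).app K)) :=
    inferInstance
  haveI : IsIso ((lpullCounit g).app (Q.obj K)) :=
    (pullAdapted g).isIso_app_of_comp (W' := HomotopyCategory.quasiIso Y.Modules (ComplexShape.up ℤ))
      Q DerivedCategory.Qh (DCoh.Lpull g) (lpullCounit g) K
      (Localization.inverts DerivedCategory.Qh (HomotopyCategory.quasiIso X.Modules (ComplexShape.up ℤ)) _
        ((HomotopyCategory.quotient_map_mem_quasiIso_iff _).2 ((HomologicalComplex.mem_quasiIso_iff _).2 this)))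
  exact ⟨(DCoh.Lpull g).mapIso ((DerivedCategory.quotientCompQhIso Y.Modules).app K).symm ≪≫
    asIso ((lpullCounit g).app (Q.obj K)) ≪≫
      (DerivedCategory.quotientCompQhIso X.Modules).app _⟩

/-- The derived inverse image along a flat morphism. -/
abbrev pullD : DCoh.D Y ⥤ DCoh.D X := (Scheme.Modules.pullback g).mapDerivedCategory

theorem nonempty_lpull_pullD [DCoh.HasLpull g] (K : DCoh.D Y) :
    Nonempty ((DCoh.Lpull g).obj K ≅ (pullD g).obj K) := by
  let e := DerivedCategory.Q.objObjPreimageIso K
  obtain ⟨e'⟩ := nonempty_lpull_flat g (DerivedCategory.Q.objPreimage K)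
  exact ⟨(DCoh.Lpull g).mapIso e.symm ≪≫ e' ≪≫
    ((Scheme.Modules.pullback g).mapDerivedCategoryFactors.app _).symm ≪≫ (pullD g).mapIso e⟩

theorem pc_pullD {m : ℤ} {K : DCoh.D Y} (hK : DCoh.IsPseudoCoherentD m K) :
    DCoh.IsPseudoCoherentD m ((pullD g).obj K) := by
  obtain ⟨e⟩ := nonempty_lpull_pullD g K
  exact isPseudoCoherentD_iso e (isPseudoCoherentD_lpull g m K hK)

end Flat

section BaseChange

/-- The structure sheaf is a unit on the left. -/
def tmodLeftUnit (M : X.Modules) : tmod (Coh.structureModule X) M ≅ M :=
  ((symmIso X.sheaf).app (Coh.structureModule X)).app M ≪≫ (Groth.Agent.ModTensor.tensorUnitRight X.sheaf).app M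

variable {Z' Z X' : Scheme.{u}} {g' : Z' ⟶ Z} {i' : Z' ⟶ X'} {i : Z ⟶ X} {g : X' ⟶ X}

/-- A closed immersion commutes with inverse images. -/
theorem nonempty_pushPullIso (hc : IsPullback g' i' i g) [IsClosedImmersion i] :
    Nonempty (Scheme.Modules.pushforward i ⋙ Scheme.Modules.pullback g ≅
      Scheme.Modules.pullback g' ⋙ Scheme.Modules.pushforward i') := by
  haveI : IsClosedImmersion i' := MorphismProperty.of_isPullback hc inferInstance
  haveI : Coh.IsQCoh (Coh.structureModule Z) := CohBase.isQCoh_structureModule
  have hA := Groth.Agent.S12131.result i g g' i' hc (Coh.structureModule Z)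
  let eA : (Scheme.Modules.pullback g).obj ((Scheme.Modules.pushforward i).obj (Coh.structureModule Z)) ≅
      (Scheme.Modules.pushforward i').obj ((Scheme.Modules.pullback g').obj (Coh.structureModule Z)) :=
    @asIso _ _ _ _ _ hA
  have hu : ∀ M : Z.Modules, IsIso ((Scheme.Modules.pullbackPushforwardAdjunction i').unit.app
      ((Scheme.Modules.pullback g).obj ((Scheme.Modules.pushforward i).obj M))) := fun M => by
    let N := (Scheme.Modules.pushforward i).obj M
    let eN : tmod ((Scheme.Modules.pushforward i).obj (Coh.structureModule Z)) N ≅ N :=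
      projIso i (Coh.structureModule Z) N ≪≫ (Scheme.Modules.pushforward i).mapIso
        (CategoryTheory.Iso.trans (tmodLeftUnit ((Scheme.Modules.pullback i).obj N))
          (haveI := isIso_counit_closedImmersion i M
           asIso ((Scheme.Modules.pullbackPushforwardAdjunction i).counit.app M)))
    let A := (Scheme.Modules.pushforward i').obj ((Scheme.Modules.pullback g').obj (Coh.structureModule Z))
    let eT : (Scheme.Modules.pullback g).obj N ≅ tmod A ((Scheme.Modules.pullback g).obj N) :=
      (Scheme.Modules.pullback g).mapIso eN.symm ≪≫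
        ((pullTensorBiIsoSch g).app ((Scheme.Modules.pushforward i).obj (Coh.structureModule Z))).app N ≪≫
        ((DCoh.tensorBi (X := X')).mapIso eA).app _
    haveI := isIso_unit_of_suppOn i' (suppOn_tensor i' (suppOn_pushforward i'
      ((Scheme.Modules.pullback g').obj (Coh.structureModule Z))) ((Scheme.Modules.pullback g).obj N))
    exact (NatTrans.isIso_app_iff_of_iso (Scheme.Modules.pullbackPushforwardAdjunction i').unit eT).2 this
  let η := Functor.whiskerLeft (Scheme.Modules.pushforward i ⋙ Scheme.Modules.pullback g)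
    (Scheme.Modules.pullbackPushforwardAdjunction i').unit
  haveI : ∀ M, IsIso (η.app M) := hu
  haveI : IsIso η := NatIso.isIso_of_isIso_app η
  let ε := (Scheme.Modules.pullbackPushforwardAdjunction i).counit
  haveI : ∀ M, IsIso (ε.app M) := isIso_counit_closedImmersion i
  haveI : IsIso ε := NatIso.isIso_of_isIso_app ε
  let w : Scheme.Modules.pullback g ⋙ Scheme.Modules.pullback i' ≅
      Scheme.Modules.pullback i ⋙ Scheme.Modules.pullback g' :=
    Scheme.Modules.pullbackComp i' g ≪≫ Scheme.Modules.pullbackCongr hc.w.symm ≪≫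
      (Scheme.Modules.pullbackComp g' i).symm
  let α : (Scheme.Modules.pushforward i ⋙ Scheme.Modules.pullback g) ⋙ Scheme.Modules.pullback i' ≅
      Scheme.Modules.pullback g' :=
    Functor.associator _ _ _ ≪≫ Functor.isoWhiskerLeft _ w ≪≫ (Functor.associator _ _ _).symm ≪≫
      Functor.isoWhiskerRight (asIso ε) _ ≪≫ Functor.leftUnitor _
  exact ⟨(Functor.rightUnitor _).symm ≪≫ asIso η ≪≫ (Functor.associator _ _ _).symm ≪≫
    Functor.isoWhiskerRight α (Scheme.Modules.pushforward i')⟩

theorem nonempty_pullD_pushD (hc : IsPullback g' i' i g) [IsClosedImmersion i] [IsClosedImmersion i'] [Flat g] [Flat g']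
    (K : DCoh.D Z) :
    Nonempty ((pullD g).obj ((pushD i).obj K) ≅ (pushD i').obj ((pullD g').obj K)) := by
  obtain ⟨β⟩ := nonempty_pushPullIso hc
  let F := DerivedCategory.Q.objPreimage K
  let e := DerivedCategory.Q.objObjPreimageIso K
  let c : ((Scheme.Modules.pullback g).mapHomologicalComplex (ComplexShape.up ℤ)).obj ((pushC i).obj F) ≅
      (pushC i').obj (((Scheme.Modules.pullback g').mapHomologicalComplex (ComplexShape.up ℤ)).obj F) :=
    HomologicalComplex.Hom.isoOfComponents (fun q => β.app (F.X q))
      (fun p q _ => (β.hom.naturality (F.d p q)).symm)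
  exact ⟨(pullD g).mapIso ((pushD i).mapIso e.symm ≪≫ pushDQ i F) ≪≫
    (Scheme.Modules.pullback g).mapDerivedCategoryFactors.app _ ≪≫ DerivedCategory.Q.mapIso c ≪≫
    (pushDQ i' _).symm ≪≫ (pushD i').mapIso
      (((Scheme.Modules.pullback g').mapDerivedCategoryFactors.app _).symm ≪≫ (pullD g').mapIso e)⟩

end BaseChange

end Groth.Agent.RelPCLib
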