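import Groth.Agent.RelPCLib.TorBC
import Groth.Agent.DCohLib.LpullTensor
import Groth.Agent.DCohLib.LTensorCongr
import Groth.Agent.DCohLib.PullComp
import Groth.Agent.DCohLib.ProjMap
import Groth.Agent.DCohLib.TensorLinv
import Groth.Agent.TildeD.TensorQCoh

/-!
# Tor amplitude of external tensor products over flat bases
-/

set_option autoImplicit false
set_option backward.isDefEq.respectTransparency false
set_option linter.style.haveILetI false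
set_option linter.unusedSectionVars false
set_option maxHeartbeats 1000000

universe u

open CategoryTheory CategoryTheory.Limits AlgebraicGeometry MonoidalCategory
attribute [local instance] HasDerivedCategory.standard

noncomputable section

namespace Groth.Agent.RelPCLib

open Groth.Agent.DCohLib Groth.Agent.DerSchH7

/-- K-flat representatives. -/
theorem exists_kflat_rep {X : Scheme.{u}} (K : DCoh.D X) :
    ∃ P : CochainComplex X.Modules ℤ, DCoh.IsKFlat P ∧ Nonempty (DCoh.toD X P ≅ K) :=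
  ⟨(resX X).obj (DerivedCategory.Q.objPreimage K), isKFlat_resX _, ⟨resXIso K⟩⟩

/-- The derived inverse image of the structure sheaf. -/
theorem nonempty_lpull_unitCx {X Y : Scheme.{u}} (f : X ⟶ Y) [DCoh.HasLpull f] :
    Nonempty ((DCoh.Lpull f).obj (DCoh.toD Y (DerSch.unitCx Y)) ≅ DCoh.toD X (DerSch.unitCx X)) :=
  ⟨lpullIsoK f (DerSch.unitCx Y) isKFlat_unitCx ≪≫ DerivedCategory.Q.mapIso
    ((HomologicalComplex.singleMapHomologicalComplex (Scheme.Modules.pullback f) (ComplexShape.up ℤ) 0).app _ ≪≫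
      (HomologicalComplex.single _ (ComplexShape.up ℤ) 0).mapIso (pullStructureIso f))⟩

/-- The derived tensor product may be formed on either side. -/
theorem nonempty_lTensor_symm {X : Scheme.{u}} (E F : CochainComplex X.Modules ℤ)
    [DCoh.HasLTensorCx E] [DCoh.HasLTensorCx F] :
    Nonempty ((DCoh.LTensorCx E).obj (DCoh.toD X F) ≅ (DCoh.LTensorCx F).obj (DCoh.toD X E)) := by
  let P := (resX X).obj F
  let Q := (resX X).obj E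
  haveI := quasiIso_resXπ E
  haveI := quasiIso_resXπ F
  haveI : DCoh.HasLTensorCx P := hasLTensorCx P
  haveI : DCoh.HasLTensorCx Q := hasLTensorCx Q
  obtain ⟨eQ⟩ := nonempty_lTensor_of_qis ((resXπ X).app E) ‹_›
  obtain ⟨eP⟩ := nonempty_lTensor_of_qis ((resXπ X).app F) ‹_›
  haveI : IsIso (DerivedCategory.Q.map ((resXπ X).app E)) :=
    (DerivedCategory.isIso_Q_map_iff_quasiIso (C := X.Modules) _).2 ‹_›
  haveI : IsIso (DerivedCategory.Q.map ((resXπ X).app F)) :=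
    (DerivedCategory.isIso_Q_map_iff_quasiIso (C := X.Modules) _).2 ‹_›
  exact ⟨(DCoh.LTensorCx E).mapIso (asIso (DerivedCategory.Q.map ((resXπ X).app F))).symm ≪≫
    eQ.symm.app _ ≪≫ lTensorIso Q P (isKFlat_resX F) ≪≫
    DerivedCategory.Q.mapIso (TildeD.tensorCxSymm P Q) ≪≫ (lTensorIso P Q (isKFlat_resX E)).symm ≪≫
    eP.app _ ≪≫ (DCoh.LTensorCx F).mapIso (asIso (DerivedCategory.Q.map ((resXπ X).app E)))⟩

variable {S X₁ Y₁ X₂ Y₂ X Y : Scheme.{u}}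

/-- The standard factorisation of a product map. -/
theorem exists_prod_factor (f₁ : X₁ ⟶ Y₁) (q₁ : Y₁ ⟶ S) (f₂ : X₂ ⟶ Y₂) (q₂ : Y₂ ⟶ S)
    {pX₁ : X ⟶ X₁} {pX₂ : X ⟶ X₂} (hX : IsPullback pX₁ pX₂ (f₁ ≫ q₁) (f₂ ≫ q₂))
    {pY₁ : Y ⟶ Y₁} {pY₂ : Y ⟶ Y₂} (hY : IsPullback pY₁ pY₂ q₁ q₂)
    {f : X ⟶ Y} (hf₁ : f ≫ pY₁ = pX₁ ≫ f₁) (hf₂ : f ≫ pY₂ = pX₂ ≫ f₂) :
    ∃ (a : X ⟶ pullback q₁ (f₂ ≫ q₂)) (b : pullback q₁ (f₂ ≫ q₂) ⟶ Y), a ≫ b = f ∧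
      a ≫ pullback.snd _ _ = pX₂ ∧
      IsPullback pX₁ a f₁ (pullback.fst q₁ (f₂ ≫ q₂)) ∧ IsPullback (pullback.snd q₁ (f₂ ≫ q₂)) b f₂ pY₂ := by
  let a : X ⟶ pullback q₁ (f₂ ≫ q₂) := pullback.lift (pX₁ ≫ f₁) pX₂ (by rw [Category.assoc]; exact hX.w)
  let b : pullback q₁ (f₂ ≫ q₂) ⟶ Y := hY.lift (pullback.fst _ _) (pullback.snd _ _ ≫ f₂)
    (by rw [Category.assoc]; exact pullback.condition)
  have hb₁ : b ≫ pY₁ = pullback.fst _ _ := hY.lift_fst _ _ _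
  have hb₂ : b ≫ pY₂ = pullback.snd _ _ ≫ f₂ := hY.lift_snd _ _ _
  have ha₁ : a ≫ pullback.fst _ _ = pX₁ ≫ f₁ := pullback.lift_fst _ _ _
  have ha₂ : a ≫ pullback.snd _ _ = pX₂ := pullback.lift_snd _ _ _
  refine ⟨a, b, hY.hom_ext ?_ ?_, ha₂, ?_, ?_⟩
  · rw [Category.assoc, hb₁, ha₁, hf₁]
  · rw [Category.assoc, hb₂, ← Category.assoc, ha₂, hf₂]
  · exact IsPullback.of_bot (v₂₁ := pullback.snd q₁ (f₂ ≫ q₂)) (v₂₂ := q₁) (h₃₁ := f₂ ≫ q₂)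
      (by rw [ha₂]; exact hX) ha₁.symm (IsPullback.of_hasPullback q₁ (f₂ ≫ q₂))
  · exact IsPullback.of_bot (v₂₁ := pY₁) (v₂₂ := q₂) (h₃₁ := q₁)
      (by rw [hb₁]; exact (IsPullback.of_hasPullback q₁ (f₂ ≫ q₂)).flip) hb₂.symm hY.flip

variable (f₁ : X₁ ⟶ Y₁) (q₁ : Y₁ ⟶ S) (f₂ : X₂ ⟶ Y₂) (q₂ : Y₂ ⟶ S) [Flat q₂] [Flat (f₂ ≫ q₂)]
  {pX₁ : X ⟶ X₁} {pX₂ : X ⟶ X₂} {pY₁ : Y ⟶ Y₁} {pY₂ : Y ⟶ Y₂} {f : X ⟶ Y}

/-- Tor dimension of product maps. -/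
theorem hasTorAmplitude_prod_unit (hX : IsPullback pX₁ pX₂ (f₁ ≫ q₁) (f₂ ≫ q₂))
    (hY : IsPullback pY₁ pY₂ q₁ q₂) (hf₁ : f ≫ pY₁ = pX₁ ≫ f₁) (hf₂ : f ≫ pY₂ = pX₂ ≫ f₂)
    {a₁ b₁ a₂ b₂ : ℤ} (h₁ : DerSch.HasTorAmplitude f₁ a₁ b₁ (DerSch.unitCx X₁))
    (h₂ : DerSch.HasTorAmplitude f₂ a₂ b₂ (DerSch.unitCx X₂)) :
    DerSch.HasTorAmplitude f (a₁ + a₂) (b₁ + b₂) (DerSch.unitCx X) := by
  obtain ⟨a, b, rfl, -, hA, hB⟩ := exists_prod_factor f₁ q₁ f₂ q₂ hX hY hf₁ hf₂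
  haveI : Flat (pullback.fst q₁ (f₂ ≫ q₂)) := MorphismProperty.pullback_fst _ _ inferInstance
  obtain ⟨eA⟩ := nonempty_lpull_unitCx pX₁
  obtain ⟨eB⟩ := nonempty_lpull_unitCx (pullback.snd q₁ (f₂ ≫ q₂))
  exact hasTorAmplitude_comp a b (hasTorAmplitudeD_lpull_torIndep hY.flip hB _ h₂ _ ⟨eB.symm⟩) _
    (hasTorAmplitudeD_lpull_baseChange hA _ h₁ _ ⟨eA.symm⟩)

/-- Tor amplitude of external tensor products. -/
theorem hasTorAmplitudeD_externalTensor (hX : IsPullback pX₁ pX₂ (f₁ ≫ q₁) (f₂ ≫ q₂))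
    (hY : IsPullback pY₁ pY₂ q₁ q₂) (hf₁ : f ≫ pY₁ = pX₁ ≫ f₁) (hf₂ : f ≫ pY₂ = pX₂ ≫ f₂)
    (E₁ : CochainComplex X₁.Modules ℤ) {a₁ b₁ : ℤ} (h₁ : DerSch.HasTorAmplitude f₁ a₁ b₁ E₁)
    (E₂ : CochainComplex X₂.Modules ℤ) {a₂ b₂ : ℤ} (h₂ : DerSch.HasTorAmplitude f₂ a₂ b₂ E₂)
    [DCoh.HasLpull pX₁] [DCoh.HasLpull pX₂] (K₂ : CochainComplex X.Modules ℤ) [DCoh.HasLTensorCx K₂]
    (e₂ : DCoh.toD X K₂ ≅ (DCoh.Lpull pX₂).obj (DCoh.toD X₂ E₂)) :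
    DerSch.HasTorAmplitudeD f (a₁ + a₂) (b₁ + b₂)
      ((DCoh.LTensorCx K₂).obj ((DCoh.Lpull pX₁).obj (DCoh.toD X₁ E₁))) := by
  obtain ⟨a, b, rfl, hpX₂, hA, hB⟩ := exists_prod_factor f₁ q₁ f₂ q₂ hX hY hf₁ hf₂
  subst hpX₂
  haveI : Flat (pullback.fst q₁ (f₂ ≫ q₂)) := MorphismProperty.pullback_fst _ _ inferInstance
  obtain ⟨F, -, ⟨eF⟩⟩ := exists_kflat_rep ((DCoh.Lpull pX₁).obj (DCoh.toD X₁ E₁))
  obtain ⟨G, -, ⟨eG⟩⟩ := exists_kflat_rep ((DCoh.Lpull (pullback.snd q₁ (f₂ ≫ q₂))).obj (DCoh.toD X₂ E₂))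
  haveI : DCoh.HasLTensorCx F := hasLTensorCx F
  obtain ⟨ec⟩ := nonempty_lpullCompIso a (pullback.snd q₁ (f₂ ≫ q₂))
  obtain ⟨es⟩ := nonempty_lTensor_symm K₂ F
  rintro W ⟨eW⟩
  exact hasTorAmplitudeD_lTensor_lpull a b F (hasTorAmplitudeD_lpull_baseChange hA _ h₁ F ⟨eF⟩) G
    (hasTorAmplitudeD_lpull_torIndep hY.flip hB _ h₂ G ⟨eG⟩) W
    ⟨eW ≪≫ (DCoh.LTensorCx K₂).mapIso eF.symm ≪≫ es ≪≫ (DCoh.LTensorCx F).mapIso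
      (e₂ ≪≫ (ec.app _).symm ≪≫ (DCoh.Lpull a).mapIso eG.symm)⟩

end Groth.Agent.RelPCLib
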