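import Groth.Agent.RelPCLib.Open
import Groth.Agent.RelPCLib.ClosedPC
import Groth.Agent.FlatnLib.Main
import Groth.Agent.TildeFinLib.Basic
import Groth.Agent.QCohLib.Push

/-!
# Relative pseudo-coherence of a module
-/

set_option autoImplicit false
set_option backward.isDefEq.respectTransparency false
set_option linter.style.haveILetI false
set_option linter.unusedSectionVars false
set_option maxHeartbeats 1000000

universe u

open CategoryTheory CategoryTheory.Limits AlgebraicGeometry TopologicalSpace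
open CategoryTheory.Pretriangulated

attribute [local instance] HasDerivedCategory.standard

noncomputable section

namespace Groth.Agent.RelPCLib

open Groth.Agent.DCohLib

variable {Z X : Scheme.{u}}

theorem aboveZero_inD {m : ℤ} (hm : 0 < m) (M : X.Modules) : AboveZero m (DCoh.inD X M) :=
  fun i hi => DerivedCategory.isZero_of_isLE ((DerivedCategory.singleFunctor X.Modules 0).obj M) 0 i (by omega)

section ZeroStep

variable (i : Z ⟶ X) [IsClosedImmersion i]

theorem pc0_push_free (h : DCoh.IsPseudoCoherentD 0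
    (DCoh.inD X ((Scheme.Modules.pushforward i).obj (Coh.structureModule Z)))) : ∀ n : ℕ,
    DCoh.IsPseudoCoherentD 0 (DCoh.inD X ((Scheme.Modules.pushforward i).obj (FlatMod.freeMod Z n)))
  | 0 => by
    have hM : IsZero (FlatMod.freeMod Z 0) :=
      (IsZero.iff_id_eq_zero _).2 (Sigma.hom_ext _ _ fun a => a.elim0)
    exact pc_zero (aboveZero_zero _ ((DerivedCategory.singleFunctor X.Modules 0).map_isZero
      ((Scheme.Modules.pushforward i).map_isZero hM)))
  | n + 1 => by
    let P := Scheme.Modules.pushforward i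
    refine isPseudoCoherentD_iso ((DerivedCategory.singleFunctor X.Modules 0).mapIso
      (P.mapIso (freeModBiprod Z n 1))) ?_
    let S₀ := ShortComplex.mk (biprod.inl : FlatMod.freeMod Z n ⟶ FlatMod.freeMod Z n ⊞ FlatMod.freeMod Z 1)
      biprod.snd biprod.inl_snd
    have hS := ((ShortComplex.Splitting.ofHasBinaryBiproduct (FlatMod.freeMod Z n) (FlatMod.freeMod Z 1)).map P).shortExact
    refine isPseudoCoherentD_obj₂ _ hS.singleTriangle_distinguished (pc0_push_free h n) ?_
    exact isPseudoCoherentD_iso ((DerivedCategory.singleFunctor X.Modules 0).mapIso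
      (P.mapIso (freeModOne Z).symm)) h

theorem pc0_push_of_epi {n : ℕ} {N : Z.Modules} (p : FlatMod.freeMod Z n ⟶ N) [Epi p]
    (h : DCoh.IsPseudoCoherentD 0 (DCoh.inD X ((Scheme.Modules.pushforward i).obj (Coh.structureModule Z)))) :
    DCoh.IsPseudoCoherentD 0 (DCoh.inD X ((Scheme.Modules.pushforward i).obj N)) := by
  have hS : (ShortComplex.mk (kernel.ι p) p (kernel.condition p)).ShortExact :=
    { exact := ShortComplex.exact_of_f_is_kernel _ (kernelIsKernel p)
      mono_f := inferInstanceAs (Mono (kernel.ι p))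
      epi_g := inferInstanceAs (Epi p) }
  exact isPseudoCoherentD_obj₃ _ (hS.map_of_exact (Scheme.Modules.pushforward i)).singleTriangle_distinguished
    (pc_zero (aboveZero_inD (by omega) _)) (pc0_push_free i h n)

end ZeroStep

theorem pc0_push_of_isFT (i : Z ⟶ X) [IsClosedImmersion i] {N : Z.Modules} (hN : CohB1.IsFT N)
    (h : DCoh.IsPseudoCoherentD 0 (DCoh.inD X ((Scheme.Modules.pushforward i).obj (Coh.structureModule Z)))) :
    DCoh.IsPseudoCoherentD 0 (DCoh.inD X ((Scheme.Modules.pushforward i).obj N)) := by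
  refine isPseudoCoherentD_of_local fun x => ?_
  by_cases hx : x ∈ Set.range i
  · obtain ⟨z, rfl⟩ := hx
    obtain ⟨V₀, n, p, hz, hp⟩ := exists_free_epi hN z
    obtain ⟨V', hVU⟩ : ∃ V' : X.Opens, i ⁻¹ᵁ V' = V₀ := by
      obtain ⟨V, hV⟩ := (Topology.IsInducing.isOpen_iff i.isClosedEmbedding.isInducing).1 V₀.2
      exact ⟨⟨V, hV.1⟩, TopologicalSpace.Opens.ext hV.2⟩
    subst hVU
    refine ⟨V', V'.ι, inferInstance, ⟨i.base z, hz⟩, rfl, ?_⟩
    haveI := hp
    refine isPseudoCoherentD_iso (restrictInD V'.ι _ ≪≫ (DerivedCategory.singleFunctor _ 0).mapIso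
      ((restrictPushIso i V').app N)).symm (pc0_push_of_epi (i ∣_ V') p ?_)
    exact isPseudoCoherentD_iso (restrictInD V'.ι _ ≪≫ (DerivedCategory.singleFunctor _ 0).mapIso
      ((restrictPushIso i V').app _ ≪≫ (Scheme.Modules.pushforward (i ∣_ V')).mapIso (restrictUnit (i ⁻¹ᵁ V').ι)))
      (isPseudoCoherentD_restrict V'.ι h)
  · let V : X.Opens := ⟨(Set.range i)ᶜ, i.isClosedEmbedding.isClosed_range.isOpen_compl⟩
    refine ⟨V, V.ι, inferInstance, ⟨x, hx⟩, rfl, ?_⟩
    exact isPseudoCoherentD_iso ((DCoh.restrictD V.ι).mapIso (pushInD i N))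
      (isPC_restrict_off i V disjoint_compl_left 0 (DCoh.inD Z N))

variable {U : X.Opens} {R : Type u} [CommRing R] {n : ℕ} {φ : MvPolynomial (Fin n) R →+* Γ(X, U)}

/-- Finiteness of a quasi-coherent chart, read on sections. -/
theorem chart_isFP_iff (M : X.Modules)
    [hq : Coh.IsQCoh ((DerSchH7.chartFun U φ).obj M)] :
    CohB1.IsFP ((DerSchH7.chartFun U φ).obj M) ↔
      (letI := Module.compHom Γ(M, U) φ
       Module.FinitePresentation (MvPolynomial (Fin n) R) Γ(M, U)) := by
  let P := CommRingCat.of (MvPolynomial (Fin n) R)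
  let T := (DerSchH7.chartFun U φ).obj M
  haveI hqT : T.IsQuasicoherent := hq
  haveI : IsIso (Scheme.Modules.fromTildeΓ (R := P) T) :=
    Scheme.Modules.isIso_fromTildeΓ_of_isQuasicoherent (R := P) T
  let eT : tilde ((moduleSpecΓFunctor (R := P)).obj T) ≅ T := asIso (Scheme.Modules.fromTildeΓ (R := P) T)
  letI := Module.compHom Γ(M, U) φ
  obtain ⟨e, he⟩ := DerSchH7.exists_chart_sections_equiv M U φ
  let el := AddEquiv.toLinearEquiv e he
  refine ⟨fun h => ?_, fun h => ?_⟩
  · haveI := (TildeFinLib.isFP_tilde_iff _).1 (isFP_iso eT.symm h)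
    exact Module.FinitePresentation.of_equiv el.symm
  · haveI := Module.FinitePresentation.of_equiv el
    exact isFP_iso eT ((TildeFinLib.isFP_tilde_iff _).2 this)

/-- The direct image of the structure sheaf has finite type. -/
theorem pc0_emb (hU : IsAffineOpen U) (hφ : Function.Surjective φ) [IsClosedImmersion (emb U φ)] :
    DCoh.IsPseudoCoherentD 0 (DCoh.inD (Spec (CommRingCat.of (MvPolynomial (Fin n) R)))
      ((Scheme.Modules.pushforward (emb U φ)).obj (Coh.structureModule U))) := by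
  let P := CommRingCat.of (MvPolynomial (Fin n) R)
  let M := Coh.structureModule X
  let T := (DerSchH7.chartFun U φ).obj M
  let eU : T ≅ (Scheme.Modules.pushforward (emb U φ)).obj (Coh.structureModule U) :=
    (Scheme.Modules.pushforward (emb U φ)).mapIso (restrictUnit U.ι)
  refine isPseudoCoherentD_iso ((DerivedCategory.singleFunctor _ 0).mapIso eU) ((isPC_inD_iff T).1.2 ?_)
  haveI : Coh.IsQCoh (Coh.structureModule (U : Scheme.{u})) := CohBase.isQCoh_structureModule
  haveI : IsAffine (U : Scheme.{u}) := hU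
  haveI : Coh.IsQCoh T := isQCoh_of_iso' eU.symm (QCohLib.isQCoh_pushforward _ (emb U φ))
  haveI hqT : T.IsQuasicoherent := ‹Coh.IsQCoh T›
  haveI : IsIso (Scheme.Modules.fromTildeΓ (R := P) T) :=
    Scheme.Modules.isIso_fromTildeΓ_of_isQuasicoherent (R := P) T
  refine TildePerf.isFT_of_iso (asIso (Scheme.Modules.fromTildeΓ (R := P) T))
    ((TildeFinLib.isFT_tilde_iff _).2 ?_)
  obtain ⟨e, he⟩ := DerSchH7.exists_chart_sections_equiv M U φ
  letI := Module.compHom Γ(M, U) φ
  haveI : Module.Finite (MvPolynomial (Fin n) R) Γ(M, U) := by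
    refine ⟨⟨{show Γ(M, U) from (1 : Γ(X, U))}, eq_top_iff.2 fun s _ => ?_⟩⟩
    obtain ⟨p, hp⟩ := hφ (show Γ(X, U) from s)
    rw [Finset.coe_singleton, Submodule.mem_span_singleton]
    exact ⟨p, show φ p * (1 : Γ(X, U)) = _ by rw [mul_one, hp]⟩
  exact Module.Finite.equiv (AddEquiv.toLinearEquiv e he)

section Main

theorem isQCoh_res {Y : Scheme.{u}} (N : Y.Modules) [Coh.IsQCoh N] (W : Y.Opens) :
    Coh.IsQCoh ((Scheme.Modules.restrictFunctor W.ι).obj N) :=
  haveI : N.IsQuasicoherent := inferInstance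
  Scheme.Modules.isQuasicoherent_restrictFunctor _ _

variable {S : Scheme.{u}} (f : X ⟶ S) [LocallyOfFiniteType f] (M : X.Modules)

theorem rel_pos {m : ℤ} (hm : 0 < m) : DerSch.IsPseudoCoherentRel f m (DCoh.inD X M) :=
  rel_of_cpc f fun U V hle hU hV n φ hφ => by
    haveI := isClosedImmersion_emb hU hφ.1
    rw [cpc_inD_iff]
    exact pc_zero (aboveZero_inD hm _)

theorem rel_zero_iff : DerSch.IsPseudoCoherentRel f 0 (DCoh.inD X M) ↔ CohB1.IsFT M := by
  constructor
  · intro h
    refine isFT_of_local_epi fun x => ?_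
    obtain ⟨U, V, hU, hV, hx, hle⟩ := exists_affine_pair f x
    obtain ⟨n, φ, hφ⟩ := exists_chart f hle (f.finiteType_appLE hV hU hle)
    haveI := isClosedImmersion_emb hU hφ.1
    have hFT : CohB1.IsFT ((Scheme.Modules.restrictFunctor U.ι).obj M) :=
      isFT_of_push (emb U φ) ((isPC_inD_iff _).1.1 ((cpc_inD_iff M φ).1 (cpc_of_rel f h hU hV hφ)))
    obtain ⟨W, k, p, hxW, hp⟩ := exists_free_epi hFT ⟨x, hx⟩
    refine ⟨W, W.ι ≫ U.ι, inferInstance, ⟨⟨x, hx⟩, hxW⟩, k,
      p ≫ ((Scheme.Modules.restrictFunctorComp W.ι U.ι).app M).inv, rfl, epi_comp' hp inferInstance⟩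
  · intro h
    refine rel_of_cpc f fun U V hle hU hV n φ hφ => ?_
    haveI := isClosedImmersion_emb hU hφ.1
    rw [cpc_inD_iff]
    refine pc0_push_of_isFT (emb U φ) ?_ (pc0_emb hU hφ.1)
    exact (isPC_inD_iff _).1.1 (isPseudoCoherentD_iso (restrictInD U.ι M)
      (isPseudoCoherentD_restrict U.ι ((isPC_inD_iff M).1.2 h)))

theorem rel_neg_one_iff :
    DerSch.IsPseudoCoherentRel f (-1) (DCoh.inD X M) ↔ (Coh.IsQCoh M ∧ Flatn.IsRelFP f M) := by
  constructor
  · intro h
    haveI hq : Coh.IsQCoh M := isQCoh_of_local fun x => by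
      obtain ⟨U, V, hU, hV, hx, hle⟩ := exists_affine_pair f x
      obtain ⟨n, φ, hφ⟩ := exists_chart f hle (f.finiteType_appLE hV hU hle)
      exact ⟨U, hx, isQCoh_of_iso'
        ((Scheme.Modules.restrictFunctor U.ι).mapIso
          ((DerivedCategory.singleFunctorCompHomologyFunctorIso X.Modules 0).app M))
        (DerSchH7.isQCoh_HD_chart hU hφ.1 ((chartPC_iff (-1) _ hU hφ.1).2 (cpc_of_rel f h hU hV hφ)) 0 (by omega))⟩
    refine ⟨hq, FlatnLib.isRelFP_of_forall f M fun U V hle hU hV => ?_⟩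
    obtain ⟨n, φ, hφ⟩ := exists_chart f hle (f.finiteType_appLE hV hU hle)
    haveI := isClosedImmersion_emb hU hφ.1
    haveI : IsAffine (U : Scheme.{u}) := hU
    haveI : Coh.IsQCoh ((Scheme.Modules.restrictFunctor U.ι).obj M) := isQCoh_res M U
    haveI : Coh.IsQCoh ((DerSchH7.chartFun U φ).obj M) :=
      QCohLib.isQCoh_pushforward ((Scheme.Modules.restrictFunctor U.ι).obj M) (emb U φ)
    letI := (f.appLE V U hle).hom.toAlgebra
    exact ⟨n, ⟨φ, fun a => RingHom.congr_fun hφ.2 a⟩, hφ.1, (chart_isFP_iff M).1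
      ((isPC_inD_iff _).2.1 ((cpc_inD_iff M φ).1 (cpc_of_rel f h hU hV hφ)))⟩
  · rintro ⟨hq, hF⟩
    refine rel_of_test f fun x => ?_
    obtain ⟨U, V, hU, hV, hx, hle⟩ := exists_affine_pair f x
    letI := (f.appLE V U hle).hom.toAlgebra
    obtain ⟨n, ψ, hψ, hfp⟩ := FlatnLib.on_of_isRelFP f M hF hU hV hle
    have hφ : DerSch.IsChart f U V hle ψ.toRingHom := ⟨hψ, RingHom.ext fun a => ψ.commutes a⟩
    refine ⟨U, V, hle, hU, hV, hx, (test_iff_of_chart f hU hφ).2 ?_⟩
    haveI := isClosedImmersion_emb hU hφ.1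
    haveI : IsAffine (U : Scheme.{u}) := hU
    haveI : Coh.IsQCoh ((Scheme.Modules.restrictFunctor U.ι).obj M) := isQCoh_res M U
    haveI : Coh.IsQCoh ((DerSchH7.chartFun U ψ.toRingHom).obj M) :=
      QCohLib.isQCoh_pushforward ((Scheme.Modules.restrictFunctor U.ι).obj M) (emb U ψ.toRingHom)
    exact (cpc_inD_iff M _).2 ((isPC_inD_iff _).2.2 ((chart_isFP_iff M).2 hfp))

end Main

end Groth.Agent.RelPCLib
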