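import Groth.Agent.TildeTensorLib.Basic
import Groth.Agent.KFlat.MapTot
import Groth.Agent.TildeLpull.Adapted
import Groth.Agent.DCohLib.Symm

/-!
# The sheaf of a tensor product of complexes of modules
-/

set_option autoImplicit false
set_option backward.isDefEq.respectTransparency false
set_option linter.style.haveILetI false
set_option linter.unusedSectionVars false
set_option maxHeartbeats 1000000

universe u

open CategoryTheory CategoryTheory.Limits CategoryTheory.MonoidalCategory AlgebraicGeometry
open Groth.Agent.ParaFLib Groth.Agent.DCohLib Groth.Agent.TildeTensorLib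
open scoped TensorProduct

noncomputable section

namespace Groth.Agent.RelPCLib

variable {R : CommRingCat.{u}}

/-- The comparison is natural in the first module. -/
theorem alpha_natural_left {M M' : ModuleCat.{u} R} (f : M ⟶ M') (N : ModuleCat.{u} R) :
    (tilde.functor R).map (f ▷ N) ≫ (alpha M').app N =
      (alpha M).app N ≫ ((DCoh.tensorBi (X := Spec R)).map ((tilde.functor R).map f)).app ((tilde.functor R).obj N) := by
  show (tilde.functor R).map (f ▷ N) ≫ (tilde.adjunction.homEquiv _ _).symm (beta M' N) =
    (tilde.adjunction.homEquiv _ _).symm (beta M N) ≫ _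
  rw [← Adjunction.homEquiv_naturality_left_symm, ← Adjunction.homEquiv_naturality_right_symm]
  refine congrArg _ (ModuleCat.hom_ext (TensorProduct.ext' fun m n => ?_))
  show pairS (tilde M') (tilde N) (toTop M' (f.hom m)) (toTop N n) =
    (((DCoh.tensorBi (X := Spec R)).map (tilde.map f)).app (tilde N)).app ⊤
      (pairS (tilde M) (tilde N) (toTop M m) (toTop N n))
  rw [tensorBi_app_pairS_left]
  refine congrArg (pairS (tilde M') (tilde N) · (toTop N n)) ?_
  exact congr(($(tilde.toOpen_map_app f ⊤)).hom m).symm

theorem isIso_alpha_app (M N : ModuleCat.{u} R) : IsIso ((alpha M).app N) := by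
  haveI : PreservesColimitsOfSize.{u, u} (tilde.functor R ⋙ (DCoh.tensorBi (X := Spec R)).obj (tilde M)) :=
    TildeKFlat.preservesColimits_tensTil_obj R (tilde M)
  haveI : IsIso ((alpha M).app (ModuleCat.of R R)) := by
    show IsIso ((tilde.adjunction.homEquiv _ _).symm _)
    rw [Adjunction.homEquiv_counit]
    haveI : IsIso (beta M (ModuleCat.of R R)) :=
      (ConcreteCategory.isIso_iff_bijective _).2 (bijective_beta_self M)
    haveI : IsIso ((tilde.adjunction (R := R)).counit.app
        (((DCoh.tensorBi (X := Spec R)).obj (tilde M)).obj (tilde (ModuleCat.of R R)))) := by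
      haveI hq : Coh.IsQCoh (((DCoh.tensorBi (X := Spec R)).obj (tilde M)).obj (tilde (ModuleCat.of R R))) :=
        TildeD.isQCoh_tensorBi_tilde _ (TildeD.isQCoh_tilde M) _
      rw [tilde.adjunction.isIso_counit_app_iff_mem_essImage, essImage_tilde]
      exact hq
    exact @IsIso.comp_isIso _ _ _ _ _ _ _ ((tilde.functor R).map_isIso _) ‹_›
  haveI := TildeKFlat.isIso_of_isIso_app_self (alpha M) inferInstance
  infer_instance

variable (R) in
/-- Sheaves of tensor products, as an isomorphism of bifunctors. -/
def tildeTensorBiIso : curriedTensor (ModuleCat.{u} R) ⋙ (Functor.whiskeringRight _ _ _).obj (tilde.functor R) ≅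
    tilde.functor R ⋙ DCoh.tensorBi (X := Spec R) ⋙ (Functor.whiskeringLeft _ _ _).obj (tilde.functor R) :=
  NatIso.ofComponents (fun M => NatIso.ofComponents
      (fun N => @asIso _ _ _ _ ((alpha M).app N) (isIso_alpha_app M N))
      fun {N N'} g => (alpha M).naturality g)
    fun {M M'} f => NatTrans.ext (funext fun N => alpha_natural_left f N)

instance additive_tilBi : (tilde.functor R ⋙ DCoh.tensorBi (X := Spec R) ⋙
    (Functor.whiskeringLeft _ _ _).obj (tilde.functor R)).Additive :=
  Functor.additive_of_iso (tildeTensorBiIso R)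

instance additive_tilBi_obj (M : ModuleCat.{u} R) : ((tilde.functor R ⋙ DCoh.tensorBi (X := Spec R) ⋙
    (Functor.whiskeringLeft _ _ _).obj (tilde.functor R)).obj M).Additive :=
  inferInstanceAs (tilde.functor R ⋙ (DCoh.tensorBi (X := Spec R)).obj (tilde M)).Additive

/-- Sheaves of tensor products of complexes. -/
theorem nonempty_tilCx_tensor (K L : CochainComplex (ModuleCat.{u} R) ℤ) :
    Nonempty ((TildeLpull.tilCx R).obj (K ⊗ L : CochainComplex (ModuleCat.{u} R) ℤ) ≅
      (DCoh.tensorCx.obj ((TildeLpull.tilCx R).obj K)).obj ((TildeLpull.tilCx R).obj L)) :=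
  ⟨KFlat.mapTotIso (tildeTensorBiIso R) K L ≪≫
    HomologicalComplex₂.total.mapIso
      (K := (((tilde.functor R ⋙ DCoh.tensorBi (X := Spec R) ⋙ (Functor.whiskeringLeft _ _ _).obj (tilde.functor R))
        ).mapBifunctorHomologicalComplex (ComplexShape.up ℤ) (ComplexShape.up ℤ)).obj K |>.obj L)
      (L := ((DCoh.tensorBi (X := Spec R)).mapBifunctorHomologicalComplex (ComplexShape.up ℤ) (ComplexShape.up ℤ)).obj
        ((TildeLpull.tilCx R).obj K) |>.obj ((TildeLpull.tilCx R).obj L))
      (HomologicalComplex.Hom.isoOfComponents (fun p => HomologicalComplex.Hom.isoOfComponents (fun q => Iso.refl _)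
        (fun q q' _ => (Category.id_comp _).trans (Category.comp_id _).symm))
        (fun p p' _ => HomologicalComplex.hom_ext _ _ fun q => by
          simp only [HomologicalComplex.comp_f]
          erw [Category.id_comp]))
      (ComplexShape.up ℤ)⟩

end Groth.Agent.RelPCLib
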