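import Groth.Agent.RelPCLib.SmoothAmp
import Groth.Agent.DCohMore.TildeStalkAmp
import Groth.Agent.DerSchH7.Local
import Groth.Agent.DerSchH7.PerfPoint
import Groth.Agent.DerSchH7.PerfAmp
import Groth.Agent.DCohLib.ClosedPush
import Mathlib.AlgebraicGeometry.Morphisms.Smooth

/-!
# Tor amplitude of direct images in smooth schemes
-/

set_option autoImplicit false
set_option backward.isDefEq.respectTransparency false
set_option linter.style.haveILetI false
set_option linter.unusedSectionVars false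
set_option maxHeartbeats 1000000

universe u

open CategoryTheory CategoryTheory.Limits AlgebraicGeometry

attribute [local instance] HasDerivedCategory.standard

noncomputable section

namespace Groth.Agent.RelPCLib

open Groth.Agent.DRingLib Groth.Agent.DCohLib Groth.Agent.DTenLib Groth.Agent.DerSchH7 Groth.Agent.PCHomLib

variable {X Y S : Scheme.{u}}

/-- A standard smooth chart of relative dimension `n` around every point. -/
theorem exists_smooth_chart (g : Y ⟶ S) {n : ℕ} (V : Y.Opens) [SmoothOfRelativeDimension n (V.ι ≫ g)] {y : Y}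
    (hy : y ∈ V) :
    ∃ (U : S.Opens) (W : Y.Opens) (_ : IsAffineOpen U) (_ : IsAffineOpen W) (e : W ≤ g ⁻¹ᵁ U), y ∈ W ∧ W ≤ V ∧
      RingHom.IsStandardSmoothOfRelativeDimension n (g.appLE U W e).hom := by
  obtain ⟨U, hU, W, hW, hyW, e, hs⟩ :=
    SmoothOfRelativeDimension.exists_isStandardSmoothOfRelativeDimension (n := n) (f := V.ι ≫ g) ⟨y, hy⟩
  refine ⟨U, V.ι ''ᵁ W, hU, hW.image_of_isOpenImmersion _,
    (V.ι.image_mono e).trans (by
      rw [Scheme.Hom.comp_preimage, Scheme.Hom.image_preimage_eq_opensRange_inf]; exact inf_le_right),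
    ⟨⟨y, hy⟩, hyW, rfl⟩, ?_, ?_⟩
  · rintro _ ⟨z, -, rfl⟩
    exact z.2
  · rw [Scheme.Hom.comp_appLE, Scheme.Opens.ι_appLE] at hs
    simp only [Scheme.Hom.appLE]
    exact hs

/-- Tor amplitude over the local rings of the base of a standard smooth chart. -/
theorem amp_stalk_smooth (g : Y ⟶ S) {U : S.Opens} (hU : IsAffineOpen U) {W : Y.Opens} (hW : IsAffineOpen W)
    (e : W ≤ g ⁻¹ᵁ U) {n : ℕ} (hs : RingHom.IsStandardSmoothOfRelativeDimension n (g.appLE U W e).hom)
    {y : Y} (hy : y ∈ W) {K : Dual.D (Y.presheaf.stalk y)} {a b : ℤ}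
    (h : DRing.HasTorAmplitudeIn (S.presheaf.stalk (g y)) a b ((DRing.restrictD (g.stalkMap y).hom).obj K)) :
    DRing.HasTorAmplitudeIn (Y.presheaf.stalk y) (a - n) b K := by
  let ψ := (Y.presheaf.germ W y hy).hom
  let χ := (S.presheaf.germ U (g y) (e hy)).hom
  have hψ : @Algebra.WeaklyEtale Γ(Y, W) (Y.presheaf.stalk y) _ _ ψ.toAlgebra := by
    letI := ψ.toAlgebra
    haveI : IsLocalization (hW.primeIdealOf ⟨y, hy⟩).asIdeal.primeCompl (Y.presheaf.stalk y) :=
      hW.isLocalization_stalk ⟨y, hy⟩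
    exact DCohMore.weaklyEtale_of_isLocalization (hW.primeIdealOf ⟨y, hy⟩).asIdeal.primeCompl
  have hχ : χ.Flat := by
    letI := χ.toAlgebra
    haveI : IsLocalization (hU.primeIdealOf ⟨g y, e hy⟩).asIdeal.primeCompl (S.presheaf.stalk (g y)) :=
      hU.isLocalization_stalk ⟨g y, e hy⟩
    exact RingHom.flat_algebraMap_iff.2
      (IsLocalization.flat (S.presheaf.stalk (g y)) (hU.primeIdealOf ⟨g y, e hy⟩).asIdeal.primeCompl)
  have hc : (g.stalkMap y).hom.comp χ = ψ.comp (g.appLE U W e).hom := by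
    show (S.presheaf.germ U (g y) (e hy) ≫ g.stalkMap y).hom = (g.appLE U W e ≫ Y.presheaf.germ W y hy).hom
    rw [Scheme.Hom.germ_stalkMap, Scheme.Hom.appLE, Category.assoc, TopCat.Presheaf.germ_res]
  obtain ⟨e1⟩ := nonempty_restrictD_comp χ (g.stalkMap y).hom K
  have h1 := amp_of_iso e1 (amp_restrict_of_flat χ hχ h)
  rw [hc] at h1
  exact amp_of_standardSmooth hs ψ hψ h1

variable (i : X ⟶ Y) [IsClosedImmersion i]

/-- Tor amplitude of a direct image at a point of a standard smooth chart. -/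
theorem hasTorAmplitudeAt_pushforward_smooth (g : Y ⟶ S) {U : S.Opens} (hU : IsAffineOpen U) {W : Y.Opens}
    (hW : IsAffineOpen W) (e : W ≤ g ⁻¹ᵁ U) {n : ℕ}
    (hs : RingHom.IsStandardSmoothOfRelativeDimension n (g.appLE U W e).hom) (F : CochainComplex X.Modules ℤ)
    {y : Y} (hy : y ∈ W) {a b : ℤ}
    (hF : ∀ x : X, i x = y → DerSch.HasTorAmplitudeAt (i ≫ g) a b F x) :
    DerSch.HasTorAmplitudeAt (𝟙 Y) (a - n) b
      (((Scheme.Modules.pushforward i).mapHomologicalComplex (ComplexShape.up ℤ)).obj F) y := by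
  refine (hasTorAmplitudeAt_id_iff _ _ _ y).2 ?_
  by_cases hr : y ∈ Set.range i
  · obtain ⟨x, rfl⟩ := hr
    refine amp_stalk_smooth g hU hW e hs hy ?_
    refine amp_of_iso ?_ (hF x rfl)
    exact DerivedCategory.Q.mapIso (stalkCxOverCompIso i g x F ≪≫
        (DTen.resCx (g.stalkMap (i x)).hom).mapIso (pushStalkCxIso i x F).symm) ≪≫
      ((DTen.resFactors (g.stalkMap (i x)).hom).app _).symm
  · refine amp_of_isZero (DerivedCategory.Q.map_isZero ((IsZero.iff_id_eq_zero _).2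
      (HomologicalComplex.hom_ext _ _ fun j => IsZero.eq_of_src ?_ _ _))) _ _
    haveI := subsingleton_stalk_pushforward i (F.X j) y hr
    exact @ModuleCat.isZero_of_subsingleton _ _ _ ‹_›

/-- Tor amplitude of direct images in smooth schemes. -/
theorem flatAmplitude_pushforward_smooth (g : Y ⟶ S) (d : ℕ)
    (hd : ∀ y : Y, ∃ (n : ℕ) (V : Y.Opens), n ≤ d ∧ y ∈ V ∧ SmoothOfRelativeDimension n (V.ι ≫ g))
    (F : CochainComplex X.Modules ℤ) {a b : ℤ} (hF : DerSch.HasTorAmplitude (i ≫ g) a b F) :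
    DCoh.HasFlatAmplitudeIn (a - d) b
      (DCoh.toD Y (((Scheme.Modules.pushforward i).mapHomologicalComplex (ComplexShape.up ℤ)).obj F)) := by
  refine flatAmplitude_of_hasTorAmplitude_id fun y => ?_
  obtain ⟨n, V, hn, hy, hV⟩ := hd y
  obtain ⟨U, W, hU, hW, e, hyW, -, hs⟩ := exists_smooth_chart g (n := n) V hy
  exact hasTorAmplitudeIn_mono (by omega) le_rfl
    (hasTorAmplitudeAt_pushforward_smooth i g hU hW e hs F hyW fun x _ => hF x)

/-- Amplitude at the points of an open gives flat amplitude of the restriction. -/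
theorem flatAmplitude_restrict_of_points (V : Y.Opens) (G : CochainComplex Y.Modules ℤ) {a b : ℤ}
    (h : ∀ y ∈ V, DerSch.HasTorAmplitudeAt (𝟙 Y) a b G y) :
    DCoh.HasFlatAmplitudeIn a b ((DCoh.restrictD V.ι).obj (DCoh.toD Y G)) := by
  obtain ⟨E, hE, hfl, ⟨e⟩⟩ := flatAmplitude_of_hasTorAmplitude_id (F := (resCx V.ι).obj G) (a := a) (b := b)
    fun z => by
      refine (hasTorAmplitudeAt_id_iff _ _ _ z).2 (amp_of_restrict_bijective (V.ι.stalkMap z).hom
        (ConcreteCategory.bijective_of_isIso (V.ι.stalkMap z)) ?_)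
      exact amp_of_iso (DerivedCategory.Q.mapIso ((restrictStalkCxIso V.ι z G).symm ≪≫ stalkCxOverResIso V.ι z _) ≪≫
        ((DTen.resFactors (V.ι.stalkMap z).hom).app _).symm) ((hasTorAmplitudeAt_id_iff G a b _).1 (h z.1 z.2))
  exact ⟨E, hE, hfl, ⟨e ≪≫ (restrictDQ V.ι G).symm⟩⟩

/-- Locally finite tor amplitude of direct images in smooth schemes. -/
theorem locHasFiniteTorDim_pushforward_smooth (g : Y ⟶ S) [Smooth g] (F : CochainComplex X.Modules ℤ)
    (hF : DerSch.LocFiniteTorAmplitude (i ≫ g) F) :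
    DCoh.LocHasFiniteTorDim
      (DCoh.toD Y (((Scheme.Modules.pushforward i).mapHomologicalComplex (ComplexShape.up ℤ)).obj F)) := by
  refine (locHasFiniteTorDim_iff _).2 fun y => ?_
  obtain ⟨U, hU, W, hW, hyW, e, hs⟩ := (Smooth.iff_forall_exists_isStandardSmooth g).1 ‹Smooth g› y
  obtain ⟨n, hn⟩ : ∃ n, RingHom.IsStandardSmoothOfRelativeDimension n (g.appLE U W e).hom := by
    obtain ⟨_, _, _, _, ⟨P⟩⟩ := hs
    letI := (g.appLE U W e).hom.toAlgebra
    exact ⟨P.dimension, _, _, _, ‹_›, P, rfl⟩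
  -- an open around the point with uniform bounds
  obtain ⟨W₀, a, b, hy₀, hW₀⟩ : ∃ (W₀ : Y.Opens) (a b : ℤ), y ∈ W₀ ∧
      ∀ x : X, i x ∈ W₀ → DerSch.HasTorAmplitudeAt (i ≫ g) a b F x := by
    by_cases hr : y ∈ Set.range i
    · obtain ⟨x, rfl⟩ := hr
      obtain ⟨V, a, b, hx, hV⟩ := hF x
      obtain ⟨t, ht, htV⟩ := i.isClosedEmbedding.isInducing.isOpen_iff.1 V.2
      refine ⟨⟨t, ht⟩, a, b, (Set.ext_iff.1 htV x).2 hx, fun x' hx' => hV x' ((Set.ext_iff.1 htV x').1 hx')⟩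
    · exact ⟨⟨(Set.range i)ᶜ, i.isClosedEmbedding.isClosed_range.isOpen_compl⟩, 0, 0, hr,
        fun x hx => (hx ⟨x, rfl⟩).elim⟩
  exact ⟨W₀ ⊓ W, a - n, b, ⟨hy₀, hyW⟩, flatAmplitude_restrict_of_points _ _ fun z hz =>
    hasTorAmplitudeAt_pushforward_smooth i g hU hW e hn F hz.2 fun x hx => hW₀ x (hx ▸ hz.1)⟩

/-- Locally finite tor amplitude from the direct image. -/
theorem locFiniteTorAmplitude_of_pushforward (g : Y ⟶ S) [Flat g] (F : CochainComplex X.Modules ℤ)
    (h : DCoh.LocHasFiniteTorDim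
      (DCoh.toD Y (((Scheme.Modules.pushforward i).mapHomologicalComplex (ComplexShape.up ℤ)).obj F))) :
    DerSch.LocFiniteTorAmplitude (i ≫ g) F := by
  intro x
  obtain ⟨V, a, b, hx, E, hE, hfl, ⟨e⟩⟩ := (locHasFiniteTorDim_iff _).1 h (i x)
  refine ⟨i ⁻¹ᵁ V, a, b, hx, fun x' hx' => ?_⟩
  have h1 : DerSch.HasTorAmplitude (𝟙 (V : Scheme.{u})) a b
      ((resCx V.ι).obj (((Scheme.Modules.pushforward i).mapHomologicalComplex (ComplexShape.up ℤ)).obj F)) :=
    hasTorAmplitude_id_of_flatAmplitude ⟨E, hE, hfl, ⟨e ≪≫ restrictDQ V.ι _⟩⟩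
  have h2 := hasTorAmplitudeAt_id_of_restrict V.ι h1 ⟨i x', hx'⟩
  have hfl : (g.stalkMap (i x')).hom.Flat := Flat.stalkMap g (i x')
  exact amp_of_iso ((DTen.resFactors (g.stalkMap (i x')).hom).app _ ≪≫
    DerivedCategory.Q.mapIso ((DTen.resCx (g.stalkMap (i x')).hom).mapIso (pushStalkCxIso i x' F) ≪≫
      (stalkCxOverCompIso i g x' F).symm))
    (amp_restrict_of_flat (g.stalkMap (i x')).hom hfl ((hasTorAmplitudeAt_id_iff _ a b (i x')).1 h2))

end Groth.Agent.RelPCLib
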