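import Groth.Agent.TildeD.Main
import Groth.Agent.FactorOne.Basic
import Groth.Agent.DCohMore.AffinePushPC
import Groth.Agent.DCohLib.Restrict
import Groth.Agent.TildePerf.Mod
import Groth.Agent.S12451
import Mathlib.Algebra.Homology.DerivedCategory.KProjective

/-!
# Homotopy classes and derived morphisms on affine schemes

For bounded above complexes of finite locally free modules and complexes of quasi-coherent modules on an affine
scheme, homotopy classes of maps are the morphisms in the derived category.
-/

set_option autoImplicit false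
set_option backward.isDefEq.respectTransparency false
set_option linter.style.haveILetI false
set_option linter.unusedSectionVars false
set_option maxHeartbeats 1000000

universe u v w

open CategoryTheory CategoryTheory.Limits AlgebraicGeometry

attribute [local instance] HasDerivedCategory.standard

noncomputable section

namespace Groth.Agent.RelPCLib

open Groth.Agent.DCohLib Groth.Agent.DCohMore Groth.Agent.DRingLib

/-- Homotopy classes are the derived morphisms. -/
abbrev HomBij {C : Type u} [Category.{v} C] [Abelian C] [HasDerivedCategory.{w} C]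
    (E F : CochainComplex C ℤ) : Prop :=
  Function.Bijective fun φ : (HomotopyCategory.quotient C (ComplexShape.up ℤ)).obj E ⟶
      (HomotopyCategory.quotient C (ComplexShape.up ℤ)).obj F => (DerivedCategory.Qh (C := C)).map φ

theorem homBij_of_iso {C : Type u} [Category.{v} C] [Abelian C] [HasDerivedCategory.{w} C]
    {E E' F F' : CochainComplex C ℤ} (e : E ≅ E') (e' : F ≅ F') (h : HomBij E F) : HomBij E' F' := by
  let q := HomotopyCategory.quotient C (ComplexShape.up ℤ)
  let Qh := DerivedCategory.Qh (C := C)
  have hc : (fun φ : q.obj E' ⟶ q.obj F' => Qh.map φ) =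
      (Iso.homCongr (Qh.mapIso (q.mapIso e)) (Qh.mapIso (q.mapIso e'))) ∘ (fun φ : q.obj E ⟶ q.obj F => Qh.map φ) ∘
        (Iso.homCongr (q.mapIso e) (q.mapIso e')).symm := funext fun φ => by
    simp [Iso.homCongr, ← Functor.map_comp]
  show Function.Bijective _
  rw [hc]
  exact (Equiv.bijective _).comp (h.comp (Equiv.bijective _))

section Transfer

variable {C D : Type*} [Category C] [Category D] [Abelian C] [Abelian D] [HasDerivedCategory C]
  [HasDerivedCategory D] (T : C ⥤ D) [T.Additive] [PreservesFiniteLimits T] [PreservesFiniteColimits T]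
  [T.Full] [T.Faithful] [T.mapDerivedCategory.Full] [T.mapDerivedCategory.Faithful]

/-- Fully faithful exact functors which stay fully faithful on derived categories respect `HomBij`. -/
theorem homBij_map_iff (E F : CochainComplex C ℤ) :
    HomBij ((T.mapHomologicalComplex (ComplexShape.up ℤ)).obj E)
      ((T.mapHomologicalComplex (ComplexShape.up ℤ)).obj F) ↔ HomBij E F := by
  let q := HomotopyCategory.quotient C (ComplexShape.up ℤ)
  let TH := T.mapHomotopyCategory (ComplexShape.up ℤ)
  let η := T.mapDerivedCategoryFactorsh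
  have h1 : Function.Bijective fun φ : q.obj E ⟶ q.obj F => TH.map φ :=
    ⟨TH.map_injective, TH.map_surjective⟩
  have h2 : Function.Bijective fun φ : DerivedCategory.Qh.obj (q.obj E) ⟶ DerivedCategory.Qh.obj (q.obj F) =>
      Iso.homCongr (η.app (q.obj E)) (η.app (q.obj F)) (T.mapDerivedCategory.map φ) :=
    (Equiv.bijective _).comp ⟨T.mapDerivedCategory.map_injective, T.mapDerivedCategory.map_surjective⟩
  have hc : (fun φ : TH.obj (q.obj E) ⟶ TH.obj (q.obj F) => (DerivedCategory.Qh (C := D)).map φ) ∘
        (fun φ : q.obj E ⟶ q.obj F => TH.map φ) =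
      (fun φ : DerivedCategory.Qh.obj (q.obj E) ⟶ DerivedCategory.Qh.obj (q.obj F) =>
        Iso.homCongr (η.app (q.obj E)) (η.app (q.obj F)) (T.mapDerivedCategory.map φ)) ∘
      (fun φ : q.obj E ⟶ q.obj F => (DerivedCategory.Qh (C := C)).map φ) := funext fun φ => by
    show DerivedCategory.Qh.map (TH.map φ) = η.inv.app _ ≫ T.mapDerivedCategory.map (DerivedCategory.Qh.map φ) ≫
      η.hom.app _
    have h := η.hom.naturality φ
    simp only [Functor.comp_map] at h
    rw [h, ← Category.assoc]
    simp [TH]
  constructor
  · intro h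
    exact (Function.Bijective.of_comp_iff' h2 _).1 ((congrArg Function.Bijective hc).mp (Function.Bijective.comp h h1))
  · intro h
    exact (Function.Bijective.of_comp_iff _ h1).1 ((congrArg Function.Bijective hc).mpr (h2.comp h))

end Transfer

/-- On the spectrum of a ring. -/
theorem homBij_spec {R : CommRingCat.{u}} (E F : CochainComplex (Spec R).Modules ℤ) (b : ℤ)
    (hEb : ∀ i : ℤ, b < i → IsZero (E.X i)) (hE : ∀ i : ℤ, FlatMod.IsFinLocFree (E.X i))
    (hF : ∀ i : ℤ, Coh.IsQCoh (F.X i)) : HomBij E F := by
  haveI : PreservesFiniteLimits (tilde.functor R) := TildeD.preservesFiniteLimits_tilde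
  haveI : (tilde.functor R).Additive := ⟨fun {M N f g} => tilde.map_add f g⟩
  haveI : PreservesColimitsOfSize.{0, 0} (tilde.functor R) :=
    (tilde.adjunction (R := R)).leftAdjoint_preservesColimits
  haveI : PreservesFiniteColimits (tilde.functor R) := PreservesColimitsOfSize.preservesFiniteColimits _
  haveI : (moduleSpecΓFunctor (R := R)).Additive := (tilde.adjunction (R := R)).right_adjoint_additive
  haveI : (tilde.functor R).Full := tilde.fullyFaithfulFunctor.full
  haveI : (tilde.functor R).Faithful := tilde.fullyFaithfulFunctor.faithful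
  obtain ⟨hfull, hfaith, -⟩ := TildeD.main R
  haveI : (tilde.functor R).mapDerivedCategory.Full := hfull
  haveI : (tilde.functor R).mapDerivedCategory.Faithful := hfaith
  let G := (moduleSpecΓFunctor (R := R)).mapHomologicalComplex (ComplexShape.up ℤ)
  have hQ : ∀ i, Coh.IsQCoh (E.X i) := fun i => (PullbackMod.isQCoh_and_isFP_of_isFinLocFree _ (hE i)).1
  have back : ∀ K : CochainComplex (Spec R).Modules ℤ, (∀ i, Coh.IsQCoh (K.X i)) →
      Nonempty (((tilde.functor R).mapHomologicalComplex (ComplexShape.up ℤ)).obj (G.obj K) ≅ K) := fun K hK => by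
    haveI : ∀ i, (K.X i).IsQuasicoherent := hK
    haveI : ∀ i, IsIso (Scheme.Modules.fromTildeΓ (K.X i)) := fun i =>
      Scheme.Modules.isIso_fromTildeΓ_of_isQuasicoherent _
    exact ⟨HomologicalComplex.Hom.isoOfComponents (fun i => asIso (Scheme.Modules.fromTildeΓ (K.X i)))
      fun i j _ => (Scheme.Modules.fromTildeΓNatTrans.naturality (K.d i j)).symm⟩
  obtain ⟨eE⟩ := back E hQ
  obtain ⟨eF⟩ := back F hF
  have hP : ∀ i, Module.Projective R ((G.obj E).X i) := fun i => by
    haveI := hQ i
    haveI hq : (E.X i).IsQuasicoherent := hQ i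
    haveI : IsIso (Scheme.Modules.fromTildeΓ (E.X i)) := Scheme.Modules.isIso_fromTildeΓ_of_isQuasicoherent _
    refine ((Groth.Agent.S12451.result _).1
      (isFinLocFree_iso (asIso (Scheme.Modules.fromTildeΓ (E.X i))).symm (hE i))).2
  have hPb : DRing.VanishesAbove (G.obj E) b := fun i hi =>
    (moduleSpecΓFunctor (R := R)).map_isZero (hEb i hi)
  haveI : CochainComplex.IsKProjective (G.obj E) := isKProjective_of_vanishesAbove hPb hP
  exact homBij_of_iso eE eF ((homBij_map_iff (tilde.functor R) (G.obj E) (G.obj F)).2
    (CochainComplex.IsKProjective.Qh_map_bijective _ _))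

/-- Restriction along an isomorphism is an equivalence of module categories. -/
def restrictEquiv {X Y : Scheme.{u}} (e : X ≅ Y) : Y.Modules ≌ X.Modules :=
  CategoryTheory.Equivalence.mk (Scheme.Modules.restrictFunctor e.hom) (Scheme.Modules.restrictFunctor e.inv)
    (Scheme.Modules.restrictFunctorId.symm ≪≫ Scheme.Modules.restrictFunctorCongr e.inv_hom_id.symm ≪≫
      Scheme.Modules.restrictFunctorComp e.inv e.hom)
    ((Scheme.Modules.restrictFunctorComp e.hom e.inv).symm ≪≫ Scheme.Modules.restrictFunctorCongr e.hom_inv_id ≪≫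
      Scheme.Modules.restrictFunctorId)

/-- On an affine scheme. -/
theorem homBij_affine {X : Scheme.{u}} [IsAffine X] (E F : CochainComplex X.Modules ℤ) (b : ℤ)
    (hEb : ∀ i : ℤ, b < i → IsZero (E.X i)) (hE : ∀ i : ℤ, FlatMod.IsFinLocFree (E.X i))
    (hF : ∀ i : ℤ, Coh.IsQCoh (F.X i)) : HomBij E F := by
  let e := X.isoSpec.symm
  let T := Scheme.Modules.restrictFunctor e.hom
  haveI : T.Full := inferInstanceAs (restrictEquiv e).functor.Full
  haveI : T.Faithful := inferInstanceAs (restrictEquiv e).functor.Faithful
  haveI : (DCoh.restrictD e.hom).Faithful := inferInstanceAs (restrictDEquiv e).functor.Faithful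
  haveI : (DCoh.restrictD e.hom).Full := inferInstanceAs (restrictDEquiv e).functor.Full
  haveI : T.mapDerivedCategory.Faithful := ‹(DCoh.restrictD e.hom).Faithful›
  haveI : T.mapDerivedCategory.Full := ‹(DCoh.restrictD e.hom).Full›
  refine (homBij_map_iff T E F).1 (homBij_spec _ _ b (fun i hi => T.map_isZero (hEb i hi))
    (fun i => isFinLocFree_restrict e.hom (hE i)) fun i => ?_)
  haveI := hF i
  exact isQCoh_of_iso' (Scheme.Modules.restrictFunctorIsoPullback e.hom |>.app (F.X i)).symm
    (PullbackMod.isQCoh_pullback e.hom (F.X i))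

end Groth.Agent.RelPCLib
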