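import Groth.Agent.PCHomLib.RelLocal
import Groth.Agent.PCHomLib.Flat
import Groth.Agent.DRingLib.Descent
import Groth.Agent.DRingLib.PseudoCoherent

/-!
# Relative pseudo-coherence of tensor products with pseudo-coherent modules
-/

set_option autoImplicit false
set_option backward.isDefEq.respectTransparency false
set_option linter.style.haveILetI false
set_option linter.unusedSectionVars false
set_option maxHeartbeats 1000000

universe u

open CategoryTheory CategoryTheory.Limits CategoryTheory.MonoidalCategory CategoryTheory.Pretriangulated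
open scoped TensorProduct
attribute [local instance] HasDerivedCategory.standard

noncomputable section

namespace Groth.Agent.RelPCLib

open Groth.Agent.DRingLib Groth.Agent.DCohLib Groth.Agent.DTenLib Groth.Agent.PCHomLib

variable {C P : Type u} [CommRing C] [CommRing P] (φ : P →+* C)

/-- The restriction of a tensor product. -/
abbrev resTens (M : ModuleCat.{u} C) (K : DRing.Cx C) : Dual.D P :=
  (DRing.restrictD φ).obj (DRing.toD ((tensM M).obj K))

/-- The map of complexes induced by a map of modules. -/
abbrev tensMap {M N : ModuleCat.{u} C} (f : M ⟶ N) (K : DRing.Cx C) : (tensM M).obj K ⟶ (tensM N).obj K :=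
  (NatTrans.mapHomologicalComplex ((tensoringLeft (ModuleCat.{u} C)).map f) (ComplexShape.up ℤ)).app K

theorem exists_triangle_tens {S : ShortComplex (ModuleCat.{u} C)} (hS : S.ShortExact) {K : DRing.Cx C}
    (hK : DRing.TermwiseFlat K) :
    ∃ T : Triangle (Dual.D P), T ∈ distTriang _ ∧ T.obj₁ = resTens φ S.X₁ K ∧ T.obj₂ = resTens φ S.X₂ K ∧
      T.obj₃ = resTens φ S.X₃ K := by
  let T : ShortComplex (DRing.Cx C) := ShortComplex.mk (tensMap S.f K) (tensMap S.g K) (by
    ext n : 1
    show S.f ▷ K.X n ≫ S.g ▷ K.X n = 0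
    rw [← MonoidalCategory.comp_whiskerRight, S.zero, MonoidalPreadditive.zero_whiskerRight])
  have hT : T.ShortExact := HomologicalComplex.shortExact_of_degreewise_shortExact _ fun n => by
    haveI := hK n
    haveI : (tensorRight (K.X n)).Additive := inferInstance
    exact ShortComplex.ShortExact.mk'
      ((ShortComplex.ShortExact.moduleCat_exact_iff_function_exact _).2
        (Module.Flat.rTensor_exact (K.X n) ((ShortComplex.ShortExact.moduleCat_exact_iff_function_exact S).1 hS.exact)))
      ((ModuleCat.mono_iff_injective _).2 (Module.Flat.rTensor_preserves_injective_linearMap S.f.hom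
        ((ModuleCat.mono_iff_injective S.f).1 hS.mono_f)))
      ((ModuleCat.epi_iff_surjective _).2 (LinearMap.rTensor_surjective (K.X n)
        ((ModuleCat.epi_iff_surjective S.g).1 hS.epi_g)))
  exact ⟨_, (DRing.restrictD φ).map_distinguished _ (DerivedCategory.triangleOfSES_distinguished hT), rfl, rfl, rfl⟩

theorem vanishesAbove_tens (M : ModuleCat.{u} C) {K : DRing.Cx C} {b : ℤ} (hb : DRing.VanishesAbove K b) :
    DRing.VanishesAbove ((tensM M).obj K) b := fun i hi => (tensorLeft M).map_isZero (hb i hi)

theorem aboveZero_tens (M : ModuleCat.{u} C) {K : DRing.Cx C} {b : ℤ} (hb : DRing.VanishesAbove K b) :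
    AboveZero (b + 1) (resTens φ M K) :=
  aboveZero_restrict φ fun i hi => ((exactAt_iff_isZero_homologyFunctor _ i).1
    (ShortComplex.exact_of_isZero_X₂ _ (vanishesAbove_tens M hb i (by omega))))

theorem pc_tens_fin {K : DRing.Cx C} (hK : DRing.TermwiseFlat K) {m : ℤ}
    (h : PC FFree m ((DRing.restrictD φ).obj (DRing.toD K))) :
    ∀ r : ℕ, PC FFree m (resTens φ (ModuleCat.of C (Fin r → C)) K)
  | 0 => by
    refine pc_of_aboveZero projClass_fFree (aboveZero_restrict φ fun i _ =>
      (exactAt_iff_isZero_homologyFunctor _ i).1 (ShortComplex.exact_of_isZero_X₂ _ ?_))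
    have hz : IsZero (ModuleCat.of C (Fin 0 → C)) := ModuleCat.isZero_of_subsingleton _
    exact (tensorRight (K.X i)).map_isZero hz
  | r + 1 => by
    let f : (Fin r → C) →ₗ[C] (Fin (r + 1) → C) := LinearMap.pi fun i => Fin.cases 0 (fun j => LinearMap.proj j) i
    let g : (Fin (r + 1) → C) →ₗ[C] C := LinearMap.proj 0
    have hex : Function.Exact f g := fun v => by
      constructor
      · intro hv
        refine ⟨fun j => v j.succ, funext fun i => ?_⟩
        cases i using Fin.cases with
        | zero => simpa [f, g] using hv.symm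
        | succ j => simp [f]
      · rintro ⟨w, rfl⟩
        simp [f, g]
    let S : ShortComplex (ModuleCat.{u} C) := ShortComplex.mk (ModuleCat.ofHom f) (ModuleCat.ofHom g)
      (ModuleCat.hom_ext (LinearMap.ext fun w => by simp [f, g]))
    have hS : S.ShortExact := ShortComplex.ShortExact.mk'
      ((ShortComplex.ShortExact.moduleCat_exact_iff_function_exact S).2 hex)
      ((ModuleCat.mono_iff_injective _).2 fun v w hvw => funext fun j => by
        have h := congrFun (show f v = f w from hvw) j.succ
        simpa [f] using h)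
      ((ModuleCat.epi_iff_surjective _).2 fun c => ⟨fun _ => c, rfl⟩)
    obtain ⟨T, hT, h1, h2, h3⟩ := exists_triangle_tens φ hS hK
    let e : DRing.toD K ≅ DRing.toD ((tensM S.X₃).obj K) :=
      DerivedCategory.Q.mapIso (HomologicalComplex.Hom.isoOfComponents (fun i => (λ_ (K.X i)).symm)
        (fun i j _ => (leftUnitor_inv_naturality (K.d i j)).symm))
    have hC : PC FFree m (resTens φ S.X₃ K) := h.of_iso ((DRing.restrictD φ).mapIso e)
    have h₂ : PC FFree m T.obj₂ := PC.obj₂ projClass_fFree T hT (h1 ▸ pc_tens_fin hK h r) (h3 ▸ hC)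
    rw [h2] at h₂
    exact h₂

/-- Tensoring with a pseudo-coherent module preserves relative pseudo-coherence. -/
theorem pc_tens : ∀ (d : ℕ) (K : DRing.Cx C) (b m : ℤ), DRing.TermwiseFlat K → DRing.VanishesAbove K b →
    b + 1 ≤ m + d → PC FFree m ((DRing.restrictD φ).obj (DRing.toD K)) →
    ∀ M : ModuleCat.{u} C, (∀ k, PC FFree k (Dual.inD C M)) → PC FFree m (resTens φ M K) := by
  intro d
  induction d with
  | zero =>
    exact fun K b m _ hb hm _ M _ => pc_of_aboveZero projClass_fFree ((aboveZero_tens φ M hb).mono (by omega))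
  | succ d ih =>
    intro K b m hK hb hm h M hM
    haveI : Module.Finite C M := finite_of_pc_zero (hM 0)
    obtain ⟨r, p, hp⟩ := Module.Finite.exists_fin' C M
    obtain ⟨T, hT, h1, h2, h3⟩ := exists_triangle_of_surjective p hp
    have hN : ∀ k, PC FFree k (Dual.inD C (ModuleCat.of C (LinearMap.ker p))) := fun k => by
      have := PC.obj₁ projClass_fFree (m := k - 1) T hT (h2 ▸ (perf_inD_fin r).pc _) (h3 ▸ hM _)
      rw [sub_add_cancel] at this
      exact h1 ▸ this
    let S : ShortComplex (ModuleCat.{u} C) := ShortComplex.mk (ModuleCat.ofHom (LinearMap.ker p).subtype)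
      (ModuleCat.ofHom p) (ModuleCat.hom_ext (LinearMap.ext fun x => x.2))
    have hS : S.ShortExact := ShortComplex.ShortExact.mk'
      ((ShortComplex.ShortExact.moduleCat_exact_iff_function_exact S).2 (LinearMap.exact_subtype_ker_map p))
      ((ModuleCat.mono_iff_injective _).2 Subtype.val_injective)
      ((ModuleCat.epi_iff_surjective _).2 hp)
    obtain ⟨T', hT', g1, g2, g3⟩ := exists_triangle_tens φ hS hK
    refine g3 ▸ PC.obj₃ projClass_fFree T' hT' (g1 ▸ ?_) (g2 ▸ pc_tens_fin φ hK h r)
    exact ih K b (m + 1) hK hb (by push_cast at hm; omega) (h.mono (by omega)) _ hN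

theorem pc_tens' {K : DRing.Cx C} {b m : ℤ} (hK : DRing.TermwiseFlat K) (hb : DRing.VanishesAbove K b)
    (h : PC FFree m ((DRing.restrictD φ).obj (DRing.toD K))) (M : ModuleCat.{u} C)
    (hM : ∀ k, PC FFree k (Dual.inD C M)) : PC FFree m (resTens φ M K) :=
  pc_tens φ (b + 1 - m).toNat K b m hK hb (by omega) h M hM

attribute [local instance] MvPolynomial.algebraMvPolynomial in
/-- Derived base change along a pseudo-coherent map. -/
theorem rel_lbc {R A B : Type u} [CommRing R] [CommRing A] [CommRing B] [Algebra R A] [Algebra A B] [Algebra R B]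
    [IsScalarTower R A B] [Algebra.FiniteType R A] (hAB : PCHom (algebraMap A B))
    [DRing.HasLBaseChange (algebraMap A B)] {K : Dual.D A} {m : ℤ}
    (h : DerCA.IsRelPseudoCoherent R A m K) :
    DerCA.IsRelPseudoCoherent R B m ((DRing.LBaseChange (algebraMap A B)).obj K) := by
  obtain ⟨n, φ, hφ, hc⟩ := exists_presentation (A := R) (B := A)
  have hK := (rel_iff φ hφ hc m K).1 h
  obtain ⟨b, hb⟩ := hK.exists_aboveZero
  obtain ⟨N, hNb, hN, ⟨eN⟩⟩ := exists_proj_representative (K := K) (n := b - 1)
    (by simpa using aboveZero_of_restrict φ hb)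
  obtain ⟨k, χ, hχ, hχc, hχp⟩ := hAB
  let P := MvPolynomial (Fin n) R
  let A' := MvPolynomial (Fin k) A
  let P' := MvPolynomial (Fin k) P
  letI : Algebra P A := φ.toAlgebra
  haveI : Algebra.IsPushout P P' A A' := inferInstance
  haveI := DRingLib.hasLBaseChange (algebraMap P P')
  haveI : Module.Flat P P' := inferInstance
  obtain ⟨e⟩ := nonempty_lbc_restrict P P' A A' N
  let N' := ((ModuleCat.extendScalars.{u, u, u} (algebraMap A A')).mapHomologicalComplex (ComplexShape.up ℤ)).obj N
  have hN' : PC FFree m ((DRing.restrictD (algebraMap P' A')).obj (DRing.toD N')) :=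
    (pc_lbc (algebraMap P P') (hK.of_iso ((DRing.restrictD φ).mapIso eN.symm))).of_iso e
  have hfl : DRing.TermwiseFlat N' := fun i => by
    haveI := hN i
    haveI : Module.Flat A (N.X i) := inferInstance
    exact Module.Flat.of_linearEquiv (extendScalarsTensorEquiv A A' (N.X i))
  have hvan : DRing.VanishesAbove N' (b - 1) := fun i hi =>
    (ModuleCat.extendScalars.{u, u, u} (algebraMap A A')).map_isZero (hNb i hi)
  let Bm := baseMod χ
  have hBm : ∀ q, PC FFree q (Dual.inD A' Bm) := fun q => ((pcMap_iff χ).1 hχp q)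
  have h0 := pc_tens' (algebraMap P' A') hfl hvan hN' Bm hBm
  -- the tensor product is the base change
  let c1 : ((tensM Bm).obj N') ≅ ((ModuleCat.restrictScalars.{u} χ).mapHomologicalComplex (ComplexShape.up ℤ)).obj
      (((ModuleCat.extendScalars.{u, u, u} χ).mapHomologicalComplex (ComplexShape.up ℤ)).obj N') :=
    HomologicalComplex.Hom.isoOfComponents (fun i => ((extResIso χ).app (N'.X i)).symm)
      (fun i j _ => ((extResIso χ).inv.naturality (N'.d i j)).symm)
  have hcomp : χ.comp (algebraMap A A') = algebraMap A B := hχc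
  let β : ModuleCat.extendScalars.{u, u, u} (algebraMap A A') ⋙ ModuleCat.extendScalars.{u, u, u} χ ≅
      ModuleCat.extendScalars.{u, u, u} (algebraMap A B) :=
    (ModuleCat.extendScalarsComp (algebraMap A A') χ).symm ≪≫ eqToIso (by rw [← hcomp])
  let c2 : ((ModuleCat.extendScalars.{u, u, u} χ).mapHomologicalComplex (ComplexShape.up ℤ)).obj N' ≅
      ((ModuleCat.extendScalars.{u, u, u} (algebraMap A B)).mapHomologicalComplex (ComplexShape.up ℤ)).obj N :=
    HomologicalComplex.Hom.isoOfComponents (fun i => β.app (N.X i))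
      (fun i j _ => (β.hom.naturality (N.d i j)).symm)
  have h1 : PC FFree m ((DRing.restrictD (algebraMap P' A')).obj ((DRing.restrictD χ).obj
      ((DRing.LBaseChange (algebraMap A B)).obj K))) :=
    h0.of_iso ((DRing.restrictD (algebraMap P' A')).mapIso (DerivedCategory.Q.mapIso c1 ≪≫
      ((ModuleCat.restrictScalars.{u} χ).mapDerivedCategoryFactors.app _).symm ≪≫
      (DRing.restrictD χ).mapIso (DerivedCategory.Q.mapIso c2 ≪≫
        (lbcIso (algebraMap A B) N (isKFlat_of_projective hNb hN)).symm ≪≫
        (DRing.LBaseChange (algebraMap A B)).mapIso eN)))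
  obtain ⟨e2⟩ := nonempty_restrictD_comp (algebraMap P' A') χ ((DRing.LBaseChange (algebraMap A B)).obj K)
  let r := ((MvPolynomial.renameEquiv R finSumFinEquiv.symm).trans
    (MvPolynomial.sumAlgEquiv R (Fin k) (Fin n))).toRingEquiv
  let Φ := (χ.comp (algebraMap P' A')).comp r.toRingHom
  have h2 := (pc_restrict_comp (pcMap_of_bijective r.toRingHom r.bijective) (χ.comp (algebraMap P' A'))
    ((DRing.LBaseChange (algebraMap A B)).obj K)).1 (h1.of_iso e2)
  refine (rel_iff Φ ((hχ.comp (MvPolynomial.map_surjective φ hφ)).comp r.surjective) ?_ m _).2 h2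
  refine RingHom.ext fun a => ?_
  rw [IsScalarTower.algebraMap_apply R A B, ← hχc, ← hc]
  simp [Φ, r, P', P]
  exact congrArg χ (MvPolynomial.map_C φ _)

end Groth.Agent.RelPCLib
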