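import Groth.Agent.RelPCLib.Basic

/-!
# Relative pseudo-coherence and open immersions into the source
-/

set_option autoImplicit false
set_option backward.isDefEq.respectTransparency false
set_option linter.style.haveILetI false
set_option linter.unusedSectionVars false
set_option maxHeartbeats 1000000

universe u

open CategoryTheory CategoryTheory.Limits AlgebraicGeometry TopologicalSpace

attribute [local instance] HasDerivedCategory.standard

noncomputable section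

namespace Groth.Agent.RelPCLib

open Groth.Agent.DCohLib

variable {X Z : Scheme.{u}} (j : Z ⟶ X) [IsOpenImmersion j]

theorem isoImage_hom_emb (W : Z.Opens) {P : Type u} [CommRing P] (φ : P →+* Γ(X, j ''ᵁ W)) :
    (j.isoImage W).hom ≫ emb (j ''ᵁ W) φ = emb W ((j.appIso W).hom.hom.comp φ) := by
  have h : (j.isoImage W).hom = j.resLE (j ''ᵁ W) W (j.preimage_image_eq W).ge := by
    rw [← cancel_mono (j ''ᵁ W).ι, Scheme.Hom.isoImage_hom_ι, Scheme.Hom.resLE_comp_ι]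
  rw [emb, emb, CommRingCat.ofHom_comp, Spec.map_comp, h, ← Category.assoc, ← Category.assoc,
    Scheme.Hom.appIso_hom']
  congr 1
  exact (Scheme.Opens.toSpecΓ_SpecMap_appLE j (j ''ᵁ W) W _).symm

/-- The test for the restriction is the test on the image. -/
theorem cpc_restrict_iff {m : ℤ} (K : DCoh.D X) {W : Z.Opens} (hW : IsAffineOpen W) {P : Type u} [CommRing P]
    {φ : P →+* Γ(X, j ''ᵁ W)} (hφ : Function.Surjective φ) :
    CPC m ((DCoh.restrictD j).obj K) W ((j.appIso W).hom.hom.comp φ) ↔ CPC m K (j ''ᵁ W) φ := by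
  have hW' : IsAffineOpen (j ''ᵁ W) := hW.image_of_isOpenImmersion j
  haveI := isClosedImmersion_emb hW' hφ
  haveI := isClosedImmersion_emb hW (φ := (j.appIso W).hom.hom.comp φ)
    ((ConcreteCategory.bijective_of_isIso (j.appIso W).hom).2.comp hφ)
  rw [cpc_iff, cpc_iff]
  obtain ⟨e1⟩ := nonempty_restrictD_pushInv (j.isoImage W) ((DCoh.restrictD (j ''ᵁ W).ι).obj K)
  let e0 : (DCoh.restrictD W.ι).obj ((DCoh.restrictD j).obj K) ≅
      (pushD (j.isoImage W).inv).obj ((DCoh.restrictD (j ''ᵁ W).ι).obj K) :=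
    ((restrictDComp W.ι j).symm ≪≫ restrictDCongr (j.isoImage_hom_ι W).symm ≪≫
      restrictDComp (j.isoImage W).hom (j ''ᵁ W).ι).app K ≪≫ e1
  obtain ⟨e2⟩ := nonempty_pushD_comp (j.isoImage W).inv (emb W ((j.appIso W).hom.hom.comp φ)) (emb (j ''ᵁ W) φ)
    (by rw [← isoImage_hom_emb, Iso.inv_hom_id_assoc]) ((DCoh.restrictD (j ''ᵁ W).ι).obj K)
  let e := (pushD (emb W ((j.appIso W).hom.hom.comp φ))).mapIso e0 ≪≫ e2
  exact ⟨isPseudoCoherentD_iso e, isPseudoCoherentD_iso e.symm⟩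

variable {Y : Scheme.{u}} (f : X ⟶ Y)

theorem isChart_restrict {W : Z.Opens} {V : Y.Opens} (h : W ≤ (j ≫ f) ⁻¹ᵁ V) (h' : j ''ᵁ W ≤ f ⁻¹ᵁ V)
    {n : ℕ} {φ : MvPolynomial (Fin n) Γ(Y, V) →+* Γ(X, j ''ᵁ W)} (hφ : DerSch.IsChart f (j ''ᵁ W) V h' φ) :
    DerSch.IsChart (j ≫ f) W V h ((j.appIso W).hom.hom.comp φ) := by
  refine ⟨(ConcreteCategory.bijective_of_isIso (j.appIso W).hom).2.comp hφ.1, ?_⟩
  rw [RingHom.comp_assoc, hφ.2, Scheme.Hom.appIso_hom', ← CommRingCat.hom_comp, Scheme.Hom.appLE_comp_appLE]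

/-- Restriction to an open subscheme. -/
theorem rel_restrict {m : ℤ} {K : DCoh.D X} (hK : DerSch.IsPseudoCoherentRel f m K) :
    DerSch.IsPseudoCoherentRel (j ≫ f) m ((DCoh.restrictD j).obj K) := by
  haveI := hK.1
  refine rel_of_test (j ≫ f) fun z => ?_
  obtain ⟨W, V, hW, hV, hz, hle⟩ := exists_affine_pair (j ≫ f) z
  have h' : j ''ᵁ W ≤ f ⁻¹ᵁ V := by
    rintro x ⟨w, hw, rfl⟩
    exact hle hw
  obtain ⟨n, φ, hφ⟩ := exists_chart f h' (f.finiteType_appLE hV (hW.image_of_isOpenImmersion j) h')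
  exact ⟨W, V, hle, hW, hV, hz, (test_iff_of_chart (j ≫ f) hW (isChart_restrict j f hle h' hφ)).2
    ((cpc_restrict_iff j K hW hφ.1).2 (cpc_of_rel f hK (hW.image_of_isOpenImmersion j) hV hφ))⟩

/-- The test on a member of an open covering of the source. -/
theorem test_of_restrict [LocallyOfFiniteType f] {m : ℤ} {K : DCoh.D X}
    (hK : DerSch.IsPseudoCoherentRel (j ≫ f) m ((DCoh.restrictD j).obj K)) {W : Z.Opens} (hW : IsAffineOpen W)
    {V : Y.Opens} (hV : IsAffineOpen V) (h' : j ''ᵁ W ≤ f ⁻¹ᵁ V) : Test f m K (j ''ᵁ W) V h' := by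
  have hle : W ≤ (j ≫ f) ⁻¹ᵁ V := fun w hw => h' ⟨w, hw, rfl⟩
  obtain ⟨n, φ, hφ⟩ := exists_chart f h' (f.finiteType_appLE hV (hW.image_of_isOpenImmersion j) h')
  exact (test_iff_of_chart f (hW.image_of_isOpenImmersion j) hφ).2
    ((cpc_restrict_iff j K hW hφ.1).1 (cpc_of_rel (j ≫ f) hK hW hV (isChart_restrict j f hle h' hφ)))

/-- Relative pseudo-coherence is local on the source. -/
theorem rel_of_cover [LocallyOfFiniteType f] {m : ℤ} {K : DCoh.D X} {ι : Type*} {Zi : ι → Scheme.{u}}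
    (g : ∀ i, Zi i ⟶ X) [∀ i, IsOpenImmersion (g i)] (hg : ∀ x : X, ∃ i z, (g i).base z = x)
    (h : ∀ i, DerSch.IsPseudoCoherentRel (g i ≫ f) m ((DCoh.restrictD (g i)).obj K)) :
    DerSch.IsPseudoCoherentRel f m K :=
  rel_of_test f fun x => by
    obtain ⟨i, z, rfl⟩ := hg x
    obtain ⟨W, V, hW, hV, hz, hle⟩ := exists_affine_pair (g i ≫ f) z
    have h' : g i ''ᵁ W ≤ f ⁻¹ᵁ V := by
      rintro x ⟨w, hw, rfl⟩
      exact hle hw
    exact ⟨_, V, h', hW.image_of_isOpenImmersion (g i), hV, ⟨z, hz, rfl⟩, test_of_restrict (g i) f (h i) hW hV h'⟩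

theorem rel_of_iso {m : ℤ} {K L : DCoh.D X} (e : K ≅ L) (h : DerSch.IsPseudoCoherentRel f m K) :
    DerSch.IsPseudoCoherentRel f m L := by
  haveI := h.1
  exact rel_of_cpc f fun U V hle hU hV n φ hφ => (cpc_of_rel f h hU hV hφ).of_iso e

end Groth.Agent.RelPCLib
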