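import Groth.Agent.RelPCLib.Descent
import Groth.Agent.RelPCLib.Ascend
import Groth.Agent.RelPCLib.Open
import Groth.Agent.TildeD.QCohPull

/-!
# Relative pseudo-coherence read on modules over affine opens
-/

set_option autoImplicit false
set_option backward.isDefEq.respectTransparency false
set_option linter.style.haveILetI false
set_option linter.unusedSectionVars false
set_option maxHeartbeats 1000000

universe u

open CategoryTheory CategoryTheory.Limits AlgebraicGeometry TopologicalSpace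

attribute [local instance] HasDerivedCategory.standard

noncomputable section

namespace Groth.Agent.RelPCLib

open Groth.Agent.DCohLib

local instance preservesFiniteLimits_tilde' (R : CommRingCat.{u}) : PreservesFiniteLimits (tilde.functor R) :=
  TildeD.preservesFiniteLimits_tilde

variable {X X' S : Scheme.{u}}

/-- A module model of an object over an affine open. -/
def Model {U : X.Opens} (hU : IsAffineOpen U) (K : DCoh.D X) (M : Dual.D Γ(X, U)) : Prop :=
  Nonempty ((DCoh.tildeD (X.presheaf.obj (Opposite.op U))).obj M ≅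
    (pushD hU.isoSpec.hom).obj ((DCoh.restrictD U.ι).obj K))

theorem exists_model {K : DCoh.D X} (hK : DCoh.IsQCohD K) {U : X.Opens} (hU : IsAffineOpen U) :
    ∃ M, Model hU K M := by
  let G := DerivedCategory.Q.objPreimage K
  let eG : DCoh.toD X G ≅ K := DerivedCategory.Q.objObjPreimageIso K
  obtain ⟨M, ⟨e⟩⟩ := exists_tilde_model hK hU G eG
  exact ⟨M, ⟨e ≪≫ ((pushD hU.isoSpec.hom).mapIso (restrictDQ U.ι G) ≪≫ pushDQ hU.isoSpec.hom _).symm ≪≫
    (pushD hU.isoSpec.hom).mapIso ((DCoh.restrictD U.ι).mapIso eG)⟩⟩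

variable (p : X ⟶ S)

/-- The test is relative pseudo-coherence of the module model. -/
theorem test_iff_rel [LocallyOfFiniteType p] {m : ℤ} {K : DCoh.D X} {U : X.Opens} (hU : IsAffineOpen U)
    {V : S.Opens} (hV : IsAffineOpen V) (h : U ≤ p ⁻¹ᵁ V) {M : Dual.D Γ(X, U)} (hM : Model hU K M)
    [alg : Algebra Γ(S, V) Γ(X, U)] (halg : algebraMap Γ(S, V) Γ(X, U) = (p.appLE V U h).hom) :
    Test p m K U V h ↔ DerCA.IsRelPseudoCoherent Γ(S, V) Γ(X, U) m M := by
  obtain ⟨n, φ, hφ⟩ := exists_chart p h (p.finiteType_appLE hV hU h)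
  obtain ⟨e⟩ := hM
  rw [test_iff_of_chart p hU hφ, cpc_iff_pc' hU hφ.1 K M e]
  exact (PCHomLib.rel_iff φ hφ.1 (hφ.2.trans halg.symm) m M).symm

theorem isQCohD_pullD (g : X' ⟶ X) [Flat g] {K : DCoh.D X} (hK : DCoh.IsQCohD K) :
    DCoh.IsQCohD ((pullD g).obj K) := by
  obtain ⟨e⟩ := nonempty_lpull_pullD g K
  exact TildeD.isQCohD_of_iso e (TildeD.isQCohD_lpull g K hK)

/-- Models of inverse images along flat morphisms. -/
theorem model_pullD (g : X' ⟶ X) [Flat g] {U : X.Opens} (hU : IsAffineOpen U) {U' : X'.Opens}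
    (hU' : IsAffineOpen U') (h : U' ≤ g ⁻¹ᵁ U) [DRing.HasLBaseChange (g.appLE U U' h).hom]
    {K : DCoh.D X} {M : Dual.D Γ(X, U)} (hM : Model hU K M) :
    Model hU' ((pullD g).obj K) ((DRing.LBaseChange (g.appLE U U' h).hom).obj M) := by
  obtain ⟨eM⟩ := hM
  haveI : IsAffine (U : Scheme.{u}) := hU
  haveI : IsAffine (U' : Scheme.{u}) := hU'
  haveI : Flat (g.resLE U U' h) := inferInstance
  let σ : Spec (X'.presheaf.obj (Opposite.op U')) ⟶ Spec (X.presheaf.obj (Opposite.op U)) :=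
    Spec.map (g.appLE U U' h)
  haveI : Flat σ := by
    rw [HasRingHomProperty.Spec_iff (P := @Flat)]
    exact g.flat_appLE hU hU' h
  have hsq : IsPullback (g.resLE U U' h) hU'.isoSpec.hom hU.isoSpec.hom σ := IsPullback.of_vert_isIso ⟨by
    rw [hU.isoSpec_hom, hU'.isoSpec_hom, Scheme.Opens.toSpecΓ_SpecMap_appLE]⟩
  obtain ⟨e1⟩ := nonempty_restrict_pullD g h K
  obtain ⟨e2⟩ := nonempty_pullD_pushD hsq ((DCoh.restrictD U.ι).obj K)
  obtain ⟨e3⟩ := nonempty_lpull_pullD σ ((DCoh.tildeD (X.presheaf.obj (Opposite.op U))).obj M)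
  exact ⟨(TildeLpull.lbcLpullIso (g.appLE U U' h).hom).app M ≪≫ e3 ≪≫ (pullD σ).mapIso eM ≪≫ e2 ≪≫
    (pushD hU'.isoSpec.hom).mapIso e1.symm⟩

/-- Inverse images along flat morphisms of finite presentation preserve relative pseudo-coherence. -/
theorem rel_pullD_of_flat [LocallyOfFiniteType p] (g : X' ⟶ X) [Flat g] [LocallyOfFinitePresentation g] {m : ℤ}
    {K : DCoh.D X} (hK : DCoh.IsQCohD K) (h : DerSch.IsPseudoCoherentRel p m K) :
    DerSch.IsPseudoCoherentRel (g ≫ p) m ((pullD g).obj K) := by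
  refine rel_of_test (g ≫ p) fun x' => ?_
  obtain ⟨U', U, V, hU', hU, hV, hx, hU'U, hUV⟩ := exists_affine_triple p g x'
  have h₃ : U' ≤ (g ≫ p) ⁻¹ᵁ V := hU'U.trans (g.preimage_mono hUV)
  refine ⟨U', V, h₃, hU', hV, hx, ?_⟩
  obtain ⟨M, hM⟩ := exists_model hK hU
  letI : Algebra Γ(S, V) Γ(X, U) := (p.appLE V U hUV).hom.toAlgebra
  letI : Algebra Γ(X, U) Γ(X', U') := (g.appLE U U' hU'U).hom.toAlgebra
  letI : Algebra Γ(S, V) Γ(X', U') := ((g ≫ p).appLE V U' h₃).hom.toAlgebra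
  haveI : IsScalarTower Γ(S, V) Γ(X, U) Γ(X', U') := .of_algebraMap_eq' (by
    show ((g ≫ p).appLE V U' h₃).hom = (g.appLE U U' hU'U).hom.comp (p.appLE V U hUV).hom
    rw [← CommRingCat.hom_comp, Scheme.Hom.appLE_comp_appLE])
  haveI : Algebra.FiniteType Γ(S, V) Γ(X, U) := p.finiteType_appLE hV hU hUV
  haveI := DRingLib.hasLBaseChange (algebraMap Γ(X, U) Γ(X', U'))
  haveI : DRing.HasLBaseChange (g.appLE U U' hU'U).hom := ‹_›
  exact (test_iff_rel (g ≫ p) hU' hV h₃ (model_pullD g hU hU' hU'U hM) rfl).2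
    (rel_lbc (pcHom_appLE_of_flat g hU' hU hU'U) ((test_iff_rel p hU hV hUV hM rfl).1 (test_of_rel p h hU hV hUV)))

end Groth.Agent.RelPCLib
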