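import Groth.Agent.RelPCLib.FlatBC
import Groth.Agent.RelPCLib.Comp
import Groth.Agent.PullbackMod.Flat
import Groth.Agent.PCHomLib.BaseChange

/-!
# Flat base change of relative pseudo-coherence
-/

set_option autoImplicit false
set_option backward.isDefEq.respectTransparency false
set_option linter.style.haveILetI false
set_option linter.unusedSectionVars false
set_option maxHeartbeats 1000000

universe u

open CategoryTheory CategoryTheory.Limits AlgebraicGeometry TopologicalSpace
open scoped TensorProduct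

attribute [local instance] HasDerivedCategory.standard

noncomputable section

namespace Groth.Agent.RelPCLib

open Groth.Agent.DCohLib

variable {X X' : Scheme.{u}} (g : X' ⟶ X) [Flat g]

theorem nonempty_restrict_pullD {U : X.Opens} {U' : X'.Opens} (h : U' ≤ g ⁻¹ᵁ U) [Flat (g.resLE U U' h)]
    (K : DCoh.D X) :
    Nonempty ((DCoh.restrictD U'.ι).obj ((pullD g).obj K) ≅
      (pullD (g.resLE U U' h)).obj ((DCoh.restrictD U.ι).obj K)) := by
  let r := g.resLE U U' h
  let β : Scheme.Modules.pullback g ⋙ Scheme.Modules.restrictFunctor U'.ι ≅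
      Scheme.Modules.restrictFunctor U.ι ⋙ Scheme.Modules.pullback r :=
    Functor.isoWhiskerLeft _ (Scheme.Modules.restrictFunctorIsoPullback U'.ι) ≪≫
      Scheme.Modules.pullbackComp U'.ι g ≪≫
      Scheme.Modules.pullbackCongr (Scheme.Hom.resLE_comp_ι g h).symm ≪≫
      (Scheme.Modules.pullbackComp r U.ι).symm ≪≫
      Functor.isoWhiskerRight (Scheme.Modules.restrictFunctorIsoPullback U.ι).symm _
  let F := DerivedCategory.Q.objPreimage K
  let e := DerivedCategory.Q.objObjPreimageIso K
  let c : (resCx U'.ι).obj (((Scheme.Modules.pullback g).mapHomologicalComplex (ComplexShape.up ℤ)).obj F) ≅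
      ((Scheme.Modules.pullback r).mapHomologicalComplex (ComplexShape.up ℤ)).obj ((resCx U.ι).obj F) :=
    HomologicalComplex.Hom.isoOfComponents (fun q => β.app (F.X q))
      (fun p q _ => (β.hom.naturality (F.d p q)).symm)
  exact ⟨(DCoh.restrictD U'.ι).mapIso ((pullD g).mapIso e.symm ≪≫
      (Scheme.Modules.pullback g).mapDerivedCategoryFactors.app _) ≪≫ restrictDQ U'.ι _ ≪≫
    DerivedCategory.Q.mapIso c ≪≫ ((Scheme.Modules.pullback r).mapDerivedCategoryFactors.app _).symm ≪≫
    (pullD r).mapIso ((restrictDQ U.ι F).symm ≪≫ (DCoh.restrictD U.ι).mapIso e)⟩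

theorem isPullback_emb {U : X.Opens} (hU : IsAffineOpen U) {U' : X'.Opens} (hU' : IsAffineOpen U')
    (h : U' ≤ g ⁻¹ᵁ U) {P P' : Type u} [CommRing P] [CommRing P'] (ι : P →+* P')
    (φ : P →+* Γ(X, U)) (φ' : P' →+* Γ(X', U'))
    (hpo : IsPushout (CommRingCat.ofHom φ) (CommRingCat.ofHom ι) (g.appLE U U' h) (CommRingCat.ofHom φ')) :
    IsPullback (g.resLE U U' h) (emb U' φ') (emb U φ) (Spec.map (CommRingCat.ofHom ι)) := by
  haveI : IsIso U.toSpecΓ := by
    rw [← hU.isoSpec_hom]
    infer_instance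
  haveI : IsIso U'.toSpecΓ := by
    rw [← hU'.isoSpec_hom]
    infer_instance
  have hS := isPullback_SpecMap_of_isPushout _ _ _ _ hpo
  refine IsPullback.of_iso hS (asIso U'.toSpecΓ).symm (asIso U.toSpecΓ).symm (Iso.refl _) (Iso.refl _) ?_ ?_ ?_ ?_
  · simp only [Iso.symm_hom, asIso_inv]
    rw [IsIso.eq_inv_comp, ← Category.assoc, Scheme.Opens.toSpecΓ_SpecMap_appLE, Category.assoc, IsIso.hom_inv_id,
      Category.comp_id]
  · simp [emb]
  · simp [emb]
  · simp

theorem cpc_pullD {m : ℤ} {K : DCoh.D X} {U : X.Opens} (hU : IsAffineOpen U) {U' : X'.Opens}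
    (hU' : IsAffineOpen U') (h : U' ≤ g ⁻¹ᵁ U) [Flat (g.resLE U U' h)] {P P' : Type u} [CommRing P] [CommRing P']
    (ι : P →+* P') (hι : ι.Flat)
    {φ : P →+* Γ(X, U)} (hφ : Function.Surjective φ) {φ' : P' →+* Γ(X', U')} (hφ' : Function.Surjective φ')
    (hpo : IsPushout (CommRingCat.ofHom φ) (CommRingCat.ofHom ι) (g.appLE U U' h) (CommRingCat.ofHom φ'))
    (hK : CPC m K U φ) : CPC m ((pullD g).obj K) U' φ' := by
  haveI := isClosedImmersion_emb hU hφ
  haveI := isClosedImmersion_emb hU' hφ'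
  haveI : Flat (Spec.map (CommRingCat.ofHom ι)) := by
    rwa [HasRingHomProperty.Spec_iff (P := @Flat)]
  rw [cpc_iff] at hK ⊢
  obtain ⟨e1⟩ := nonempty_restrict_pullD g h K
  obtain ⟨e2⟩ := nonempty_pullD_pushD (isPullback_emb g hU hU' h ι φ φ' hpo) ((DCoh.restrictD U.ι).obj K)
  exact isPseudoCoherentD_iso (e2 ≪≫ (pushD (emb U' φ')).mapIso e1.symm) (pc_pullD _ hK)

attribute [local instance] MvPolynomial.algebraMvPolynomial in
/-- The chart after base change. -/
theorem exists_chart_pushout {B B' C C' : Type u} [CommRing B] [CommRing B'] [CommRing C] [CommRing C']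
    [Algebra B B'] [Algebra B C] [Algebra B' C'] [Algebra C C'] [Algebra B C'] [IsScalarTower B B' C']
    [IsScalarTower B C C'] [hp : Algebra.IsPushout B B' C C'] [Module.Flat B B'] {n : ℕ}
    (φ : MvPolynomial (Fin n) B →+* C) (hφ : Function.Surjective φ) (hc : φ.comp MvPolynomial.C = algebraMap B C) :
    ∃ φ' : MvPolynomial (Fin n) B' →+* C', Function.Surjective φ' ∧ φ'.comp MvPolynomial.C = algebraMap B' C' ∧
      (MvPolynomial.map (σ := Fin n) (algebraMap B B')).Flat ∧
      IsPushout (CommRingCat.ofHom φ) (CommRingCat.ofHom (MvPolynomial.map (σ := Fin n) (algebraMap B B')))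
        (CommRingCat.ofHom (algebraMap C C')) (CommRingCat.ofHom φ') := by
  let P := MvPolynomial (Fin n) B
  let P' := MvPolynomial (Fin n) B'
  let φ' : P' →+* C' := MvPolynomial.eval₂Hom (algebraMap B' C') fun i => algebraMap C C' (φ (MvPolynomial.X i))
  have hmap : φ'.comp (MvPolynomial.map (algebraMap B B')) = (algebraMap C C').comp φ := by
    refine MvPolynomial.ringHom_ext (fun r => ?_) fun i => ?_
    · show φ' (MvPolynomial.map (algebraMap B B') (MvPolynomial.C r)) = algebraMap C C' (φ (MvPolynomial.C r))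
      rw [MvPolynomial.map_C, show φ (MvPolynomial.C r) = algebraMap B C r from RingHom.congr_fun hc r,
        ← IsScalarTower.algebraMap_apply B C C']
      exact (MvPolynomial.eval₂Hom_C _ _ _).trans (IsScalarTower.algebraMap_apply B B' C' r).symm
    · show φ' (MvPolynomial.map (algebraMap B B') (MvPolynomial.X i)) = algebraMap C C' (φ (MvPolynomial.X i))
      rw [MvPolynomial.map_X]
      exact MvPolynomial.eval₂Hom_X' _ _ _
  have hc' : φ'.comp MvPolynomial.C = algebraMap B' C' := MvPolynomial.eval₂Hom_comp_C _ _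
  letI : Algebra P C := φ.toAlgebra
  letI : Algebra P' C' := φ'.toAlgebra
  letI : Algebra P C' := ((algebraMap C C').comp φ).toAlgebra
  haveI : IsScalarTower P C C' := .of_algebraMap_eq fun _ => rfl
  haveI : IsScalarTower P P' C' := .of_algebraMap_eq fun x => (RingHom.congr_fun hmap x).symm
  haveI : IsScalarTower B P C := .of_algebraMap_eq fun x => (RingHom.congr_fun hc x).symm
  haveI : IsScalarTower B' P' C' := .of_algebraMap_eq fun x => (RingHom.congr_fun hc' x).symm
  haveI : IsScalarTower B P C' := .of_algebraMap_eq fun x => by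
    show algebraMap B C' x = algebraMap C C' (φ (MvPolynomial.C x))
    rw [show φ (MvPolynomial.C x) = algebraMap B C x from RingHom.congr_fun hc x,
      ← IsScalarTower.algebraMap_apply]
  haveI : IsScalarTower B P' C' := .of_algebraMap_eq fun x => by
    rw [IsScalarTower.algebraMap_apply B B' P', ← IsScalarTower.algebraMap_apply B' P' C',
      ← IsScalarTower.algebraMap_apply]
  haveI : Algebra.IsPushout B P B' P' := inferInstance
  haveI : Algebra.IsPushout B C B' C' := hp.symm
  haveI hP : Algebra.IsPushout P P' C C' :=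
    ((Algebra.IsPushout.comp_iff (R := B) (S := P) (T := C) (R' := B') (S' := P') (T' := C')).mp
      inferInstance).symm
  have hfl : Module.Flat P P' :=
    Module.Flat.isBaseChange B P B' P' (Algebra.IsPushout.out (R := B) (S := P) (R' := B') (S' := P'))
  refine ⟨φ', fun y => ?_, hc', hfl, ?_⟩
  · induction y using hP.out.inductionOn with
    | zero => exact ⟨0, map_zero _⟩
    | tmul c =>
      obtain ⟨p, rfl⟩ := hφ c
      exact ⟨MvPolynomial.map (algebraMap B B') p, RingHom.congr_fun hmap p⟩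
    | smul a x hx =>
      obtain ⟨q, rfl⟩ := hx
      exact ⟨a * q, by rw [map_mul, Algebra.smul_def]; rfl⟩
    | add x y hx hy =>
      obtain ⟨a, rfl⟩ := hx
      obtain ⟨b, rfl⟩ := hy
      exact ⟨a + b, map_add _ _ _⟩
  · exact (CommRingCat.isPushout_of_isPushout P P' C C').flip

variable {S S' : Scheme.{u}} {f : X ⟶ S} {f' : X' ⟶ S'} {h : S' ⟶ S}

/-- Flat base change. -/
theorem rel_baseChange [Flat h] [LocallyOfFiniteType f] (hc : IsPullback g f' f h) {m : ℤ} {K : DCoh.D X}
    (hK : DerSch.IsPseudoCoherentRel f m K) : DerSch.IsPseudoCoherentRel f' m ((pullD g).obj K) := by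
  haveI : LocallyOfFiniteType f' := MorphismProperty.of_isPullback hc inferInstance
  refine rel_of_test f' fun x' => ?_
  obtain ⟨V, W, V', hV, hW, hV', e, e', hxW, hxV'⟩ := PullbackMod.exists_affines hc x'
  obtain ⟨hW', hpo⟩ := PullbackMod.isPushout_appLE hc hV hW hV' e e'
  let W' := g ⁻¹ᵁ W ⊓ f' ⁻¹ᵁ V'
  letI : Algebra Γ(S, V) Γ(X, W) := (f.appLE V W e).hom.toAlgebra
  letI : Algebra Γ(S, V) Γ(S', V') := (h.appLE V V' e').hom.toAlgebra
  letI : Algebra Γ(X, W) Γ(X', W') := (g.appLE W W' inf_le_left).hom.toAlgebra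
  letI : Algebra Γ(S', V') Γ(X', W') := (f'.appLE V' W' inf_le_right).hom.toAlgebra
  letI : Algebra Γ(S, V) Γ(X', W') := ((g.appLE W W' inf_le_left).hom.comp (f.appLE V W e).hom).toAlgebra
  haveI : IsScalarTower Γ(S, V) Γ(X, W) Γ(X', W') := .of_algebraMap_eq fun _ => rfl
  haveI : IsScalarTower Γ(S, V) Γ(S', V') Γ(X', W') := .of_algebraMap_eq' (by
      show ((f.appLE V W e) ≫ g.appLE W _ inf_le_left).hom = ((h.appLE V V' e') ≫ f'.appLE V' _ inf_le_right).hom
      simp only [Scheme.Hom.appLE_comp_appLE, hc.w])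
  haveI : Algebra.IsPushout Γ(S, V) Γ(S', V') Γ(X, W) Γ(X', W') := hpo
  haveI : Module.Flat Γ(S, V) Γ(S', V') := h.flat_appLE hV hV' e'
  obtain ⟨n, φ, hφ⟩ := exists_chart f e (f.finiteType_appLE hV hW e)
  obtain ⟨φ', hφ', hc', hfl, hsq⟩ := exists_chart_pushout (B' := Γ(S', V')) (C' := Γ(X', W')) φ hφ.1 hφ.2
  haveI : Flat (g.resLE W W' inf_le_left) := by
    haveI := hsq
    haveI : IsAffine (W : Scheme.{u}) := hW
    haveI : IsAffine (W' : Scheme.{u}) := hW'
    infer_instance
  exact ⟨W', V', inf_le_right, hW', hV', ⟨hxW, hxV'⟩, (test_iff_of_chart f' hW' ⟨hφ', hc'⟩).2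
    (cpc_pullD g hW hW' inf_le_left _ hfl hφ.1 hφ' hsq (cpc_of_rel f hK hW hV hφ))⟩

end Groth.Agent.RelPCLib
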