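import Groth.Agent.RelPCLib.Rel
import Groth.Agent.RelPCLib.Abs

/-!
# Elementary properties of relative pseudo-coherence
-/

set_option autoImplicit false
set_option backward.isDefEq.respectTransparency false
set_option linter.style.haveILetI false
set_option linter.unusedSectionVars false
set_option maxHeartbeats 1000000

universe u

open CategoryTheory CategoryTheory.Limits AlgebraicGeometry TopologicalSpace
open CategoryTheory.Pretriangulated

attribute [local instance] HasDerivedCategory.standard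

noncomputable section

namespace Groth.Agent.RelPCLib

open Groth.Agent.DCohLib

variable {X Y : Scheme.{u}} (f : X ⟶ Y)

theorem exists_affine_pair (x : X) : ∃ (U : X.Opens) (V : Y.Opens),
    IsAffineOpen U ∧ IsAffineOpen V ∧ x ∈ U ∧ U ≤ f ⁻¹ᵁ V := by
  obtain ⟨_, ⟨V : Y.Opens, hV, rfl⟩, hy, -⟩ :=
    Y.isBasis_affineOpens.exists_subset_of_mem_open (a := f.base x) (Set.mem_univ _) isOpen_univ
  obtain ⟨_, ⟨U : X.Opens, hU, rfl⟩, hx, hUV⟩ :=
    X.isBasis_affineOpens.exists_subset_of_mem_open (a := x) (show x ∈ f ⁻¹ᵁ V from hy) (f ⁻¹ᵁ V).isOpen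
  exact ⟨U, V, hU, hV, hx, hUV⟩

/-- To prove relative pseudo-coherence it is enough to treat one chart on every pair of affines. -/
theorem rel_of_cpc [LocallyOfFiniteType f] {m : ℤ} {K : DCoh.D X}
    (h : ∀ (U : X.Opens) (V : Y.Opens) (hle : U ≤ f ⁻¹ᵁ V), IsAffineOpen U → IsAffineOpen V →
      ∀ (n : ℕ) (φ : MvPolynomial (Fin n) Γ(Y, V) →+* Γ(X, U)), DerSch.IsChart f U V hle φ → CPC m K U φ) :
    DerSch.IsPseudoCoherentRel f m K :=
  rel_of_test f fun x => by
    obtain ⟨U, V, hU, hV, hx, hle⟩ := exists_affine_pair f x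
    obtain ⟨n, φ, hφ⟩ := exists_chart f hle (f.finiteType_appLE hV hU hle)
    exact ⟨U, V, hle, hU, hV, hx, (test_iff_of_chart f hU hφ).2 (h U V hle hU hV n φ hφ)⟩

/-- The test holds for every chart. -/
theorem cpc_of_rel {m : ℤ} {K : DCoh.D X} (hK : DerSch.IsPseudoCoherentRel f m K) {U : X.Opens} (hU : IsAffineOpen U)
    {V : Y.Opens} (hV : IsAffineOpen V) {h : U ≤ f ⁻¹ᵁ V}
    {n : ℕ} {φ : MvPolynomial (Fin n) Γ(Y, V) →+* Γ(X, U)} (hφ : DerSch.IsChart f U V h φ) : CPC m K U φ := by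
  haveI := hK.1
  exact (test_iff_of_chart f hU hφ).1 (test_of_rel f hK hU hV h)

/-- Restriction of a module in degree zero. -/
def restrictInD {U : Scheme.{u}} (j : U ⟶ X) [IsOpenImmersion j] (M : X.Modules) :
    (DCoh.restrictD j).obj (DCoh.inD X M) ≅ DCoh.inD U ((Scheme.Modules.restrictFunctor j).obj M) :=
  ((Scheme.Modules.restrictFunctor j).mapDerivedCategorySingleFunctor 0).app M

theorem cpc_inD_iff {m : ℤ} (M : X.Modules) {U : X.Opens} {P : Type u} [CommRing P] (φ : P →+* Γ(X, U))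
    [IsClosedImmersion (emb U φ)] :
    CPC m (DCoh.inD X M) U φ ↔ DCoh.IsPseudoCoherentD m (DCoh.inD (Spec (CommRingCat.of P))
      ((Scheme.Modules.pushforward (emb U φ)).obj ((Scheme.Modules.restrictFunctor U.ι).obj M))) := by
  rw [cpc_iff]
  let e := (pushD (emb U φ)).mapIso (restrictInD U.ι M) ≪≫ pushInD (emb U φ) _
  exact ⟨isPseudoCoherentD_iso e, isPseudoCoherentD_iso e.symm⟩

theorem cpc_toD {m : ℤ} {U : X.Opens} (hU : IsAffineOpen U) {P : Type u} [CommRing P] {φ : P →+* Γ(X, U)}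
    (hφ : Function.Surjective φ) (F : CochainComplex X.Modules ℤ) {b : ℤ} (hb : ∀ i, b < i → IsZero (F.X i))
    (h : ∀ i, m ≤ i → CPC (m - i) (DCoh.inD X (F.X i)) U φ) : CPC m (DCoh.toD X F) U φ := by
  haveI := isClosedImmersion_emb hU hφ
  rw [cpc_iff]
  refine isPseudoCoherentD_iso
    ((pushD (emb U φ)).mapIso (restrictDQ U.ι F) ≪≫ pushDQ (emb U φ) _).symm
    (pc_of_terms _ (b := b) (fun i hi => ?_) m fun i hi => (cpc_inD_iff (F.X i) φ).1 (h i hi))
  exact (Scheme.Modules.pushforward (emb U φ)).map_isZero ((Scheme.Modules.restrictFunctor U.ι).map_isZero (hb i hi))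

theorem cpc_of_homology {m : ℤ} {U : X.Opens} (hU : IsAffineOpen U) {P : Type u} [CommRing P] {φ : P →+* Γ(X, U)}
    (hφ : Function.Surjective φ) (K : DCoh.D X) {b : ℤ} (hb : AboveZero b K)
    (h : ∀ i, m ≤ i → CPC (m - i) (DCoh.inD X (DCoh.HD K i)) U φ) : CPC m K U φ := by
  haveI := isClosedImmersion_emb hU hφ
  rw [cpc_iff]
  refine pc_of_homology m (b - m).toNat _ (fun i hi => ?_) fun i hi => ?_
  · refine ((Scheme.Modules.pushforward (emb U φ)).map_isZero ?_).of_iso (pushHDIso (emb U φ) _ i)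
    exact ((Scheme.Modules.restrictFunctor U.ι).map_isZero (hb i (by omega))).of_iso (restrictHDIso U.ι K i)
  · exact isPseudoCoherentD_iso ((DerivedCategory.singleFunctor _ 0).mapIso
      (pushHDIso (emb U φ) _ i ≪≫ (Scheme.Modules.pushforward (emb U φ)).mapIso (restrictHDIso U.ι K i))).symm
      ((cpc_inD_iff (DCoh.HD K i) φ).1 (h i hi))

end Groth.Agent.RelPCLib
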