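import Groth.Agent.RelPCLib.Compat
import Groth.Agent.DerSchH7.ChartMod
import Groth.Agent.PCHomLib.Rel
import Groth.Agent.PCHomLib.Local

/-!
# Chart tests for pseudo-coherence along closed immersions into affine schemes
-/

set_option autoImplicit false
set_option backward.isDefEq.respectTransparency false
set_option linter.style.haveILetI false
set_option linter.unusedSectionVars false
set_option maxHeartbeats 1000000

universe u

open CategoryTheory CategoryTheory.Limits AlgebraicGeometry TopologicalSpace Opposite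
open CategoryTheory.Pretriangulated

attribute [local instance] HasDerivedCategory.standard

noncomputable section

namespace Groth.Agent.RelPCLib

open Groth.Agent.DCohLib

variable {X : Scheme.{u}}

/-- An open mapped into an affine scheme through a ring map to its sections. -/
def emb (U : X.Opens) {P : Type u} [CommRing P] (φ : P →+* Γ(X, U)) :
    (U : Scheme.{u}) ⟶ Spec (CommRingCat.of P) :=
  U.toSpecΓ ≫ Spec.map (CommRingCat.ofHom φ)

theorem isClosedImmersion_emb {U : X.Opens} (hU : IsAffineOpen U) {P : Type u} [CommRing P]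
    {φ : P →+* Γ(X, U)} (hφ : Function.Surjective φ) : IsClosedImmersion (emb U φ) := by
  haveI : IsIso U.toSpecΓ := by
    rw [← hU.isoSpec_hom]
    infer_instance
  have h1 : IsClosedImmersion (Spec.map (CommRingCat.ofHom φ)) :=
    IsClosedImmersion.spec_of_surjective _ hφ
  delta emb
  infer_instance

/-- The test: the direct image of the restriction is pseudo-coherent. -/
def CPC (m : ℤ) (K : DCoh.D X) (U : X.Opens) {P : Type u} [CommRing P] (φ : P →+* Γ(X, U)) : Prop :=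
  ∀ _h : IsClosedImmersion (emb U φ),
    DCoh.IsPseudoCoherentD m ((pushD (emb U φ)).obj ((DCoh.restrictD U.ι).obj K))

theorem cpc_iff (m : ℤ) (K : DCoh.D X) {U : X.Opens} {P : Type u} [CommRing P] (φ : P →+* Γ(X, U))
    [IsClosedImmersion (emb U φ)] :
    CPC m K U φ ↔ DCoh.IsPseudoCoherentD m ((pushD (emb U φ)).obj ((DCoh.restrictD U.ι).obj K)) :=
  ⟨fun h => h inferInstance, fun h _ => h⟩

theorem CPC.of_iso {m : ℤ} {K L : DCoh.D X} {U : X.Opens} {P : Type u} [CommRing P] {φ : P →+* Γ(X, U)}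
    (h : CPC m K U φ) (e : K ≅ L) : CPC m L U φ := fun hc =>
  isPseudoCoherentD_iso ((pushD (emb U φ)).mapIso ((DCoh.restrictD U.ι).mapIso e)) (h hc)

/-- The test on a chart over a base. -/
theorem chartPC_iff {Y : Scheme.{u}} (m : ℤ) (K : DCoh.D X) {U : X.Opens} (hU : IsAffineOpen U) {V : Y.Opens}
    {n : ℕ} {φ : MvPolynomial (Fin n) Γ(Y, V) →+* Γ(X, U)} (hφ : Function.Surjective φ) :
    DerSch.ChartPC m K U V φ ↔ CPC m K U φ := by
  haveI := isClosedImmersion_emb hU hφ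
  rw [cpc_iff]
  have key : ∀ G : CochainComplex X.Modules ℤ, (DCoh.toD X G ≅ K) →
      Nonempty (DerivedCategory.Q.obj ((DerSch.pushCx (DerSch.chartImm U φ)).obj ((DCoh.restrictCx U).obj G)) ≅
        (pushD (emb U φ)).obj ((DCoh.restrictD U.ι).obj K)) := fun G e =>
    ⟨(pushDQ (emb U φ) _).symm ≪≫ (pushD (emb U φ)).mapIso
      ((restrictDQ U.ι G).symm ≪≫ (DCoh.restrictD U.ι).mapIso e)⟩
  constructor
  · intro h
    obtain ⟨e⟩ := key _ (DerivedCategory.Q.objObjPreimageIso K)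
    exact isPseudoCoherentD_iso e (h _ ⟨DerivedCategory.Q.objObjPreimageIso K⟩)
  · rintro h G ⟨e⟩
    obtain ⟨e'⟩ := key G e
    exact isPseudoCoherentD_iso e'.symm h

/-- A pseudo-coherent surjection of rings gives a closed immersion with pseudo-coherent structure sheaf. -/
theorem pcUnit_spec {P Q : Type u} [CommRing P] [CommRing Q] {ψ : P →+* Q} (hψ : DRingLib.PCMap ψ)
    [IsClosedImmersion (Spec.map (CommRingCat.ofHom ψ))] : PCUnit (Spec.map (CommRingCat.ofHom ψ)) := by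
  intro m
  let f := Spec.map (CommRingCat.ofHom ψ)
  let T := (Scheme.Modules.pushforward f).obj (Coh.structureModule (Spec (CommRingCat.of Q)))
  haveI : Coh.IsQCoh (Coh.structureModule (Spec (CommRingCat.of Q))) := CohBase.isQCoh_structureModule
  haveI : Coh.IsQCoh T := QCohLib.isQCoh_pushforward (Coh.structureModule (Spec (CommRingCat.of Q))) f
  refine isPseudoCoherentD_iso ((DerivedCategory.singleFunctorIsoCompQ _ 0).app T).symm
    ((DerSchH7.pc_single_iff T m).2 ?_)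
  let N := (moduleSpecΓFunctor (R := CommRingCat.of P)).obj T
  let R := (ModuleCat.restrictScalars.{u} ψ).obj (ModuleCat.of Q Q)
  let θ : R →+ N := (Scheme.ΓSpecIso (CommRingCat.of Q)).inv.hom.toAddMonoidHom
  have hθ : Function.Bijective θ :=
    ConcreteCategory.bijective_of_isIso ((Scheme.ΓSpecIso (CommRingCat.of Q)).inv)
  let l : R ≅ N := (AddEquiv.toLinearEquiv (AddEquiv.ofBijective θ hθ) fun a (x : Q) => by
    show (Scheme.ΓSpecIso (CommRingCat.of Q)).inv.hom (ψ a * x) =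
      f.appTop ((Scheme.ΓSpecIso (CommRingCat.of P)).inv.hom a) * (Scheme.ΓSpecIso (CommRingCat.of Q)).inv.hom x
    rw [map_mul]
    exact congrArg (· * _) (ConcreteCategory.congr_hom (Scheme.ΓSpecIso_inv_naturality (CommRingCat.ofHom ψ)) a)).toModuleIso
  obtain ⟨e⟩ := DRingLib.nonempty_restrictD_inD ψ (ModuleCat.of Q Q)
  exact (hψ m).of_iso (e ≪≫ (DerivedCategory.singleFunctor (ModuleCat.{u} P) 0).mapIso l)

theorem emb_comp {U : X.Opens} {P Q : Type u} [CommRing P] [CommRing Q] (φ : Q →+* Γ(X, U)) (ψ : P →+* Q) :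
    emb U φ ≫ Spec.map (CommRingCat.ofHom ψ) = emb U (φ.comp ψ) := by
  simp only [emb, Category.assoc, ← Spec.map_comp]
  rfl

/-- The test may be made through a pseudo-coherent surjection. -/
theorem cpc_comp {m : ℤ} {K : DCoh.D X} {U : X.Opens} (hU : IsAffineOpen U) {P Q : Type u} [CommRing P]
    [CommRing Q] {φ : Q →+* Γ(X, U)} (hφ : Function.Surjective φ) {ψ : P →+* Q} (hψs : Function.Surjective ψ)
    (hψ : DRingLib.PCMap ψ) : CPC m K U (φ.comp ψ) ↔ CPC m K U φ := by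
  haveI := isClosedImmersion_emb hU hφ
  haveI := isClosedImmersion_emb hU (φ := φ.comp ψ) (hφ.comp hψs)
  haveI : IsClosedImmersion (Spec.map (CommRingCat.ofHom ψ)) := IsClosedImmersion.spec_of_surjective _ hψs
  rw [cpc_iff, cpc_iff, ← pc_pushD_iff (Spec.map (CommRingCat.ofHom ψ)) (pcUnit_spec hψ)]
  obtain ⟨e⟩ := nonempty_pushD_comp (emb U φ) (Spec.map (CommRingCat.ofHom ψ)) (emb U (φ.comp ψ)) (emb_comp φ ψ)
    ((DCoh.restrictD U.ι).obj K)
  exact ⟨isPseudoCoherentD_iso e.symm, isPseudoCoherentD_iso e⟩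

/-- A basic open of an affine scheme. -/
abbrev bas {P : Type u} [CommRing P] (g : P) : (Spec (CommRingCat.of P)).Opens := PrimeSpectrum.basicOpen g

theorem emb_preimage_basicOpen {U : X.Opens} (hU : IsAffineOpen U) {P : Type u} [CommRing P] (φ : P →+* Γ(X, U))
    (g : P) : emb U φ ⁻¹ᵁ bas g = U.ι ⁻¹ᵁ X.basicOpen (φ g) := by
  rw [emb, Scheme.Hom.comp_preimage, SpecMap_preimage_basicOpen, ← hU.isoSpec_hom]
  show hU.isoSpec.hom ⁻¹ᵁ PrimeSpectrum.basicOpen (φ g) = _
  rw [← hU.fromSpec_preimage_basicOpen (φ g), ← Scheme.Hom.comp_preimage, IsAffineOpen.isoSpec_hom_fromSpec]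

theorem emb_localization {U : X.Opens} {P P' : Type u} [CommRing P] [CommRing P'] [Algebra P P']
    (φ : P →+* Γ(X, U)) {W : X.Opens} (hW : W ≤ U) (φ' : P' →+* Γ(X, W))
    (hφ' : φ'.comp (algebraMap P P') = (X.presheaf.map (homOfLE hW).op).hom.comp φ) :
    emb W φ' ≫ Spec.map (CommRingCat.ofHom (algebraMap P P')) = X.homOfLE hW ≫ emb U φ := by
  rw [emb_comp, hφ']
  simp only [emb, ← Category.assoc, ← Scheme.Opens.toSpecΓ_SpecMap_presheaf_map W U hW]
  rw [Category.assoc, ← Spec.map_comp]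
  rfl

/-- The test on a basic open is the restriction of the test to the corresponding basic open. -/
theorem cpc_localization {m : ℤ} {K : DCoh.D X} {U : X.Opens} (hU : IsAffineOpen U) {P P' : Type u}
    [CommRing P] [CommRing P'] [Algebra P P'] (g : P) [IsLocalization.Away g P']
    {φ : P →+* Γ(X, U)} (hφ : Function.Surjective φ) (φ' : P' →+* Γ(X, X.basicOpen (φ g)))
    (hφ' : φ'.comp (algebraMap P P') = (X.presheaf.map (homOfLE (X.basicOpen_le (φ g))).op).hom.comp φ)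
    [IsClosedImmersion (emb U φ)] :
    CPC m K (X.basicOpen (φ g)) φ' ↔
      DCoh.IsPseudoCoherentD m ((DCoh.restrictD (bas g).ι).obj ((pushD (emb U φ)).obj ((DCoh.restrictD U.ι).obj K))) := by
  let W := X.basicOpen (φ g)
  let i := emb U φ
  let V : (Spec (CommRingCat.of P)).Opens := bas g
  let j := Spec.map (CommRingCat.ofHom (algebraMap P P'))
  haveI : IsOpenImmersion j := IsOpenImmersion.of_isLocalization g
  have hjr : Set.range j = Set.range V.ι := by
    rw [Scheme.Opens.range_ι]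
    exact PrimeSpectrum.localization_away_comap_range P' g
  let s : Spec (CommRingCat.of P') ≅ (V : Scheme.{u}) := IsOpenImmersion.isoOfRangeEq j V.ι hjr
  have hWi : i ⁻¹ᵁ V = U.ι ⁻¹ᵁ W := emb_preimage_basicOpen hU φ g
  have htr : Set.range ((i ⁻¹ᵁ V).ι ≫ U.ι) = Set.range W.ι := by
    rw [Scheme.Opens.range_ι, hWi]
    ext x
    constructor
    · rintro ⟨⟨y, hy⟩, rfl⟩
      exact hy
    · intro hx
      exact ⟨⟨⟨x, X.basicOpen_le (φ g) hx⟩, hx⟩, rfl⟩
  let t : ((i ⁻¹ᵁ V : (U : Scheme.{u}).Opens) : Scheme.{u}) ≅ (W : Scheme.{u}) :=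
    IsOpenImmersion.isoOfRangeEq ((i ⁻¹ᵁ V).ι ≫ U.ι) W.ι htr
  have hW : IsAffineOpen W := hU.basicOpen (φ g)
  have hsurj : Function.Surjective φ' := by
    haveI := hU.isLocalization_basicOpen (φ g)
    intro y
    obtain ⟨b, ⟨_, k, rfl⟩, rfl⟩ := IsLocalization.exists_mk'_eq (Submonoid.powers (φ g)) y
    obtain ⟨p, rfl⟩ := hφ b
    refine ⟨IsLocalization.mk' _ p (⟨g ^ k, k, rfl⟩ : Submonoid.powers g), ?_⟩
    rw [IsLocalization.eq_mk'_iff_mul_eq]
    have e1 : ∀ a : P, φ' (algebraMap P P' a) = algebraMap Γ(X, U) Γ(X, W) (φ a) := fun a => RingHom.congr_fun hφ' a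
    show φ' _ * algebraMap Γ(X, U) Γ(X, W) ((φ g) ^ k) = algebraMap Γ(X, U) Γ(X, W) (φ p)
    rw [← map_pow φ, ← e1, ← e1, ← map_mul, IsLocalization.mk'_spec]
  haveI := isClosedImmersion_emb hW hsurj
  rw [cpc_iff]
  have hcomp : t.inv ≫ (i ∣_ V) ≫ s.inv = emb W φ' := by
    rw [← cancel_mono j]
    have h1 : s.inv ≫ j = V.ι := IsOpenImmersion.isoOfRangeEq_inv_fac _ _ _
    have h2 : t.inv ≫ (i ⁻¹ᵁ V).ι ≫ U.ι = W.ι := IsOpenImmersion.isoOfRangeEq_inv_fac _ _ _
    have h3 : t.inv ≫ (i ⁻¹ᵁ V).ι = X.homOfLE (X.basicOpen_le (φ g)) := by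
      rw [← cancel_mono U.ι, Category.assoc, h2, Scheme.homOfLE_ι]
    rw [emb_localization φ (X.basicOpen_le (φ g)) φ' hφ', Category.assoc, Category.assoc, h1, morphismRestrict_ι,
      ← Category.assoc, h3]
  obtain ⟨e0⟩ := nonempty_restrict_pushD i V ((DCoh.restrictD U.ι).obj K)
  obtain ⟨e1⟩ := nonempty_restrictD_pushInv t ((DCoh.restrictD W.ι).obj K)
  let eK : (DCoh.restrictD (i ⁻¹ᵁ V).ι).obj ((DCoh.restrictD U.ι).obj K) ≅
      (pushD t.inv).obj ((DCoh.restrictD W.ι).obj K) :=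
    ((restrictDComp (i ⁻¹ᵁ V).ι U.ι).symm ≪≫
      restrictDCongr (IsOpenImmersion.isoOfRangeEq_hom_fac _ _ htr).symm ≪≫ restrictDComp t.hom W.ι).app K ≪≫ e1
  obtain ⟨e2⟩ := nonempty_pushD_comp t.inv (i ∣_ V) (t.inv ≫ i ∣_ V) rfl ((DCoh.restrictD W.ι).obj K)
  obtain ⟨e3⟩ := nonempty_pushD_comp (t.inv ≫ i ∣_ V) s.inv (emb W φ')
    (by rw [Category.assoc]; exact hcomp) ((DCoh.restrictD W.ι).obj K)
  rw [← pc_pushD_iso_iff s.symm m ((DCoh.restrictD V.ι).obj ((pushD i).obj ((DCoh.restrictD U.ι).obj K)))]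
  let ee := (pushD s.inv).mapIso (e0 ≪≫ (pushD (i ∣_ V)).mapIso eK ≪≫ e2) ≪≫ e3
  exact ⟨isPseudoCoherentD_iso ee.symm, isPseudoCoherentD_iso ee⟩

/-- The test is local on the affine scheme. -/
theorem cpc_of_cover {m : ℤ} {K : DCoh.D X} {U : X.Opens} (hU : IsAffineOpen U) {P : Type u} [CommRing P]
    {φ : P →+* Γ(X, U)} [IsClosedImmersion (emb U φ)] {ι : Type*} (g : ι → P)
    (hg : Ideal.span (Set.range fun a => φ (g a)) = ⊤)
    (hsurj : Function.Surjective φ)
    (h : ∀ a, DCoh.IsPseudoCoherentD m ((DCoh.restrictD (bas (g a)).ι).obj ((pushD (emb U φ)).obj ((DCoh.restrictD U.ι).obj K)))) :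
    CPC m K U φ := by
  rw [cpc_iff]
  refine isPseudoCoherentD_of_local fun x => ?_
  let p : PrimeSpectrum P := x
  by_cases hx : RingHom.ker φ ≤ p.asIdeal
  · have : ∃ a, g a ∉ p.asIdeal := by
      by_contra hne
      push Not at hne
      refine (PrimeSpectrum.isPrime p).ne_top (eq_top_iff.2 fun z _ => ?_)
      have hz : φ z ∈ Ideal.map φ (Ideal.span (Set.range g)) := by
        rw [Ideal.map_span, ← Set.range_comp]
        exact hg.symm ▸ Submodule.mem_top
      obtain ⟨w, hw, hwz⟩ := (Ideal.mem_map_iff_of_surjective φ hsurj).1 hz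
      have h1 : w ∈ p.asIdeal := (Ideal.span_le.2 (by rintro _ ⟨a, rfl⟩; exact hne a)) hw
      have h2 : z - w ∈ p.asIdeal := hx (by rw [RingHom.mem_ker, map_sub, hwz, sub_self])
      simpa using p.asIdeal.add_mem h2 h1
    obtain ⟨a, ha⟩ := this
    exact ⟨_, (bas (g a)).ι, inferInstance, ⟨x, ha⟩, rfl, h a⟩
  · obtain ⟨c, hc, hcx⟩ := SetLike.not_le_iff_exists.1 hx
    refine ⟨_, (bas c).ι, inferInstance, ⟨x, hcx⟩, rfl,
      isPC_restrict_off _ _ ?_ m _⟩
    rw [Set.disjoint_left]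
    rintro _ hy ⟨z, rfl⟩
    have hz : z ∈ emb U φ ⁻¹ᵁ bas c := hy
    rw [emb_preimage_basicOpen hU φ c, show φ c = 0 from hc, Scheme.basicOpen_zero] at hz
    exact hz

end Groth.Agent.RelPCLib
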