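import Groth.Agent.RelPCLib.ClosedPC

/-!
# Composition and isomorphisms for derived direct images along closed immersions
-/

set_option autoImplicit false
set_option backward.isDefEq.respectTransparency false
set_option linter.style.haveILetI false
set_option linter.unusedSectionVars false
set_option maxHeartbeats 1000000

universe u

open CategoryTheory CategoryTheory.Limits AlgebraicGeometry TopologicalSpace
open CategoryTheory.Pretriangulated

attribute [local instance] HasDerivedCategory.standard

noncomputable section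

namespace Groth.Agent.RelPCLib

open Groth.Agent.DCohLib

variable {X Y Z : Scheme.{u}}

/-- Direct images of composites, with a prescribed composite. -/
theorem nonempty_pushD_comp (i : X ⟶ Y) [IsClosedImmersion i] (j : Y ⟶ Z) [IsClosedImmersion j]
    (k : X ⟶ Z) [IsClosedImmersion k] (h : i ≫ j = k) (K : DCoh.D X) :
    Nonempty ((pushD j).obj ((pushD i).obj K) ≅ (pushD k).obj K) := by
  let F := DerivedCategory.Q.objPreimage K
  let e := DerivedCategory.Q.objObjPreimageIso K
  let n : Scheme.Modules.pushforward i ⋙ Scheme.Modules.pushforward j ≅ Scheme.Modules.pushforward k :=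
    Scheme.Modules.pushforwardComp i j ≪≫ Scheme.Modules.pushforwardCongr h
  let c : (pushC j).obj ((pushC i).obj F) ≅ (pushC k).obj F :=
    HomologicalComplex.Hom.isoOfComponents (fun q => n.app (F.X q))
      (fun p q _ => (n.hom.naturality (F.d p q)).symm)
  exact ⟨(pushD j).mapIso ((pushD i).mapIso e.symm ≪≫ pushDQ i F) ≪≫ pushDQ j _ ≪≫
    DerivedCategory.Q.mapIso c ≪≫ (pushDQ k F).symm ≪≫ (pushD k).mapIso e⟩

/-- Restriction along an isomorphism is the direct image along the inverse. -/
def restrictPushInv (t : X ≅ Y) : Scheme.Modules.restrictFunctor t.hom ≅ Scheme.Modules.pushforward t.inv :=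
  (Functor.leftUnitor _).symm ≪≫
    Functor.isoWhiskerRight ((Scheme.Modules.pushforwardId Y).symm ≪≫
      Scheme.Modules.pushforwardCongr t.inv_hom_id.symm ≪≫ (Scheme.Modules.pushforwardComp t.inv t.hom).symm) _ ≪≫
    Functor.associator _ _ _ ≪≫
    Functor.isoWhiskerLeft _ (Scheme.Modules.restrictFunctorAdjCounitIso t.hom) ≪≫ Functor.rightUnitor _

theorem nonempty_restrictD_pushInv (t : X ≅ Y) (K : DCoh.D Y) :
    Nonempty ((DCoh.restrictD t.hom).obj K ≅ (pushD t.inv).obj K) := by
  let F := DerivedCategory.Q.objPreimage K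
  let e := DerivedCategory.Q.objObjPreimageIso K
  let c : (resCx t.hom).obj F ≅ (pushC t.inv).obj F :=
    HomologicalComplex.Hom.isoOfComponents (fun q => (restrictPushInv t).app (F.X q))
      (fun p q _ => ((restrictPushInv t).hom.naturality (F.d p q)).symm)
  exact ⟨(DCoh.restrictD t.hom).mapIso e.symm ≪≫ restrictDQ t.hom F ≪≫ DerivedCategory.Q.mapIso c ≪≫
    (pushDQ t.inv F).symm ≪≫ (pushD t.inv).mapIso e⟩

theorem pc_restrict_iso_iff (t : X ≅ Y) (m : ℤ) (K : DCoh.D Y) :
    DCoh.IsPseudoCoherentD m ((DCoh.restrictD t.hom).obj K) ↔ DCoh.IsPseudoCoherentD m K := by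
  refine ⟨fun h => ?_, isPseudoCoherentD_restrict t.hom⟩
  refine isPseudoCoherentD_of_local fun y => ⟨X, t.hom, inferInstance, t.inv.base y, ?_, h⟩
  rw [← Scheme.Hom.comp_apply, t.inv_hom_id]
  rfl

theorem pc_pushD_iso_iff (t : X ≅ Y) (m : ℤ) (K : DCoh.D X) :
    DCoh.IsPseudoCoherentD m ((pushD t.hom).obj K) ↔ DCoh.IsPseudoCoherentD m K := by
  obtain ⟨e⟩ := nonempty_restrictD_pushInv t.symm K
  exact Iff.trans ⟨isPseudoCoherentD_iso e.symm, isPseudoCoherentD_iso e⟩ (pc_restrict_iso_iff t.symm m K)

end Groth.Agent.RelPCLib
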