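import Groth.Agent.RelPCLib.Module
import Groth.Agent.TildeRpush.Main
import Groth.Agent.TildeD.Main
import Groth.Agent.TildeD.Exact
import Groth.Agent.TildePerf.PC
import Groth.Prelude.Def_DerCA

/-!
# The chart test on modules
-/

set_option autoImplicit false
set_option backward.isDefEq.respectTransparency false
set_option linter.style.haveILetI false
set_option linter.unusedSectionVars false
set_option maxHeartbeats 1000000

universe u

open CategoryTheory CategoryTheory.Limits AlgebraicGeometry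

attribute [local instance] HasDerivedCategory.standard

noncomputable section

namespace Groth.Agent.RelPCLib

open Groth.Agent.DCohLib

variable {A B : Type u} [CommRing A] [CommRing B] (φ : A →+* B)

theorem nonempty_pushD_tilde [IsClosedImmersion (Spec.map (CommRingCat.ofHom φ))]
    [PreservesFiniteLimits (tilde.functor (CommRingCat.of A))]
    [PreservesFiniteLimits (tilde.functor (CommRingCat.of B))] (M : Dual.D B) :
    Nonempty ((pushD (Spec.map (CommRingCat.ofHom φ))).obj ((DCoh.tildeD (CommRingCat.of B)).obj M) ≅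
      (DCoh.tildeD (CommRingCat.of A)).obj ((DRing.restrictD φ).obj M)) := by
  let E := DerivedCategory.Q.objPreimage M
  let e := DerivedCategory.Q.objObjPreimageIso M
  let c : (pushC (Spec.map (CommRingCat.ofHom φ))).obj
        ((TildeRpush.tCx (CommRingCat.of B)).obj E) ≅
      (TildeRpush.tCx (CommRingCat.of A)).obj
        (((ModuleCat.restrictScalars.{u} φ).mapHomologicalComplex (ComplexShape.up ℤ)).obj E) :=
    HomologicalComplex.Hom.isoOfComponents (fun q => (TildeRpush.tildePushIso φ).app (E.X q))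
      (fun p q _ => ((TildeRpush.tildePushIso φ).hom.naturality (E.d p q)).symm)
  exact ⟨(pushD _).mapIso ((DCoh.tildeD (CommRingCat.of B)).mapIso e.symm ≪≫ TildePerf.tildeDQ E) ≪≫
    pushDQ _ _ ≪≫ DerivedCategory.Q.mapIso c ≪≫ (TildePerf.tildeDQ _).symm ≪≫
    (DCoh.tildeD (CommRingCat.of A)).mapIso
      (((ModuleCat.restrictScalars.{u} φ).mapDerivedCategoryFactors.app E).symm ≪≫ (DRing.restrictD φ).mapIso e)⟩

variable {X : Scheme.{u}}

/-- The test, on the module side. -/
theorem cpc_iff_pc' {m : ℤ} {U : X.Opens} (hU : IsAffineOpen U) {φ : A →+* Γ(X, U)} (hφ : Function.Surjective φ)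
    [PreservesFiniteLimits (tilde.functor (X.presheaf.obj (Opposite.op U)))] (K : DCoh.D X)
    (M : Dual.D Γ(X, U))
    (e : (DCoh.tildeD (X.presheaf.obj (Opposite.op U))).obj M ≅
      (pushD hU.isoSpec.hom).obj ((DCoh.restrictD U.ι).obj K)) :
    CPC m K U φ ↔ DRingLib.PC DRingLib.FFree m ((DRing.restrictD φ).obj M) := by
  haveI := TildeD.preservesFiniteLimits_tilde (R := CommRingCat.of A)
  haveI : PreservesFiniteLimits (tilde.functor (CommRingCat.of Γ(X, U))) :=
    ‹PreservesFiniteLimits (tilde.functor (X.presheaf.obj (Opposite.op U)))›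
  haveI := isClosedImmersion_emb hU hφ
  haveI : IsClosedImmersion (Spec.map (CommRingCat.ofHom φ)) := IsClosedImmersion.spec_of_surjective _ hφ
  rw [cpc_iff, ← TildePerf.isPseudoCoherentD_tilde_iff]
  obtain ⟨e1⟩ := nonempty_pushD_comp hU.isoSpec.hom (Spec.map (CommRingCat.ofHom φ)) (emb U φ)
    (by rw [hU.isoSpec_hom]; rfl) ((DCoh.restrictD U.ι).obj K)
  obtain ⟨e2⟩ := nonempty_pushD_tilde φ M
  let ee := e1.symm ≪≫ (pushD (Spec.map (CommRingCat.ofHom φ))).mapIso e.symm ≪≫ e2
  exact ⟨isPseudoCoherentD_iso ee, isPseudoCoherentD_iso ee.symm⟩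

/-- The test, on the module side, for a representative. -/
theorem cpc_iff_pc {m : ℤ} {U : X.Opens} (hU : IsAffineOpen U) {φ : A →+* Γ(X, U)} (hφ : Function.Surjective φ)
    [PreservesFiniteLimits (tilde.functor (X.presheaf.obj (Opposite.op U)))] (G : CochainComplex X.Modules ℤ)
    (M : Dual.D Γ(X, U))
    (e : (DCoh.tildeD (X.presheaf.obj (Opposite.op U))).obj M ≅
      DCoh.toD _ ((DerSch.pushCx hU.isoSpec.hom).obj ((DCoh.restrictCx U).obj G))) :
    CPC m (DCoh.toD X G) U φ ↔ DRingLib.PC DRingLib.FFree m ((DRing.restrictD φ).obj M) :=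
  cpc_iff_pc' hU hφ (DCoh.toD X G) M
    (e ≪≫ ((pushD hU.isoSpec.hom).mapIso (restrictDQ U.ι G) ≪≫ pushDQ hU.isoSpec.hom _).symm)

theorem exists_tilde_model {E : DCoh.D X} (hE : DCoh.IsQCohD E) {U : X.Opens} (hU : IsAffineOpen U)
    [PreservesFiniteLimits (tilde.functor (X.presheaf.obj (Opposite.op U)))] (G : CochainComplex X.Modules ℤ)
    (eG : DCoh.toD X G ≅ E) :
    ∃ M : Dual.D Γ(X, U), Nonempty ((DCoh.tildeD (X.presheaf.obj (Opposite.op U))).obj M ≅
      DCoh.toD _ ((DerSch.pushCx hU.isoSpec.hom).obj ((DCoh.restrictCx U).obj G))) := by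
  refine ((TildeD.main (X.presheaf.obj (Opposite.op U))).2.2 _).1 ?_
  refine Groth.Agent.TildeD.isQCohD_of_iso
    ((pushD hU.isoSpec.hom).mapIso ((DCoh.restrictD U.ι).mapIso eG.symm ≪≫ restrictDQ U.ι G) ≪≫
      pushDQ hU.isoSpec.hom _) fun i => ?_
  haveI : IsAffine (U : Scheme.{u}) := hU
  haveI := hE i
  haveI : Coh.IsQCoh (DCoh.HD ((DCoh.restrictD U.ι).obj E) i) :=
    isQCoh_of_iso' (restrictHDIso U.ι E i).symm (isQCoh_res (DCoh.HD E i) U)
  exact isQCoh_of_iso' (pushHDIso hU.isoSpec.hom _ i).symm (QCohLib.isQCoh_pushforward _ hU.isoSpec.hom)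

end Groth.Agent.RelPCLib
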