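import Groth.Agent.RelPCLib.BaseChange
import Groth.Agent.RelPCLib.Tilde
import Groth.Agent.TildeLpull.Main
import Groth.Agent.DRingLib.FFDescent

/-!
# Descent of relative pseudo-coherence along flat coverings of the base
-/

set_option autoImplicit false
set_option backward.isDefEq.respectTransparency false
set_option linter.style.haveILetI false
set_option linter.unusedSectionVars false
set_option maxHeartbeats 1000000

universe u

open CategoryTheory CategoryTheory.Limits AlgebraicGeometry TopologicalSpace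
open scoped TensorProduct

attribute [local instance] HasDerivedCategory.standard

noncomputable section

namespace Groth.Agent.RelPCLib

open Groth.Agent.DCohLib Groth.Agent.DRingLib Groth.Agent.DTenLib

attribute [local instance] MvPolynomial.algebraMvPolynomial in
/-- Polynomial rings over a jointly surjective flat family. -/
theorem ffFamily_poly {B : Type u} [CommRing B] {k : ℕ} (B' : Fin k → Type u) [∀ j, CommRing (B' j)]
    [∀ j, Algebra B (B' j)] [∀ j, Module.Flat B (B' j)]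
    (hsurj : ∀ p : PrimeSpectrum B, ∃ j, ∃ q : PrimeSpectrum (B' j), q.comap (algebraMap B (B' j)) = p) (n : ℕ) :
    FFFamily (fun j => MvPolynomial (Fin n) (B' j)) (fun j => MvPolynomial.map (algebraMap B (B' j))) := by
  let P := MvPolynomial (Fin n) B
  let P' := fun j => MvPolynomial (Fin n) (B' j)
  have hpo : ∀ j, Algebra.IsPushout B P (B' j) (P' j) := fun j => inferInstance
  let e : ∀ j, baseMod (MvPolynomial.map (σ := Fin n) (algebraMap B (B' j))) ≃ₗ[P] P' j := fun j =>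
    { (AddEquiv.refl (P' j)) with map_smul' := fun a (b : P' j) => (Algebra.smul_def a b).symm }
  haveI : ∀ j, Module.Flat P (P' j) := fun j =>
    Module.Flat.isBaseChange B P (B' j) (P' j) (hpo j).out
  refine ⟨fun j => Module.Flat.of_linearEquiv (e j), fun M h => ?_⟩
  letI : Module B M := Module.compHom M (MvPolynomial.C : B →+* P)
  haveI : IsScalarTower B P M := .of_algebraMap_smul fun _ _ => rfl
  have h0 : ∀ j, Subsingleton (M ⊗[B] B' j) := fun j => by
    haveI : Subsingleton (baseMod (MvPolynomial.map (σ := Fin n) (algebraMap B (B' j))) ⊗[P] M) :=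
      ModuleCat.subsingleton_of_isZero (h j)
    haveI : Subsingleton (P' j ⊗[P] M) :=
      (TensorProduct.congr (e j) (LinearEquiv.refl P M)).symm.injective.subsingleton
    haveI : Subsingleton (M ⊗[P] P' j) := (TensorProduct.comm P M (P' j)).injective.subsingleton
    haveI : Subsingleton (M ⊗[P] (P ⊗[B] B' j)) :=
      (TensorProduct.congr (LinearEquiv.refl P M) (hpo j).out.equiv).injective.subsingleton
    exact (TensorProduct.AlgebraTensorModule.cancelBaseChange B P P M (B' j)).symm.injective.subsingleton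
  haveI : Module.Flat B (∀ j, B' j) := by
    classical
    exact Module.Flat.of_linearEquiv (DFinsupp.linearEquivFunOnFintype (R := B) (M := B')).symm
  haveI : Module.FaithfullyFlat B (∀ j, B' j) := by
    refine Module.FaithfullyFlat.of_comap_surjective fun p => ?_
    obtain ⟨j, q, rfl⟩ := hsurj p
    exact ⟨q.comap (Pi.evalRingHom B' j), rfl⟩
  classical
  haveI : Subsingleton (M ⊗[B] ∀ j, B' j) :=
    (TensorProduct.piRight B B M B').injective.subsingleton
  haveI : Subsingleton ((∀ j, B' j) ⊗[B] M) :=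
    (TensorProduct.comm B (∀ j, B' j) M).injective.subsingleton
  haveI := (Module.FaithfullyFlat.subsingleton_tensorProduct_iff_right B (∀ j, B' j)).1
    (inferInstance : Subsingleton ((∀ j, B' j) ⊗[B] M))
  exact ModuleCat.isZero_of_subsingleton M

variable {X X' S S' : Scheme.{u}}

/-- The test after base change is the pullback of the test. -/
theorem cpc_pullD_iff (g : X' ⟶ X) [Flat g] {m : ℤ} {K : DCoh.D X} {U : X.Opens} (hU : IsAffineOpen U)
    {U' : X'.Opens} (hU' : IsAffineOpen U') (h : U' ≤ g ⁻¹ᵁ U) [Flat (g.resLE U U' h)] {P P' : Type u}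
    [CommRing P] [CommRing P'] (ι : P →+* P') [Flat (Spec.map (CommRingCat.ofHom ι))]
    {φ : P →+* Γ(X, U)} [IsClosedImmersion (emb U φ)] {φ' : P' →+* Γ(X', U')} (hφ' : Function.Surjective φ')
    (hpo : IsPushout (CommRingCat.ofHom φ) (CommRingCat.ofHom ι) (g.appLE U U' h) (CommRingCat.ofHom φ')) :
    CPC m ((pullD g).obj K) U' φ' ↔ DCoh.IsPseudoCoherentD m
      ((pullD (Spec.map (CommRingCat.ofHom ι))).obj ((pushD (emb U φ)).obj ((DCoh.restrictD U.ι).obj K))) := by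
  haveI := isClosedImmersion_emb hU' hφ'
  rw [cpc_iff]
  obtain ⟨e1⟩ := nonempty_restrict_pullD g h K
  obtain ⟨e2⟩ := nonempty_pullD_pushD (isPullback_emb g hU hU' h ι φ φ' hpo) ((DCoh.restrictD U.ι).obj K)
  exact ⟨isPseudoCoherentD_iso ((pushD (emb U' φ')).mapIso e1 ≪≫ e2.symm),
    isPseudoCoherentD_iso (e2 ≪≫ (pushD (emb U' φ')).mapIso e1.symm)⟩

theorem pc_lbc_of_pc_pullD {A B : Type u} [CommRing A] [CommRing B] {ι : A →+* B}
    [PreservesFiniteLimits (tilde.functor (CommRingCat.of A))]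
    [PreservesFiniteLimits (tilde.functor (CommRingCat.of B))]
    [Flat (Spec.map (CommRingCat.ofHom ι))] [DRing.HasLBaseChange ι] {m : ℤ} (N : Dual.D A)
    (h : DCoh.IsPseudoCoherentD m
      ((pullD (Spec.map (CommRingCat.ofHom ι))).obj ((DCoh.tildeD (CommRingCat.of A)).obj N))) :
    PC FFree m ((DRing.LBaseChange ι).obj N) := by
  obtain ⟨e⟩ := nonempty_lpull_pullD (Spec.map (CommRingCat.ofHom ι)) ((DCoh.tildeD (CommRingCat.of A)).obj N)
  exact (TildePerf.isPseudoCoherentD_tilde_iff _ m).1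
    (isPseudoCoherentD_iso (e.symm ≪≫ ((TildeLpull.lbcLpullIso ι).app N).symm) h)

/-- Descent along a family which covers every affine open of the base by finitely many affines. -/
theorem rel_of_flat_cover (f : X ⟶ S) [LocallyOfFiniteType f] {ι : Type*} {Si : ι → Scheme.{u}}
    (h : ∀ i, Si i ⟶ S) [∀ i, Flat (h i)] {Xi : ι → Scheme.{u}} (g : ∀ i, Xi i ⟶ X) [∀ i, Flat (g i)]
    (f' : ∀ i, Xi i ⟶ Si i) (hc : ∀ i, IsPullback (g i) (f' i) f (h i))
    (hcov : ∀ V : S.Opens, IsAffineOpen V → ∃ (k : ℕ) (i : Fin k → ι) (V' : ∀ j, (Si (i j)).Opens),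
      (∀ j, IsAffineOpen (V' j)) ∧ (∀ j, V' j ≤ h (i j) ⁻¹ᵁ V) ∧ ∀ v ∈ V, ∃ j, ∃ t ∈ V' j, (h (i j)).base t = v)
    {m : ℤ} {K : DCoh.D X} (hK : DCoh.IsQCohD K)
    (hrel : ∀ i, DerSch.IsPseudoCoherentRel (f' i) m ((pullD (g i)).obj K)) :
    DerSch.IsPseudoCoherentRel f m K := by
  refine rel_of_cpc f fun U V hle hU hV n φ hφ => ?_
  haveI := isClosedImmersion_emb hU hφ.1
  obtain ⟨k, i, V', hV', hV'V, hsurj⟩ := hcov V hV
  let B' : Fin k → Type u := fun j => Γ(Si (i j), V' j)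
  letI : ∀ j, Algebra Γ(S, V) (B' j) := fun j => ((h (i j)).appLE V (V' j) (hV'V j)).hom.toAlgebra
  haveI : ∀ j, Module.Flat Γ(S, V) (B' j) := fun j => (h (i j)).flat_appLE hV (hV' j) (hV'V j)
  have hff := ffFamily_poly (B := Γ(S, V)) B' (fun p => by
    obtain ⟨j, t, ht, htv⟩ := hsurj (hV.fromSpec p) (hV.range_fromSpec.le ⟨p, rfl⟩)
    refine ⟨j, (hV' j).primeIdealOf ⟨t, ht⟩, ?_⟩
    refine (IsAffineOpen.comap_primeIdealOf_appLE V hV (V' j) (hV' j) (hV'V j) ht).trans ?_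
    apply hV.fromSpec.isOpenEmbedding.injective
    exact (hV.fromSpec_primeIdealOf _).trans htv) n
  let P := CommRingCat.of (MvPolynomial (Fin n) Γ(S, V))
  haveI := TildeD.preservesFiniteLimits_tilde (R := P)
  let L := (pushD (emb U φ)).obj ((DCoh.restrictD U.ι).obj K)
  have hL : DCoh.IsQCohD L := fun q => by
    haveI : IsAffine (U : Scheme.{u}) := hU
    haveI := hK q
    haveI : Coh.IsQCoh (DCoh.HD ((DCoh.restrictD U.ι).obj K) q) :=
      isQCoh_of_iso' (restrictHDIso U.ι K q).symm (isQCoh_res (DCoh.HD K q) U)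
    exact isQCoh_of_iso' (pushHDIso (emb U φ) _ q).symm (QCohLib.isQCoh_pushforward _ (emb U φ))
  obtain ⟨N, ⟨eN⟩⟩ := ((TildeD.main P).2.2 L).1 hL
  haveI : ∀ j, DRing.HasLBaseChange (MvPolynomial.map (σ := Fin n) (algebraMap Γ(S, V) (B' j))) :=
    fun j => DRingLib.hasLBaseChange _
  rw [cpc_iff]
  refine isPseudoCoherentD_iso eN (TildePerf.pc_tilde (hff.pc N fun j => ?_))
  let W' := g (i j) ⁻¹ᵁ U ⊓ f' (i j) ⁻¹ᵁ V' j
  obtain ⟨hW', hpo⟩ := PullbackMod.isPushout_appLE (hc (i j)) hV hU (hV' j) hle (hV'V j)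
  haveI : LocallyOfFiniteType (f' (i j)) := MorphismProperty.of_isPullback (hc (i j)) inferInstance
  letI : Algebra Γ(S, V) Γ(X, U) := (f.appLE V U hle).hom.toAlgebra
  letI : Algebra Γ(X, U) Γ(Xi (i j), W') := ((g (i j)).appLE U W' inf_le_left).hom.toAlgebra
  letI : Algebra (B' j) Γ(Xi (i j), W') := ((f' (i j)).appLE (V' j) W' inf_le_right).hom.toAlgebra
  letI : Algebra Γ(S, V) Γ(Xi (i j), W') :=
    (((g (i j)).appLE U W' inf_le_left).hom.comp (f.appLE V U hle).hom).toAlgebra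
  haveI : IsScalarTower Γ(S, V) Γ(X, U) Γ(Xi (i j), W') := .of_algebraMap_eq fun _ => rfl
  haveI : IsScalarTower Γ(S, V) (B' j) Γ(Xi (i j), W') := .of_algebraMap_eq' (by
    show ((f.appLE V U hle) ≫ (g (i j)).appLE U _ inf_le_left).hom =
      (((h (i j)).appLE V (V' j) (hV'V j)) ≫ (f' (i j)).appLE (V' j) _ inf_le_right).hom
    simp only [Scheme.Hom.appLE_comp_appLE, (hc (i j)).w])
  haveI : Algebra.IsPushout Γ(S, V) (B' j) Γ(X, U) Γ(Xi (i j), W') := hpo
  obtain ⟨φ', hφ', hc', hfl, hsq⟩ := exists_chart_pushout (B' := B' j) (C' := Γ(Xi (i j), W')) φ hφ.1 hφ.2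
  haveI : Flat (Spec.map (CommRingCat.ofHom (MvPolynomial.map (σ := Fin n) (algebraMap Γ(S, V) (B' j))))) := by
    rwa [HasRingHomProperty.Spec_iff (P := @Flat)]
  haveI : Flat ((g (i j)).resLE U W' inf_le_left) := by
    haveI : IsAffine (U : Scheme.{u}) := hU
    haveI : IsAffine (W' : Scheme.{u}) := hW'
    infer_instance
  haveI := TildeD.preservesFiniteLimits_tilde (R := CommRingCat.of (MvPolynomial (Fin n) (B' j)))
  refine pc_lbc_of_pc_pullD N (isPseudoCoherentD_iso ((pullD _).mapIso eN.symm) ?_)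
  exact (cpc_pullD_iff (g (i j)) hU hW' inf_le_left _ hφ' hsq).1
    (cpc_of_rel (f' (i j)) (hrel (i j)) hW' (hV' j) (h := inf_le_right) ⟨hφ', hc'⟩)

/-- Finitely many affines of a flat covering cover an affine open. -/
theorem exists_affines_of_open {ι : Type*} {Si : ι → Scheme.{u}} (h : ∀ i, Si i ⟶ S)
    (hop : ∀ i, IsOpenMap (h i).base) (hs : ∀ s : S, ∃ i t, (h i).base t = s) {V : S.Opens} (hV : IsAffineOpen V) :
    ∃ (k : ℕ) (i : Fin k → ι) (V' : ∀ j, (Si (i j)).Opens),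
      (∀ j, IsAffineOpen (V' j)) ∧ (∀ j, V' j ≤ h (i j) ⁻¹ᵁ V) ∧ ∀ v ∈ V, ∃ j, ∃ t ∈ V' j, (h (i j)).base t = v := by
  have key : ∀ v : V, ∃ (i : ι) (W : (Si i).Opens), IsAffineOpen W ∧ W ≤ h i ⁻¹ᵁ V ∧
      (v : S) ∈ (h i).base '' (W : Set (Si i)) := by
    rintro ⟨v, hv⟩
    obtain ⟨i, t, rfl⟩ := hs v
    obtain ⟨_, ⟨W : (Si i).Opens, hW, rfl⟩, ht, hWV⟩ :=
      (Si i).isBasis_affineOpens.exists_subset_of_mem_open (a := t) (show t ∈ h i ⁻¹ᵁ V from hv) (h i ⁻¹ᵁ V).isOpen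
    exact ⟨i, W, hW, hWV, t, ht, rfl⟩
  choose i W hW hWV hv using key
  obtain ⟨s, hs⟩ := hV.isCompact.elim_finite_subcover (fun v => (h (i v)).base '' (W v : Set (Si (i v))))
    (fun v => hop _ _ (W v).isOpen) fun v hv' => Set.mem_iUnion.2 ⟨⟨v, hv'⟩, hv _⟩
  refine ⟨s.card, fun j => i (s.equivFin.symm j), fun j => W (s.equivFin.symm j), fun j => hW _, fun j => hWV _,
    fun v hv' => ?_⟩
  obtain ⟨a, ha, hva⟩ := Set.mem_iUnion₂.1 (hs hv')
  obtain ⟨t, ht, e⟩ := hva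
  obtain ⟨j, rfl⟩ : ∃ j, (s.equivFin.symm j).1 = a :=
    ⟨_, congrArg Subtype.val (s.equivFin.symm_apply_apply ⟨a, ha⟩)⟩
  exact ⟨j, t, ht, e⟩

/-- Finitely many affines cover the preimage of an affine open. -/
theorem exists_affines_of_quasiCompact (h : S' ⟶ S) [QuasiCompact h] [Surjective h] {V : S.Opens}
    (hV : IsAffineOpen V) :
    ∃ (k : ℕ) (_ : Fin k → Unit) (V' : Fin k → S'.Opens),
      (∀ j, IsAffineOpen (V' j)) ∧ (∀ j, V' j ≤ h ⁻¹ᵁ V) ∧ ∀ v ∈ V, ∃ j, ∃ t ∈ V' j, h.base t = v := by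
  have key : ∀ t : (h ⁻¹ᵁ V : S'.Opens), ∃ W : S'.Opens, IsAffineOpen W ∧ W ≤ h ⁻¹ᵁ V ∧ t.1 ∈ W := by
    rintro ⟨t, ht⟩
    obtain ⟨_, ⟨W : S'.Opens, hW, rfl⟩, ht', hWV⟩ :=
      S'.isBasis_affineOpens.exists_subset_of_mem_open (a := t) ht (h ⁻¹ᵁ V).isOpen
    exact ⟨W, hW, hWV, ht'⟩
  choose W hW hWV hmem using key
  obtain ⟨s, hs⟩ := (h.isCompact_preimage hV.isCompact).elim_finite_subcover (fun t => (W t : Set S'))
    (fun t => (W t).isOpen) fun t ht => Set.mem_iUnion.2 ⟨⟨t, ht⟩, hmem _⟩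
  refine ⟨s.card, fun _ => (), fun j => W (s.equivFin.symm j), fun j => hW _, fun j => hWV _, fun v hv => ?_⟩
  obtain ⟨t, rfl⟩ := h.surjective v
  obtain ⟨a, ha, hta⟩ := Set.mem_iUnion₂.1 (hs hv)
  obtain ⟨j, rfl⟩ : ∃ j, (s.equivFin.symm j).1 = a :=
    ⟨_, congrArg Subtype.val (s.equivFin.symm_apply_apply ⟨a, ha⟩)⟩
  exact ⟨j, t, hta, rfl⟩

end Groth.Agent.RelPCLib
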