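import Groth.Agent.RelPCLib.TensorScheme
import Groth.Agent.RelPCLib.TorProd
import Groth.Agent.RelPCLib.BaseChange
import Groth.Agent.DCohMore.PCTensorPush

/-!
# Relative pseudo-coherence of external tensor products over flat bases
-/

set_option autoImplicit false
set_option backward.isDefEq.respectTransparency false
set_option linter.style.haveILetI false
set_option linter.unusedSectionVars false
set_option maxHeartbeats 1000000

universe u

open CategoryTheory CategoryTheory.Limits CategoryTheory.MonoidalCategory AlgebraicGeometry TopologicalSpace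
open scoped TensorProduct

attribute [local instance] HasDerivedCategory.standard

noncomputable section

namespace Groth.Agent.RelPCLib

open Groth.Agent.DCohLib Groth.Agent.PCHomLib Groth.Agent.DRingLib Groth.Agent.DTenLib

local instance preservesFiniteLimits_tilde4 (R : CommRingCat.{u}) : PreservesFiniteLimits (tilde.functor R) :=
  TildeD.preservesFiniteLimits_tilde

/-- Derived inverse images keep upper bounds. -/
theorem isLE_lpull {X Y : Scheme.{u}} (f : X ⟶ Y) [DCoh.HasLpull f] (K : DCoh.D Y) (b : ℤ) [K.IsLE b] :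
    ((DCoh.Lpull f).obj K).IsLE b := by
  obtain ⟨P, hP, ⟨eP⟩⟩ := DerivedCategory.exists_iso_Q_obj_of_isLE K b
  obtain ⟨N, π, hπ, hflat, hN⟩ := exists_bdd_flat_resolution Y.sheaf P b
    fun n hn => P.isZero_of_isStrictlyLE b n hn
  haveI : QuasiIso π := hπ
  haveI : IsIso (DerivedCategory.Q.map π) :=
    (DerivedCategory.isIso_Q_map_iff_quasiIso (C := Y.Modules) π).2 hπ
  have hK : DCoh.IsKFlat N := (DCohLib.isKFlat_iff N).2 (Groth.Agent.KFlat.isKFlat_of_bddAbove Y.sheaf N b hN hflat)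
  let e : (DCoh.Lpull f).obj K ≅ DerivedCategory.Q.obj ((pullCx f).obj N) :=
    (DCoh.Lpull f).mapIso (eP ≪≫ (asIso (DerivedCategory.Q.map π)).symm) ≪≫ lpullIsoK f N hK
  refine (DerivedCategory.isLE_iff _ _).2 fun i hi => IsZero.of_iso ?_
    ((DerivedCategory.homologyFunctor _ i).mapIso e ≪≫ (DerivedCategory.homologyFunctorFactors _ i).app _)
  exact (HomologicalComplex.exactAt_iff_isZero_homology _ _).1
    (HomologicalComplex.ExactAt.of_isZero ((Scheme.Modules.pullback f).map_isZero (hN i hi)))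

attribute [local instance] MvPolynomial.algebraMvPolynomial in
/-- Tor-independent base change of relative pseudo-coherence, for rings. -/
theorem rel_lbc_torIndep {R R' A A₁ B B₁ : Type u} [CommRing R] [CommRing R'] [CommRing A] [CommRing A₁]
    [CommRing B] [CommRing B₁] [Algebra R R'] [Algebra R A] [Algebra A A₁] [Algebra R' A₁] [Algebra R A₁]
    [IsScalarTower R R' A₁] [IsScalarTower R A A₁] [Algebra.IsPushout R R' A A₁] [Module.Flat R A]
    [Algebra A B] [Algebra A₁ B₁] [Algebra B B₁] [Algebra A B₁] [IsScalarTower A A₁ B₁] [IsScalarTower A B B₁]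
    [Algebra.IsPushout A A₁ B B₁] [Algebra.FiniteType A B] [Algebra R B] [IsScalarTower R A B] [Module.Flat R B]
    [DRing.HasLBaseChange (algebraMap B B₁)] {K : Dual.D B} {m : ℤ}
    (h : DerCA.IsRelPseudoCoherent A B m K) :
    DerCA.IsRelPseudoCoherent A₁ B₁ m ((DRing.LBaseChange (algebraMap B B₁)).obj K) := by
  obtain ⟨n, φ, hφ, hφc⟩ := exists_presentation (A := A) (B := B)
  have hK := (rel_iff φ hφ hφc m K).1 h
  obtain ⟨t, ht⟩ := hK.exists_aboveZero
  obtain ⟨N, hNb, hN, ⟨eN⟩⟩ := exists_proj_representative (K := K) (n := t - 1)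
    (by simpa using aboveZero_of_restrict φ ht)
  let P := MvPolynomial (Fin n) A
  let P' := MvPolynomial (Fin n) A₁
  let φ' : P' →+* B₁ := MvPolynomial.eval₂Hom (algebraMap A₁ B₁) fun i => algebraMap B B₁ (φ (MvPolynomial.X i))
  have hmap : φ'.comp (MvPolynomial.map (algebraMap A A₁)) = (algebraMap B B₁).comp φ := by
    refine MvPolynomial.ringHom_ext (fun r => ?_) fun i => ?_
    · show φ' (MvPolynomial.map (algebraMap A A₁) (MvPolynomial.C r)) = algebraMap B B₁ (φ (MvPolynomial.C r))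
      rw [MvPolynomial.map_C, show φ (MvPolynomial.C r) = algebraMap A B r from RingHom.congr_fun hφc r,
        ← IsScalarTower.algebraMap_apply A B B₁]
      exact (MvPolynomial.eval₂Hom_C _ _ _).trans (IsScalarTower.algebraMap_apply A A₁ B₁ r).symm
    · show φ' (MvPolynomial.map (algebraMap A A₁) (MvPolynomial.X i)) = algebraMap B B₁ (φ (MvPolynomial.X i))
      rw [MvPolynomial.map_X]
      exact MvPolynomial.eval₂Hom_X' _ _ _
  have hc' : φ'.comp MvPolynomial.C = algebraMap A₁ B₁ := MvPolynomial.eval₂Hom_comp_C _ _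
  letI : Algebra P B := φ.toAlgebra
  letI : Algebra P' B₁ := φ'.toAlgebra
  letI : Algebra P B₁ := ((algebraMap B B₁).comp φ).toAlgebra
  haveI : IsScalarTower P B B₁ := .of_algebraMap_eq fun _ => rfl
  haveI : IsScalarTower P P' B₁ := .of_algebraMap_eq fun x => (RingHom.congr_fun hmap x).symm
  haveI : IsScalarTower A P B := .of_algebraMap_eq fun x => (RingHom.congr_fun hφc x).symm
  haveI : IsScalarTower A₁ P' B₁ := .of_algebraMap_eq fun x => (RingHom.congr_fun hc' x).symm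
  haveI : IsScalarTower A P B₁ := .of_algebraMap_eq fun x => by
    show algebraMap A B₁ x = algebraMap B B₁ (φ (MvPolynomial.C x))
    rw [show φ (MvPolynomial.C x) = algebraMap A B x from RingHom.congr_fun hφc x,
      ← IsScalarTower.algebraMap_apply]
  haveI : IsScalarTower A P' B₁ := .of_algebraMap_eq fun x => by
    rw [IsScalarTower.algebraMap_apply A A₁ P', ← IsScalarTower.algebraMap_apply A₁ P' B₁,
      ← IsScalarTower.algebraMap_apply]
  haveI hP₀ : Algebra.IsPushout A P A₁ P' := inferInstance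
  haveI hP : Algebra.IsPushout P P' B B₁ := by
    haveI : Algebra.IsPushout A B A₁ B₁ := Algebra.IsPushout.symm ‹Algebra.IsPushout A A₁ B B₁›
    exact ((Algebra.IsPushout.comp_iff (R := A) (S := P) (T := B) (R' := A₁) (S' := P') (T' := B₁)).mp
      inferInstance).symm
  have hφ' : Function.Surjective φ' := fun y => by
    induction y using hP.out.inductionOn with
    | zero => exact ⟨0, map_zero _⟩
    | tmul c =>
      obtain ⟨p, rfl⟩ := hφ c
      exact ⟨MvPolynomial.map (algebraMap A A₁) p, RingHom.congr_fun hmap p⟩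
    | smul a x hx =>
      obtain ⟨q, rfl⟩ := hx
      exact ⟨a * q, by rw [map_mul, Algebra.smul_def]; rfl⟩
    | add x y hx hy =>
      obtain ⟨a, rfl⟩ := hx
      obtain ⟨b, rfl⟩ := hy
      exact ⟨a + b, map_add _ _ _⟩
  haveI : IsScalarTower R R' P' := .of_algebraMap_eq fun r => by
    rw [IsScalarTower.algebraMap_apply R A₁ P', IsScalarTower.algebraMap_apply R R' A₁,
      ← IsScalarTower.algebraMap_apply R' A₁ P']
  haveI : IsScalarTower R A P := inferInstance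
  haveI : IsScalarTower R P B := .of_algebraMap_eq fun r => by
    rw [IsScalarTower.algebraMap_apply R A B, IsScalarTower.algebraMap_apply R A P,
      ← IsScalarTower.algebraMap_apply A P B]
  haveI : Module.Flat R P := Module.Flat.trans R A P
  haveI : IsScalarTower R P P' := .of_algebraMap_eq fun r => by
    rw [IsScalarTower.algebraMap_apply R A P', IsScalarTower.algebraMap_apply R A P,
      ← IsScalarTower.algebraMap_apply A P P']
  haveI : Algebra.IsPushout R R' P P' := by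
    haveI : Algebra.IsPushout R A R' A₁ := Algebra.IsPushout.symm ‹_›
    exact ((Algebra.IsPushout.comp_iff R A R' (T := P) (S' := A₁) (T' := P')).2 hP₀).symm
  haveI := DRingLib.hasLBaseChange (algebraMap P P')
  have hNk := isKFlat_of_projective hNb hN
  obtain ⟨e⟩ := nonempty_lbc_resCx_of_kflat (R := R) (R' := R') (A₀ := P) (A₁ := P') (B := B) N hNk
  refine (rel_iff φ' hφ' hc' m _).2 ?_
  refine (pc_lbc (algebraMap P P') ((hK.of_iso ((DRing.restrictD φ).mapIso eN.symm)).of_iso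
    ((DTen.resFactors φ).app N))).of_iso ?_
  exact e ≪≫ DerivedCategory.Q.mapIso ((NatIso.mapHomologicalComplex (pushoutExtendIso P P' B B₁)
      (ComplexShape.up ℤ)).app N) ≪≫ ((DTen.resFactors φ').app ((DTen.extCx (algebraMap B B₁)).obj N)).symm ≪≫
    (DRing.restrictD φ').mapIso ((lbcIso (algebraMap B B₁) N hNk).symm ≪≫
      (DRing.LBaseChange (algebraMap B B₁)).mapIso eN)

variable {X Y Y' X' S S' : Scheme.{u}} {g : X' ⟶ X} {f' : X' ⟶ Y'} {f : X ⟶ Y} {h : Y' ⟶ Y}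
  {q : Y ⟶ S} {q' : Y' ⟶ S'} {u₀ : S' ⟶ S}

/-- Tor-independent base change of relative pseudo-coherence. -/
theorem rel_lpull_torIndep (hS : IsPullback h q' q u₀) [Flat q] [Flat (f ≫ q)] (hc : IsPullback g f' f h)
    [LocallyOfFiniteType f] [DCoh.HasLpull g] {m : ℤ} {K : DCoh.D X} (hK : DCoh.IsQCohD K)
    (hr : DerSch.IsPseudoCoherentRel f m K) :
    DerSch.IsPseudoCoherentRel f' m ((DCoh.Lpull g).obj K) := by
  haveI : LocallyOfFiniteType f' := MorphismProperty.of_isPullback hc inferInstance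
  refine rel_of_test f' fun x' => ?_
  obtain ⟨T, V, T', hT, hV, hT', eT, eT', hxV, hxT'⟩ := PullbackMod.exists_affines hS (f' x')
  obtain ⟨hV', hpo⟩ := PullbackMod.isPushout_appLE hS hT hV hT' eT eT'
  let V' := h ⁻¹ᵁ V ⊓ q' ⁻¹ᵁ T'
  have hxf : g x' ∈ f ⁻¹ᵁ V := by
    show f (g x') ∈ V
    rw [← Scheme.Hom.comp_apply, hc.w]
    exact hxV
  obtain ⟨_, ⟨W : X.Opens, hW, rfl⟩, hxW, hWV⟩ :=
    X.isBasis_affineOpens.exists_subset_of_mem_open (a := g x') (u := ↑(f ⁻¹ᵁ V)) hxf (f ⁻¹ᵁ V).2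
  have e : W ≤ f ⁻¹ᵁ V := hWV
  have e' : V' ≤ h ⁻¹ᵁ V := inf_le_left
  obtain ⟨hW', hpo'⟩ := PullbackMod.isPushout_appLE hc hV hW hV' e e'
  let W' := g ⁻¹ᵁ W ⊓ f' ⁻¹ᵁ V'
  obtain ⟨M, hM⟩ := exists_model hK hW
  let R := Γ(S, T)
  let R' := Γ(S', T')
  let A := Γ(Y, V)
  let A₁ := Γ(Y', V')
  let B := Γ(X, W)
  let B₁ := Γ(X', W')
  have eW : W ≤ (f ≫ q) ⁻¹ᵁ T := e.trans (f.preimage_mono eT)
  letI : Algebra R A := (q.appLE T V eT).hom.toAlgebra
  letI : Algebra R R' := (u₀.appLE T T' eT').hom.toAlgebra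
  letI : Algebra A A₁ := (h.appLE V V' inf_le_left).hom.toAlgebra
  letI : Algebra R' A₁ := (q'.appLE T' V' inf_le_right).hom.toAlgebra
  letI : Algebra R A₁ := ((h.appLE V V' inf_le_left).hom.comp (q.appLE T V eT).hom).toAlgebra
  haveI : IsScalarTower R A A₁ := .of_algebraMap_eq fun _ => rfl
  haveI : IsScalarTower R R' A₁ := .of_algebraMap_eq' (by
      show ((q.appLE T V eT) ≫ h.appLE V V' inf_le_left).hom =
        ((u₀.appLE T T' eT') ≫ q'.appLE T' V' inf_le_right).hom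
      simp only [Scheme.Hom.appLE_comp_appLE, hS.w])
  haveI : Algebra.IsPushout R R' A A₁ := hpo
  haveI : Module.Flat R A := q.flat_appLE hT hV eT
  letI : Algebra A B := (f.appLE V W e).hom.toAlgebra
  letI : Algebra B B₁ := (g.appLE W W' inf_le_left).hom.toAlgebra
  letI : Algebra A₁ B₁ := (f'.appLE V' W' inf_le_right).hom.toAlgebra
  letI : Algebra A B₁ := ((g.appLE W W' inf_le_left).hom.comp (f.appLE V W e).hom).toAlgebra
  haveI : IsScalarTower A B B₁ := .of_algebraMap_eq fun _ => rfl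
  haveI : IsScalarTower A A₁ B₁ := .of_algebraMap_eq' (by
      show ((f.appLE V W e) ≫ g.appLE W W' inf_le_left).hom =
        ((h.appLE V V' e') ≫ f'.appLE V' W' inf_le_right).hom
      simp only [Scheme.Hom.appLE_comp_appLE, hc.w])
  haveI : Algebra.IsPushout A A₁ B B₁ := hpo'
  letI : Algebra R B := ((f ≫ q).appLE T W eW).hom.toAlgebra
  haveI : IsScalarTower R A B := .of_algebraMap_eq' (by
    show ((f ≫ q).appLE T W eW).hom = (f.appLE V W e).hom.comp (q.appLE T V eT).hom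
    rw [← CommRingCat.hom_comp, Scheme.Hom.appLE_comp_appLE])
  haveI : Module.Flat R B := (f ≫ q).flat_appLE hT hW eW
  haveI : Algebra.FiniteType A B := f.finiteType_appLE hV hW e
  haveI := DRingLib.hasLBaseChange (algebraMap B B₁)
  haveI : DRing.HasLBaseChange (g.appLE W W' inf_le_left).hom := ‹_›
  exact ⟨W', V', inf_le_right, hW', hV', ⟨hxW, hxV, hxT'⟩,
    (test_iff_rel f' hW' hV' inf_le_right (model_lpull g hW hW' inf_le_left hM) rfl).2
      (rel_lbc_torIndep (R := R) (R' := R') ((test_iff_rel f hW hV e hM rfl).1 (test_of_rel f hr hW hV e)))⟩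

variable {X₁ Y₁ X₂ Y₂ : Scheme.{u}} (f₁ : X₁ ⟶ Y₁) (q₁ : Y₁ ⟶ S) (f₂ : X₂ ⟶ Y₂) (q₂ : Y₂ ⟶ S)
  [Flat q₂] [Flat (f₂ ≫ q₂)]
  {X₀ Y₀ : Scheme.{u}} {pX₁ : X₀ ⟶ X₁} {pX₂ : X₀ ⟶ X₂} {pY₁ : Y₀ ⟶ Y₁} {pY₂ : Y₀ ⟶ Y₂} {f₀ : X₀ ⟶ Y₀}

/-- Relative pseudo-coherence of external tensor products. -/
theorem rel_externalTensor (hX : IsPullback pX₁ pX₂ (f₁ ≫ q₁) (f₂ ≫ q₂))
    (hY : IsPullback pY₁ pY₂ q₁ q₂) (hf₁ : f₀ ≫ pY₁ = pX₁ ≫ f₁) (hf₂ : f₀ ≫ pY₂ = pX₂ ≫ f₂)
    [LocallyOfFiniteType f₁] [LocallyOfFiniteType f₂]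
    (E₁ : CochainComplex X₁.Modules ℤ) {a₁ b₁ : ℤ} (hq₁ : DCoh.IsQCohD (DCoh.toD X₁ E₁))
    (h₁ : DerSch.IsPseudoCoherentRel f₁ a₁ (DCoh.toD X₁ E₁)) [(DCoh.toD X₁ E₁).IsLE b₁]
    (E₂ : CochainComplex X₂.Modules ℤ) {a₂ b₂ : ℤ} (hq₂ : DCoh.IsQCohD (DCoh.toD X₂ E₂))
    (h₂ : DerSch.IsPseudoCoherentRel f₂ a₂ (DCoh.toD X₂ E₂)) [(DCoh.toD X₂ E₂).IsLE b₂]
    [DCoh.HasLpull pX₁] [DCoh.HasLpull pX₂] (K₂ : CochainComplex X₀.Modules ℤ) [DCoh.HasLTensorCx K₂]
    (e₂ : DCoh.toD X₀ K₂ ≅ (DCoh.Lpull pX₂).obj (DCoh.toD X₂ E₂)) :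
    DerSch.IsPseudoCoherentRel f₀ (max (a₁ + b₂) (a₂ + b₁))
        ((DCoh.LTensorCx K₂).obj ((DCoh.Lpull pX₁).obj (DCoh.toD X₁ E₁))) ∧
      ((DCoh.LTensorCx K₂).obj ((DCoh.Lpull pX₁).obj (DCoh.toD X₁ E₁))).IsLE (b₁ + b₂) := by
  haveI := isLE_lpull pX₁ (DCoh.toD X₁ E₁) b₁
  refine ⟨?_, ?_⟩
  · obtain ⟨a, b, rfl, hpX₂, hA, hB⟩ := exists_prod_factor f₁ q₁ f₂ q₂ hX hY hf₁ hf₂
    subst hpX₂
    let s := pullback.snd q₁ (f₂ ≫ q₂)
    haveI : Flat (pullback.fst q₁ (f₂ ≫ q₂)) := MorphismProperty.pullback_fst _ _ inferInstance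
    haveI : Flat pX₁ := MorphismProperty.of_isPullback hA.flip inferInstance
    haveI : LocallyOfFiniteType a := MorphismProperty.of_isPullback hA inferInstance
    haveI : LocallyOfFiniteType b := MorphismProperty.of_isPullback hB inferInstance
    obtain ⟨F, -, ⟨eF⟩⟩ := exists_kflat_rep ((DCoh.Lpull pX₁).obj (DCoh.toD X₁ E₁))
    haveI : DCoh.HasLTensorCx F := hasLTensorCx F
    haveI := isLE_lpull s (DCoh.toD X₂ E₂) b₂
    haveI : (DCoh.toD X₀ F).IsLE b₁ := (DerivedCategory.isLE_iff _ _).2 fun i hi =>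
      (DerivedCategory.isZero_of_isLE ((DCoh.Lpull pX₁).obj (DCoh.toD X₁ E₁)) b₁ i hi).of_iso
        ((DerivedCategory.homologyFunctor _ i).mapIso eF)
    obtain ⟨eP⟩ := nonempty_lpull_pullD pX₁ (DCoh.toD X₁ E₁)
    obtain ⟨ec⟩ := nonempty_lpullCompIso a s
    obtain ⟨es⟩ := nonempty_lTensor_symm K₂ F
    rw [add_comm a₂ b₁]
    refine rel_of_iso _ ?_ (rel_lTensor_lpull a b (b := b₁) (d := b₂) F
      (TildeD.isQCohD_of_iso eF.symm (TildeD.isQCohD_lpull pX₁ _ hq₁))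
      (rel_of_iso a (eP.symm ≪≫ eF.symm) (rel_baseChange pX₁ hA h₁))
      ((DCoh.Lpull s).obj (DCoh.toD X₂ E₂)) (TildeD.isQCohD_lpull s _ hq₂)
      (rel_lpull_torIndep hY.flip hB hq₂ h₂))
    exact (DCoh.LTensorCx F).mapIso (ec.app _ ≪≫ e₂.symm) ≪≫ es.symm ≪≫ (DCoh.LTensorCx K₂).mapIso eF
  · haveI : (DCoh.toD X₀ K₂).IsLE b₂ := by
      haveI := isLE_lpull pX₂ (DCoh.toD X₂ E₂) b₂
      exact (DerivedCategory.isLE_iff _ _).2 fun i hi =>
        (DerivedCategory.isZero_of_isLE ((DCoh.Lpull pX₂).obj (DCoh.toD X₂ E₂)) b₂ i hi).of_iso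
          ((DerivedCategory.homologyFunctor _ i).mapIso e₂)
    exact DCohMore.isLE_lTensorCx K₂ b₂ _ b₁

end Groth.Agent.RelPCLib
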