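import Groth.Agent.DCohLib.FTLocal
import Groth.Agent.DCohLib.StalkRestrictFree
import Groth.Agent.DCohLib.PullKFlat
import Groth.Agent.ProjBundleLib.FTQuot
import Groth.Agent.AmpleEmb.Generated

/-!
# Descent of finite type along flat surjective open maps

Finite type is tested by finitely many sections spanning the stalks near every point; this works for arbitrary
sheaves of modules.
-/

set_option autoImplicit false
set_option backward.isDefEq.respectTransparency false
set_option linter.style.haveILetI false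
set_option linter.unusedSectionVars false
set_option maxHeartbeats 1000000

universe u

open CategoryTheory CategoryTheory.Limits AlgebraicGeometry TopologicalSpace Opposite
open Groth.Agent.ParaFLib Groth.Agent.RelSpecLib Groth.Agent.PullbackMod Groth.Agent.DCohLib Groth.Agent.AmpleLib
open scoped TensorProduct

noncomputable section

namespace Groth.Agent.RelPCLib

variable {X Y : Scheme.{u}}

/-- The family of sections spans every stalk over the open. -/
def Spans (M : X.Modules) (U : X.Opens) {ι : Type*} (s : ι → Γ(M, U)) : Prop :=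
  ∀ (x : X) (hx : x ∈ U),
    Submodule.span (X.presheaf.stalk x) (Set.range fun i => M.presheaf.germ U x hx (s i)) = ⊤

theorem span_eq_top_of_semilinear {R S M N : Type*} [CommRing R] [CommRing S] [AddCommGroup M] [AddCommGroup N]
    [Module R M] [Module S N] (σ : R → S) (e : M →+ N) (he : Function.Surjective e)
    (h : ∀ r m, e (r • m) = σ r • e m) {ι : Type*} (v : ι → M) (w : ι → N) (hvw : ∀ i, e (v i) = w i)
    (hv : Submodule.span R (Set.range v) = ⊤) : Submodule.span S (Set.range w) = ⊤ := by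
  refine eq_top_iff.2 fun n _ => ?_
  obtain ⟨m, rfl⟩ := he n
  have hm : m ∈ Submodule.span R (Set.range v) := by rw [hv]; trivial
  induction hm using Submodule.span_induction with
  | mem x hx =>
    obtain ⟨i, rfl⟩ := hx
    rw [hvw]
    exact Submodule.subset_span ⟨i, rfl⟩
  | zero => rw [map_zero]; exact Submodule.zero_mem _
  | add x y _ _ hx hy => rw [map_add]; exact Submodule.add_mem _ (hx trivial) (hy trivial)
  | smul a x _ hx => rw [h]; exact Submodule.smul_mem _ _ (hx trivial)

/-- The images of the basis under a surjection from a free module span the stalks. -/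
theorem spans_of_epi_free {M : X.Modules} {ι : Type u}
    (p : (SheafOfModules.free (R := X.ringCatSheaf) ι : X.Modules) ⟶ M) [Epi p] :
    ∃ s : ι → Γ(M, ⊤), Spans M ⊤ s := by
  refine ⟨fun i => sec (SheafOfModules.ιFree i ≫ p : Coh.structureModule X ⟶ M), fun x hx => ?_⟩
  set S := Submodule.span (X.presheaf.stalk x) (Set.range fun i : ι =>
    M.presheaf.germ ⊤ x hx (sec (SheafOfModules.ιFree i ≫ p : Coh.structureModule X ⟶ M)))
  let ψ : M ⟶ sky x (M.presheaf.stalk x ⧸ S) := toSky S.mkQ
  have hψ : ψ = 0 := by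
    refine (@cancel_epi X.Modules _ _ _ _ p _ ψ 0).1 ?_
    refine Eq.trans ?_ (comp_zero (C := X.Modules) (f := p)).symm
    refine Cofan.IsColimit.hom_ext (SheafOfModules.isColimitFreeCofan ι) _ _ fun i => ?_
    let t : Coh.structureModule X ⟶ M := SheafOfModules.ιFree i ≫ p
    refine Eq.trans ?_ (comp_zero (C := X.Modules) (f := SheafOfModules.ιFree i)).symm
    refine (Category.assoc (obj := X.Modules) (SheafOfModules.ιFree i) p ψ).symm.trans ?_
    show t ≫ ψ = 0
    refine DCohLib.hom_unit_ext ?_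
    refine funext fun hx' => ?_
    show S.mkQ (M.presheaf.germ ⊤ x hx'.down (sec t)) = 0
    rw [Submodule.mkQ_apply, Submodule.Quotient.mk_eq_zero]
    exact Submodule.subset_span ⟨i, rfl⟩
  refine eq_top_iff.2 fun z _ => ?_
  obtain ⟨U, hxU, m, rfl⟩ := TopCat.Presheaf.exists_germ_eq M.presheaf z
  rw [← Submodule.Quotient.mk_eq_zero, ← Submodule.mkQ_apply, ← toSky_app S.mkQ U m ⟨hxU⟩]
  have h0 : (toSky S.mkQ).app U m = 0 := by
    show ψ.app U m = 0
    rw [hψ]
    rfl
  exact congrFun h0 ⟨hxU⟩

/-- Spanning families and restriction to an open subscheme. -/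
theorem spans_restrict_iff (j : X ⟶ Y) [IsOpenImmersion j] (M : Y.Modules) {ι : Type*} (U : X.Opens)
    (s : ι → Γ(M, j ''ᵁ U)) :
    Spans ((Scheme.Modules.restrictFunctor j).obj M) U (fun i => (s i : Γ((Scheme.Modules.restrictFunctor j).obj M, U)))
      ↔ Spans M (j ''ᵁ U) s := by
  have key : ∀ (x : X) (hx : x ∈ U),
      (Submodule.span (X.presheaf.stalk x) (Set.range fun i =>
        ((Scheme.Modules.restrictFunctor j).obj M).presheaf.germ U x hx
          (s i : Γ((Scheme.Modules.restrictFunctor j).obj M, U))) = ⊤) ↔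
      Submodule.span (Y.presheaf.stalk (j x)) (Set.range fun i =>
        M.presheaf.germ (j ''ᵁ U) (j x) ⟨x, hx, rfl⟩ (s i)) = ⊤ := fun x hx => by
    let σ := (asIso (j.stalkMap x)).commRingCatIsoToRingEquiv
    let e : ((Scheme.Modules.restrictFunctor j).obj M).presheaf.stalk x ≃+ M.presheaf.stalk (j x) :=
      ((Scheme.Modules.restrictStalkNatIso j x).app M).addCommGroupIsoToAddEquiv
    have h : ∀ c m, e (c • m) = σ.symm c • e m := restrictStalk_smul j M x
    have hg : ∀ i, e (((Scheme.Modules.restrictFunctor j).obj M).presheaf.germ U x hx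
        (s i : Γ((Scheme.Modules.restrictFunctor j).obj M, U))) = M.presheaf.germ (j ''ᵁ U) (j x) ⟨x, hx, rfl⟩ (s i) :=
      fun i => ConcreteCategory.congr_hom (Scheme.Modules.germ_restrictStalkNatIso_hom_app j x M hx) (s i)
    constructor
    · exact span_eq_top_of_semilinear σ.symm e.toAddMonoidHom e.surjective h _ _ hg
    · refine span_eq_top_of_semilinear σ e.symm.toAddMonoidHom e.symm.surjective (fun r m => ?_) _ _
        (fun i => e.injective ((e.apply_symm_apply _).trans (hg i).symm))
      apply e.injective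
      show e (e.symm (r • m)) = e (σ r • e.symm m)
      rw [h, σ.symm_apply_apply, e.apply_symm_apply, e.apply_symm_apply]
  constructor
  · rintro h y ⟨x, hx, rfl⟩
    exact (key x hx).1 (h x hx)
  · intro h x hx
    exact (key x hx).2 (h _ ⟨x, hx, rfl⟩)

/-- A module of finite type has finite spanning families near every point. -/
theorem exists_spans_of_isFT {M : X.Modules} (hM : CohB1.IsFT M) (x : X) :
    ∃ (U : X.Opens) (n : ℕ) (s : Fin n → Γ(M, U)), x ∈ U ∧ Spans M U s := by
  obtain ⟨V, n, p, hxV, hp⟩ := exists_free_epi hM x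
  let q : (SheafOfModules.free (R := (V : Scheme.{u}).ringCatSheaf) (ULift.{u} (Fin n)) : (V : Scheme.{u}).Modules) ⟶
      (Scheme.Modules.restrictFunctor V.ι).obj M := (freeIsoFreeMod (V : Scheme.{u}) Equiv.ulift).hom ≫ p
  haveI : Epi q := inferInstance
  obtain ⟨s, hs⟩ := spans_of_epi_free q
  refine ⟨V.ι ''ᵁ ⊤, n, fun i => s ⟨i⟩, ⟨⟨x, hxV⟩, trivial, rfl⟩, ?_⟩
  refine (spans_restrict_iff V.ι M ⊤ fun i : Fin n => s ⟨i⟩).1 fun y hy => eq_top_iff.2 ((hs y hy).ge.trans ?_)
  refine Submodule.span_mono ?_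
  rintro _ ⟨⟨i⟩, rfl⟩
  exact ⟨i, rfl⟩

/-- Finite spanning families near every point give finite type. -/
theorem isFT_of_spans {M : X.Modules}
    (h : ∀ x : X, ∃ (U : X.Opens) (n : ℕ) (s : Fin n → Γ(M, U)), x ∈ U ∧ Spans M U s) : CohB1.IsFT M := by
  refine isFT_of_local_epi fun x => ?_
  obtain ⟨U, n, s, hx, hs⟩ := h x
  let t : Fin n → Γ((Scheme.Modules.restrictFunctor U.ι).obj M, ⊤) := fun i =>
    M.presheaf.map (homOfLE U.ι_image_top.le).op (s i)
  have ht : Spans ((Scheme.Modules.restrictFunctor U.ι).obj M) ⊤ t := by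
    refine (spans_restrict_iff U.ι M ⊤ fun i => M.presheaf.map (homOfLE U.ι_image_top.le).op (s i)).2 fun y hy => ?_
    have hy' : y ∈ U := U.ι_image_top.le hy
    refine eq_top_iff.2 ((hs y hy').ge.trans (Submodule.span_mono ?_))
    rintro _ ⟨i, rfl⟩
    exact ⟨i, TopCat.Presheaf.germ_res_apply M.presheaf _ y hy (s i)⟩
  let σ : ULift.{u} (Fin n) → SheafOfModules.sections (R := (U : Scheme.{u}).ringCatSheaf)
      ((Scheme.Modules.restrictFunctor U.ι).obj M) := fun i =>
    PresheafOfModules.sectionsMk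
      (fun W => ((Scheme.Modules.restrictFunctor U.ι).obj M).presheaf.map (homOfLE le_top).op (t i.down))
      fun {W V} j => by
        show (((Scheme.Modules.restrictFunctor U.ι).obj M).presheaf.map _ ≫
            ((Scheme.Modules.restrictFunctor U.ι).obj M).presheaf.map j) (t i.down) =
          ((Scheme.Modules.restrictFunctor U.ι).obj M).presheaf.map _ (t i.down)
        rw [← Functor.map_comp]
        rfl
  let p := (SheafOfModules.freeHomEquiv (R := (U : Scheme.{u}).ringCatSheaf)
    ((Scheme.Modules.restrictFunctor U.ι).obj M)).symm σ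
  have hp : Epi (C := (U : Scheme.{u}).Modules) p := by
    refine (epi_iff_stalk (M := (SheafOfModules.free _ : (U : Scheme.{u}).Modules)) p).2 fun z => ?_
    rw [← LinearMap.range_eq_top, eq_top_iff, ← ht z trivial, Submodule.span_le]
    rintro _ ⟨i, rfl⟩
    let P : (U : Scheme.{u}).Modules :=
      (SheafOfModules.free (R := (U : Scheme.{u}).ringCatSheaf) (ULift.{u} (Fin n)) :
        SheafOfModules (U : Scheme.{u}).ringCatSheaf)
    refine ⟨Scheme.Modules.presheaf P |>.germ ⊤ z trivial
      ((SheafOfModules.freeSection (R := (U : Scheme.{u}).ringCatSheaf) (⟨i⟩ : ULift.{u} (Fin n))).val (op ⊤)), ?_⟩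
    rw [stalkLin_germ]
    refine congrArg (fun v => ((Scheme.Modules.restrictFunctor U.ι).obj M).presheaf.germ ⊤ z trivial v) ?_
    have := (SheafOfModules.freeHomEquiv_apply p (⟨i⟩ : ULift.{u} (Fin n))).symm.trans
      (congrFun ((SheafOfModules.freeHomEquiv (R := (U : Scheme.{u}).ringCatSheaf)
        ((Scheme.Modules.restrictFunctor U.ι).obj M)).apply_symm_apply σ) ⟨i⟩)
    refine (congrArg (fun v : SheafOfModules.sections (R := (U : Scheme.{u}).ringCatSheaf)
      ((Scheme.Modules.restrictFunctor U.ι).obj M) => v.val (op ⊤)) this).trans ?_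
    exact ConcreteCategory.congr_hom (((Scheme.Modules.restrictFunctor U.ι).obj M).presheaf.map_id _) (t i)
  exact ⟨U, U.ι, inferInstance, ⟨x, hx⟩, n,
    (freeIsoFreeMod (U : Scheme.{u}) Equiv.ulift).inv ≫ p, rfl, epi_comp' inferInstance hp⟩

/-- A surjection after a faithfully flat base change was a surjection. -/
theorem span_eq_top_of_baseChange {A B M : Type u} [CommRing A] [CommRing B] [Algebra A B]
    [Module.FaithfullyFlat A B] [AddCommGroup M] [Module A M] {ι : Type*} (v : ι → M)
    (h : Submodule.span B (Set.range fun i => (1 : B) ⊗ₜ[A] v i) = ⊤) :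
    Submodule.span A (Set.range v) = ⊤ := by
  let N := Submodule.span A (Set.range v)
  show N = ⊤
  rw [← N.range_subtype, LinearMap.range_eq_top, ← Module.FaithfullyFlat.lTensor_surjective_iff_surjective A B]
  intro z
  have hz : z ∈ Submodule.span B (Set.range fun i => (1 : B) ⊗ₜ[A] v i) := by rw [h]; trivial
  obtain ⟨w, hw⟩ : z ∈ LinearMap.range (N.subtype.baseChange B) := by
    refine Submodule.span_le.2 ?_ hz
    rintro _ ⟨i, rfl⟩
    exact ⟨(1 : B) ⊗ₜ[A] (⟨v i, Submodule.subset_span ⟨i, rfl⟩⟩ : N), LinearMap.baseChange_tmul _ _ _⟩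
  exact ⟨w, hw⟩

/-- Finite type descends along flat surjective open maps, for all sheaves of modules. -/
theorem isFT_of_pullback (f : X ⟶ Y) [Flat f] [Surjective f] (hf : IsOpenMap f.base) (F : Y.Modules)
    (h : CohB1.IsFT ((Scheme.Modules.pullback f).obj F)) : CohB1.IsFT F := by
  classical
  refine isFT_of_spans fun y => ?_
  obtain ⟨x, rfl⟩ := f.surjective y
  let G := (Scheme.Modules.pullback f).obj F
  obtain ⟨V, n, t, hxV, ht⟩ := exists_spans_of_isFT h x
  -- finitely many sections of `F` generate the chosen generators at the point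
  letI := (f.stalkMap x).hom.toAlgebra
  have hgen : ∀ z : G.presheaf.stalk x, z ∈ Submodule.span (X.presheaf.stalk x) (Set.range (pullStalk f F x)) := by
    intro z
    obtain ⟨w, rfl⟩ := (pullStalkEquiv f x F).surjective z
    induction w with
    | zero => simp
    | add p q hp hq => rw [map_add]; exact Submodule.add_mem _ hp hq
    | tmul b m =>
      rw [pullStalkEquiv_tmul]
      exact Submodule.smul_mem _ _ (Submodule.subset_span ⟨m, rfl⟩)
  choose T hT using fun i : Fin n => Submodule.mem_span_finite_of_mem_span (hgen (G.presheaf.germ V x hxV (t i)))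
  let T' : Finset (G.presheaf.stalk x) := Finset.univ.biUnion T
  have hT' : ∀ a : T', ∃ m, pullStalk f F x m = a.1 := fun a => by
    obtain ⟨i, -, hi⟩ := Finset.mem_biUnion.1 a.2
    exact (hT i).1 hi
  choose m hm using hT'
  choose W hW sec hsec using fun a => TopCat.Presheaf.exists_germ_eq F.presheaf (m a)
  let W₀ : Y.Opens := Finset.univ.inf W
  have hxW₀ : f x ∈ W₀ := by
    show f x ∈ ((Finset.univ.inf W : Y.Opens) : Set Y)
    rw [Opens.coe_finset_inf]
    exact Finset.inf_induction (f := fun a => (W a : Set Y)) (p := fun A => f x ∈ A) trivial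
      (fun a ha b hb => ⟨ha, hb⟩) fun a _ => hW a
  let s : T' → Γ(F, W₀) := fun a => F.presheaf.map (homOfLE (Finset.inf_le (Finset.mem_univ a))).op (sec a)
  let g : T' → Γ(G, f ⁻¹ᵁ W₀) := fun a =>
    ((Scheme.Modules.pullbackPushforwardAdjunction f).unit.app F).app W₀ (s a)
  have hg : ∀ (x' : X) (hx' : f x' ∈ W₀) (a : T'),
      pullStalk f F x' (F.presheaf.germ W₀ (f x') hx' (s a)) = G.presheaf.germ (f ⁻¹ᵁ W₀) x' hx' (g a) :=
    fun x' hx' a => pullStalk_germ f F x' hx' (s a)
  have hga : ∀ a, G.presheaf.germ (f ⁻¹ᵁ W₀) x hxW₀ (g a) = a.1 := fun a => by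
    rw [← hg x hxW₀ a, TopCat.Presheaf.germ_res_apply, hsec, hm]
  have hspan : ∀ i, G.presheaf.germ V x hxV (t i) ∈ Submodule.span (X.presheaf.stalk x)
      (Set.range fun a => G.presheaf.germ (f ⁻¹ᵁ W₀) x hxW₀ (g a)) := fun i => by
    refine Submodule.span_mono ?_ (hT i).2
    intro b hb
    exact ⟨⟨b, Finset.mem_biUnion.2 ⟨i, Finset.mem_univ i, hb⟩⟩, hga _⟩
  choose O hO hxO S c hc using fun i => ProjBundleLib.exists_comb (M := G) hxW₀ g (hspan i)
  choose C hxC hCO hCV hC using fun i => TopCat.Presheaf.germ_eq G.presheaf x (hxO i) hxV _ _ (hc i)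
  let U : X.Opens := (V ⊓ f ⁻¹ᵁ W₀) ⊓ Finset.univ.inf C
  have hxU : x ∈ U := ⟨⟨hxV, hxW₀⟩, by
    show x ∈ ((Finset.univ.inf C : X.Opens) : Set X)
    rw [Opens.coe_finset_inf]
    exact Finset.inf_induction (f := fun a => (C a : Set X)) (p := fun A => x ∈ A) trivial
      (fun a ha b hb => ⟨ha, hb⟩) fun a _ => hxC a⟩
  let Y₀ : Y.Opens := ⟨f.base '' (U : Set X), hf _ U.2⟩
  have hY₀ : Y₀ ≤ W₀ := by
    rintro _ ⟨z, hz, rfl⟩
    exact hz.1.2
  let e := T'.attach
  refine ⟨Y₀, T'.card, fun k => F.presheaf.map (homOfLE hY₀).op (s (T'.equivFin.symm k)), ⟨x, hxU, rfl⟩, ?_⟩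
  rintro _ ⟨x', hx', rfl⟩
  letI := (f.stalkMap x').hom.toAlgebra
  haveI : Module.Flat (Y.presheaf.stalk (f x')) (X.presheaf.stalk x') := Flat.stalkMap f x'
  haveI : IsLocalHom (algebraMap (Y.presheaf.stalk (f x')) (X.presheaf.stalk x')) :=
    inferInstanceAs (IsLocalHom (f.stalkMap x').hom)
  haveI : Module.FaithfullyFlat (Y.presheaf.stalk (f x')) (X.presheaf.stalk x') :=
    Module.FaithfullyFlat.of_flat_of_isLocalHom
  refine span_eq_top_of_baseChange (B := X.presheaf.stalk x') _ ?_
  refine span_eq_top_of_semilinear id (pullStalkEquiv f x' F).symm.toAddEquiv.toAddMonoidHom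
    (pullStalkEquiv f x' F).symm.surjective (fun r z => (pullStalkEquiv f x' F).symm.map_smul r z)
    (fun k => G.presheaf.germ (f ⁻¹ᵁ W₀) x' hx'.1.2 (g (T'.equivFin.symm k))) _ (fun k => ?_) ?_
  · show (pullStalkEquiv f x' F).symm _ = _
    rw [LinearEquiv.symm_apply_eq, pullStalkEquiv_tmul, one_smul, TopCat.Presheaf.germ_res_apply]
    exact (hg x' hx'.1.2 _).symm
  · refine eq_top_iff.2 ((ht x' hx'.1.1).ge.trans (Submodule.span_le.2 ?_))
    rintro _ ⟨i, rfl⟩
    have hi : x' ∈ C i := (Finset.inf_le (f := C) (Finset.mem_univ i)) hx'.2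
    show G.presheaf.germ V x' hx'.1.1 (t i) ∈ _
    rw [← TopCat.Presheaf.germ_res_apply G.presheaf (hCV i) x' hi (t i), ← hC i,
      TopCat.Presheaf.germ_res_apply, map_sum]
    refine Submodule.sum_mem _ fun a _ => ?_
    rw [germ_smul' x', TopCat.Presheaf.germ_res_apply]
    exact Submodule.smul_mem _ _ (Submodule.subset_span ⟨T'.equivFin a, by simp⟩)

end Groth.Agent.RelPCLib
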