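import Groth.Agent.RelPCLib.PerfNhd
import Groth.Agent.DRingLib.FlatBC
import Groth.Agent.DRingLib.BaseChange
import Groth.Agent.FlatCx.Cochain
import Groth.Agent.S1483

/-!
# Tor amplitude from the fibres
-/

set_option autoImplicit false
set_option backward.isDefEq.respectTransparency false
set_option linter.style.haveILetI false
set_option linter.unusedSectionVars false
set_option maxHeartbeats 1000000

universe u

open CategoryTheory CategoryTheory.Limits AlgebraicGeometry CochainComplex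
open scoped TensorProduct

attribute [local instance] HasDerivedCategory.standard

noncomputable section

namespace Groth.Agent.RelPCLib

open Groth.Agent.DRingLib Groth.Agent.DCohLib Groth.Agent.DTenLib Groth.Agent.DerSchH7 Groth.Agent.PCHomLib

section Ring

variable {R A : Type u} [CommRing R] [CommRing A] (ψ : R →+* A)

/-- Multiples by the extension of an ideal, over the smaller ring. -/
theorem mem_smul_res_iff (m : Ideal R) (M : ModuleCat.{u} A) (z : M) :
    z ∈ (m.map ψ • ⊤ : Submodule A M) ↔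
      (id z : (ModuleCat.restrictScalars.{u} ψ).obj M) ∈
        (m • ⊤ : Submodule R ((ModuleCat.restrictScalars.{u} ψ).obj M)) := by
  constructor
  · intro hz
    refine Submodule.smul_induction_on hz (fun a ha x _ => ?_) fun x y hx hy => Submodule.add_mem _ hx hy
    clear hz
    revert x
    refine Submodule.span_induction ?_ ?_ ?_ ?_ ha
    · rintro _ ⟨r, hr, rfl⟩ x -
      exact Submodule.smul_mem_smul (M := (ModuleCat.restrictScalars.{u} ψ).obj M) hr
        (Submodule.mem_top (x := (id x : (ModuleCat.restrictScalars.{u} ψ).obj M)))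
    · intro x _
      rw [zero_smul]
      exact Submodule.zero_mem _
    · intro c d _ _ hc hd x _
      rw [add_smul]
      exact Submodule.add_mem _ (hc x trivial) (hd x trivial)
    · intro c d _ hd x _
      rw [smul_eq_mul, mul_comm, mul_smul]
      exact hd (c • x) trivial
  · intro hz
    exact Submodule.smul_induction_on (p := fun w : (ModuleCat.restrictScalars.{u} ψ).obj M =>
      (id w : M) ∈ (m.map ψ • ⊤ : Submodule A M)) hz
      (fun r hr x _ => Submodule.smul_mem_smul (M := M) (Ideal.mem_map_of_mem ψ hr) (Submodule.mem_top (x := (id x : M))))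
      fun x y hx hy => Submodule.add_mem _ hx hy

/-- An acyclic bounded above complex with flat terms over the base stays acyclic on the fibre. -/
theorem exact_mod_of_flat_res (m : Ideal R) {C : DRing.Cx A} {b : ℤ} (hb : DRing.VanishesAbove C b)
    (hfl : ∀ i, Module.Flat R ((ModuleCat.restrictScalars.{u} ψ).obj (C.X i))) (hac : ∀ p, C.ExactAt p)
    (i : ℤ) (z : C.X i) (hz : (C.d i (i + 1)).hom z ∈ (m.map ψ • ⊤ : Submodule A (C.X (i + 1)))) :
    ∃ w : C.X (i - 1), z - (C.d (i - 1) i).hom w ∈ (m.map ψ • ⊤ : Submodule A (C.X i)) := by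
  let F := (DTen.resCx ψ).obj C
  have hacF : ∀ p, F.ExactAt p := fun p =>
    (HomologicalComplex.exactAt_iff _ _).2
      (((HomologicalComplex.exactAt_iff _ _).1 (hac p)).map (ModuleCat.restrictScalars.{u} ψ))
  have h := FlatCx.exactAt_tensor F hfl b (fun j hj => (ModuleCat.restrictScalars.{u} ψ).map_isZero (hb j hj)) hacF
    (ModuleCat.of R (R ⧸ m)) i
  have hr := FlatCx.range_eq_ker_of_exactAt _ (i - 1) i (i + 1) (by omega) rfl h
  let e := fun M : ModuleCat.{u} R => TensorProduct.tensorQuotEquivQuotSMul (R := R) M m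
  have key : ∀ (j : ℤ) (y : F.X j), (y ⊗ₜ[R] (Ideal.Quotient.mk m 1) : F.X j ⊗[R] (R ⧸ m)) = 0 ↔
      (id y : C.X j) ∈ (m.map ψ • ⊤ : Submodule A (C.X j)) := fun j y => by
    rw [mem_smul_res_iff, ← (e (F.X j)).map_eq_zero_iff, TensorProduct.tensorQuotEquivQuotSMul_tmul_mk, one_smul,
      Submodule.Quotient.mk_eq_zero]
    exact Iff.rfl
  have hz' : (show F.X i from z) ⊗ₜ[R] (Ideal.Quotient.mk m 1) ∈ LinearMap.ker ((F.d i (i + 1)).hom.rTensor (R ⧸ m)) := by
    rw [LinearMap.mem_ker, LinearMap.rTensor_tmul]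
    exact (key _ _).2 hz
  obtain ⟨t, ht⟩ := hr.ge hz'
  have ht' : ∀ t : F.X (i - 1) ⊗[R] (R ⧸ m), ∃ w : F.X (i - 1), t = w ⊗ₜ[R] Ideal.Quotient.mk m 1 := fun t => by
    induction t using TensorProduct.induction_on with
    | zero => exact ⟨0, (TensorProduct.zero_tmul _ _).symm⟩
    | tmul w r =>
      obtain ⟨r, rfl⟩ := Ideal.Quotient.mk_surjective r
      refine ⟨r • w, ?_⟩
      rw [TensorProduct.smul_tmul, show r • Ideal.Quotient.mk m 1 = Ideal.Quotient.mk m r by
        rw [← Ideal.Quotient.mk_eq_mk, ← Ideal.Quotient.mk_eq_mk, ← Submodule.Quotient.mk_smul, smul_eq_mul, mul_one]]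
    | add x y hx hy =>
      obtain ⟨w, rfl⟩ := hx
      obtain ⟨v, rfl⟩ := hy
      exact ⟨w + v, (TensorProduct.add_tmul _ _ _).symm⟩
  obtain ⟨w, rfl⟩ := ht' t
  refine ⟨w, (key i ((show F.X i from z) - (F.d (i - 1) i).hom w)).1 ?_⟩
  rw [TensorProduct.sub_tmul, sub_eq_zero]
  exact ht.symm.trans (LinearMap.rTensor_tmul _ _ _ _)

/-- Extension of scalars to a quotient. -/
def extQuotEquiv (I : Ideal A) (M : ModuleCat.{u} A) :
    (ModuleCat.extendScalars.{u, u, u} (Ideal.Quotient.mk I)).obj M ≃ₗ[A ⧸ I] (A ⧸ I) ⊗[A] M :=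
  extendScalarsTensorEquiv A (A ⧸ I) M

theorem exactAt_ext_mod (m : Ideal R) {C : DRing.Cx A} {b : ℤ} (hb : DRing.VanishesAbove C b)
    (hfl : ∀ i, Module.Flat R ((ModuleCat.restrictScalars.{u} ψ).obj (C.X i))) (hac : ∀ p, C.ExactAt p) (i : ℤ) :
    ((DTen.extCx (Ideal.Quotient.mk (m.map ψ))).obj C).ExactAt i := by
  let I := m.map ψ
  let E := (DTen.extCx (Ideal.Quotient.mk I)).obj C
  refine FlatCx.exactAt_of_range_eq_ker _ (i - 1) i (i + 1) (by omega) rfl (le_antisymm ?_ fun t ht => ?_)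
  · rintro _ ⟨w, rfl⟩
    exact congrArg (fun g : E.X (i - 1) ⟶ E.X (i + 1) => g.hom w) (E.d_comp_d (i - 1) i (i + 1))
  have hmk : ∀ j (t : E.X j), ∃ y : C.X j, extQuotEquiv I (C.X j) t = 1 ⊗ₜ[A] y := fun j t => by
    obtain ⟨y, hy⟩ := TensorProduct.mk_surjective A (C.X j) (A ⧸ I) Ideal.Quotient.mk_surjective
      (extQuotEquiv I (C.X j) t)
    exact ⟨y, hy.symm⟩
  have hzero : ∀ j (y : C.X j), ((1 : A ⧸ I) ⊗ₜ[A] y) = 0 ↔ y ∈ (I • ⊤ : Submodule A (C.X j)) := fun j y => by
    rw [← (TensorProduct.quotTensorEquivQuotSMul (C.X j) I).map_eq_zero_iff,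
      show (1 : A ⧸ I) = Ideal.Quotient.mk I 1 from rfl, TensorProduct.quotTensorEquivQuotSMul_mk_tmul, one_smul,
      Submodule.Quotient.mk_eq_zero]
  have hd : ∀ j k (t : E.X j) (y : C.X j), extQuotEquiv I (C.X j) t = 1 ⊗ₜ[A] y →
      extQuotEquiv I (C.X k) ((E.d j k).hom t) = 1 ⊗ₜ[A] (C.d j k).hom y := fun j k t y h => by
    obtain rfl : t = (extQuotEquiv I (C.X j)).symm (1 ⊗ₜ[A] y) := by rw [← h, LinearEquiv.symm_apply_apply]
    rfl
  obtain ⟨z, hz⟩ := hmk i t
  have h1 : (1 : A ⧸ I) ⊗ₜ[A] (C.d i (i + 1)).hom z = 0 := by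
    rw [← hd i (i + 1) t z hz, LinearMap.mem_ker.1 ht]
    exact map_zero _
  obtain ⟨w, hw⟩ := exact_mod_of_flat_res ψ m hb hfl hac i z ((hzero _ _).1 h1)
  refine ⟨(extQuotEquiv I (C.X (i - 1))).symm (1 ⊗ₜ[A] w), (extQuotEquiv I (C.X i)).injective ?_⟩
  rw [hd (i - 1) i _ w (LinearEquiv.apply_symm_apply _ _), hz, eq_comm, ← sub_eq_zero, ← TensorProduct.tmul_sub]
  exact (hzero _ _).2 hw

/-- The quotient by an ideal as a tensor product, over the quotient ring. -/
def quotTensorEquivMod (I : Ideal A) (M : Type u) [AddCommGroup M] [Module A M] :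
    (A ⧸ I) ⊗[A] M ≃ₗ[A ⧸ I] M ⧸ (I • ⊤ : Submodule A M) :=
  { (TensorProduct.quotTensorEquivQuotSMul M I).toAddEquiv with
    map_smul' := fun c x => by
      obtain ⟨c, rfl⟩ := Ideal.Quotient.mk_surjective c
      induction x using TensorProduct.induction_on with
      | zero => exact ((TensorProduct.quotTensorEquivQuotSMul M I).toLinearMap.map_smul c 0)
      | tmul r y =>
        obtain ⟨r, rfl⟩ := Ideal.Quotient.mk_surjective r
        show TensorProduct.quotTensorEquivQuotSMul M I (Ideal.Quotient.mk I (c * r) ⊗ₜ[A] y) =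
          Ideal.Quotient.mk I c • TensorProduct.quotTensorEquivQuotSMul M I (Ideal.Quotient.mk I r ⊗ₜ[A] y)
        rw [TensorProduct.quotTensorEquivQuotSMul_mk_tmul, TensorProduct.quotTensorEquivQuotSMul_mk_tmul, mul_smul]
        rfl
      | add x y hx hy =>
        show TensorProduct.quotTensorEquivQuotSMul M I (Ideal.Quotient.mk I c • (x + y)) =
          Ideal.Quotient.mk I c • TensorProduct.quotTensorEquivQuotSMul M I (x + y)
        replace hx : TensorProduct.quotTensorEquivQuotSMul M I (Ideal.Quotient.mk I c • x) =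
          Ideal.Quotient.mk I c • TensorProduct.quotTensorEquivQuotSMul M I x := hx
        replace hy : TensorProduct.quotTensorEquivQuotSMul M I (Ideal.Quotient.mk I c • y) =
          Ideal.Quotient.mk I c • TensorProduct.quotTensorEquivQuotSMul M I y := hy
        rw [smul_add, map_add, hx, hy, map_add, smul_add] }

theorem quasiIso_of_cone_exact {B : Type u} [CommRing B] {P T : DRing.Cx B} (q : P ⟶ T)
    (h : ∀ i, (mappingCone q).ExactAt i) : QuasiIso q := by
  refine ⟨fun i => (quasiIsoAt_iff_isIso_homologyMap _ _).2 ((map_homologyFunctor_Q q i).1.1 ?_)⟩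
  have hM : MIso (i - 1) (DerivedCategory.Q.map q) :=
    ⟨_, _, _, DerivedCategory.mappingCone_triangle_distinguished q, fun j _ =>
      ((HomologicalComplex.exactAt_iff_isZero_homology _ _).1 (h j)).of_iso
        ((DerivedCategory.homologyFunctorFactors _ j).app _)⟩
  exact ((mIso_iff _ _).1 hM).1 i (by omega)

/-- On the fibre, a complex with the higher terms flat has flat bottom term. -/
theorem flat_bottom_fibre (hψ : ψ.Flat) (m : Ideal R) [DRing.HasLBaseChange (Ideal.Quotient.mk (m.map ψ))]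
    {T : DRing.Cx A} {a b n : ℤ} (hlow : ∀ i, i < a → IsZero (T.X i)) (hn : ∀ i, n < i → IsZero (T.X i))
    (hfl : ∀ i, a < i → Module.Flat A (T.X i))
    (hR : DRing.HasTorAmplitudeIn R a b ((DRing.restrictD ψ).obj (DRing.toD T)))
    (hfib : DRing.HasTorAmplitudeIn (A ⧸ m.map ψ) a b
      ((DRing.LBaseChange (Ideal.Quotient.mk (m.map ψ))).obj (DRing.toD T))) :
    Module.Flat (A ⧸ m.map ψ) (T.X a ⧸ (m.map ψ • ⊤ : Submodule A (T.X a))) := by
  letI := ψ.toAlgebra
  haveI : Module.Flat R A := hψ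
  have hres : ∀ M : ModuleCat.{u} A, Module.Flat A M → Module.Flat R ((ModuleCat.restrictScalars.{u} ψ).obj M) :=
    fun M hM => by
      letI : Module R M := Module.compHom M ψ
      haveI : IsScalarTower R A M := .of_algebraMap_smul fun _ _ => rfl
      exact Module.Flat.trans R A M
  have hTres : ∀ i, Module.Flat R ((ModuleCat.restrictScalars.{u} ψ).obj (T.X i)) := fun i => by
    rcases lt_trichotomy i a with hi | rfl | hi
    · haveI : Subsingleton ((ModuleCat.restrictScalars.{u} ψ).obj (T.X i)) :=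
        ModuleCat.subsingleton_of_isZero ((ModuleCat.restrictScalars.{u} ψ).map_isZero (hlow i hi))
      infer_instance
    · exact flat_bottom (T := (DTen.resCx ψ).obj T) (n := n)
        (fun j hj => (ModuleCat.restrictScalars.{u} ψ).map_isZero (hlow j hj))
        (fun j hj => (ModuleCat.restrictScalars.{u} ψ).map_isZero (hn j hj))
        (fun j hj => hres _ (hfl j hj)) (amp_of_iso ((DTen.resFactors ψ).app T) hR)
    · exact hres _ (hfl i hi)
  obtain ⟨P, hPb, hP, ⟨e⟩⟩ := exists_proj_representative (n := max n a)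
    (aboveZero_toD (E := T) (n := max n a + 1) fun i hi => hn i (by omega))
  haveI := DRingLib.isKProjective_of_vanishesAbove hPb hP
  obtain ⟨q, hq⟩ := Q_map_surjective P T e.hom
  haveI : IsIso (DerivedCategory.Q.map q) := hq ▸ inferInstance
  have hC : ∀ p, (mappingCone q).ExactAt p := fun p => by
    rw [HomologicalComplex.exactAt_iff_isZero_homology]
    exact (((mIso_of_isIso (p - 1) (DerivedCategory.Q.map q)).cone _
      (DerivedCategory.mappingCone_triangle_distinguished q)) p (by omega)).of_iso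
      ((DerivedCategory.homologyFunctorFactors _ p).app (mappingCone q)).symm
  have hPres : ∀ i, Module.Flat R ((ModuleCat.restrictScalars.{u} ψ).obj (P.X i)) := fun i =>
    hres _ (termwiseFlat_of_projective hP i)
  let φ := Ideal.Quotient.mk (m.map ψ)
  have hext : ∀ p, ((DTen.extCx φ).obj (mappingCone q)).ExactAt p := fun p =>
    exactAt_ext_mod ψ m (b := max n a) (fun i hi =>
      ((biprod_isZero_iff _ _).2 ⟨hPb (i + 1) (by omega), hn i (by omega)⟩).of_iso
        (HomologicalComplex.homotopyCofiber.XIsoBiprod q i (i + 1) rfl)) (fun i => by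
      haveI := preservesBinaryBiproducts_of_preservesBiproducts (ModuleCat.restrictScalars.{u} ψ)
      haveI := hPres (i + 1)
      haveI := hTres i
      haveI : Module.Flat R ((ModuleCat.restrictScalars.{u} ψ).obj (P.X (i + 1)) ×
          (ModuleCat.restrictScalars.{u} ψ).obj (T.X i)) := FlatCx.flat_prod _ _
      exact Module.Flat.of_linearEquiv ((ModuleCat.restrictScalars.{u} ψ).mapIso
        (HomologicalComplex.homotopyCofiber.XIsoBiprod q i (i + 1) rfl) ≪≫
        (ModuleCat.restrictScalars.{u} ψ).mapBiprod _ _ ≪≫ ModuleCat.biprodIsoProd _ _).toLinearEquiv) hC p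
  haveI : QuasiIso ((DTen.extCx φ).map q) := quasiIso_of_cone_exact _ fun p =>
    (hext p).of_iso (mappingCone.mapHomologicalComplexIso q (ModuleCat.extendScalars.{u, u, u} φ))
  haveI : IsIso (DerivedCategory.Q.map ((DTen.extCx φ).map q)) := isIso_Q_map _ inferInstance
  let eT : DRing.toD ((DTen.extCx φ).obj T) ≅ (DRing.LBaseChange φ).obj (DRing.toD T) :=
    (asIso (DerivedCategory.Q.map ((DTen.extCx φ).map q))).symm ≪≫
      (lbcIso φ P (DRingLib.isKFlat_of_projective hPb hP)).symm ≪≫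
      (DRing.LBaseChange φ).mapIso (asIso (DerivedCategory.Q.map q))
  haveI h0 := flat_bottom (T := (DTen.extCx φ).obj T) (n := n) (fun i hi => isZero_extCx_X φ (hlow i hi))
    (fun i hi => isZero_extCx_X φ (hn i hi)) (fun i hi => flat_extend φ (hfl i hi)) (amp_of_iso eT.symm hfib)
  exact @Module.Flat.of_linearEquiv _ _ _ _ _ _ _ _ h0
    ((extQuotEquiv (m.map ψ) (T.X a)).trans (quotTensorEquivMod (m.map ψ) (T.X a))).symm

end Ring

section Scheme

variable {X Y S Z : Scheme.{u}}

/-- Tor amplitude over the base and on the fibre, for a complex over a local ring of the middle scheme. -/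
def FibK (g : Y ⟶ S) (a b : ℤ) (y : Y) (K : Dual.D (Y.presheaf.stalk y)) : Prop :=
  DRing.HasTorAmplitudeIn (S.presheaf.stalk (g.base y)) a b ((DRing.restrictD (g.stalkMap y).hom).obj K) ∧
    haveI := DRingLib.hasLBaseChange
      (Ideal.Quotient.mk ((IsLocalRing.maximalIdeal (S.presheaf.stalk (g.base y))).map (g.stalkMap y).hom))
    DRing.HasTorAmplitudeIn (Y.presheaf.stalk y ⧸ (IsLocalRing.maximalIdeal (S.presheaf.stalk (g.base y))).map
      (g.stalkMap y).hom) a b ((DRing.LBaseChange (Ideal.Quotient.mk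
        ((IsLocalRing.maximalIdeal (S.presheaf.stalk (g.base y))).map (g.stalkMap y).hom))).obj K)

theorem fibK_of_iso {g : Y ⟶ S} {a b : ℤ} {y : Y} {K L : Dual.D (Y.presheaf.stalk y)} (e : K ≅ L)
    (h : FibK g a b y K) : FibK g a b y L :=
  haveI := DRingLib.hasLBaseChange
    (Ideal.Quotient.mk ((IsLocalRing.maximalIdeal (S.presheaf.stalk (g.base y))).map (g.stalkMap y).hom))
  ⟨amp_of_iso ((DRing.restrictD _).mapIso e) h.1, amp_of_iso ((DRing.LBaseChange _).mapIso e) h.2⟩

/-- The hypotheses on the fibre at a point of a scheme over the middle scheme. -/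
def FibAt (g : Y ⟶ S) (a b : ℤ) (k : Z ⟶ Y) (G : CochainComplex Z.Modules ℤ) (z : Z) : Prop :=
  FibK g a b (k.base z) (DRing.toD ((DerSch.stalkCxOver k z).obj G))

theorem fibAt_hom_congr {g : Y ⟶ S} {a b : ℤ} {k k' : Z ⟶ Y} (e : k = k') {G : CochainComplex Z.Modules ℤ} {z : Z}
    (h : FibAt g a b k G z) : FibAt g a b k' G z := by
  subst e
  exact h

theorem fibAt_congr {g : Y ⟶ S} {a b : ℤ} {k : Z ⟶ Y} {G G' : CochainComplex Z.Modules ℤ}
    (e : DCoh.toD Z G ≅ DCoh.toD Z G') {z : Z} (h : FibAt g a b k G z) : FibAt g a b k G' z := by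
  obtain ⟨e'⟩ := nonempty_stalkCxOver_iso k z e
  exact fibK_of_iso e' h

theorem fibAt_open (j : Z ⟶ X) [IsOpenImmersion j] {g : Y ⟶ S} {a b : ℤ} (k : X ⟶ Y)
    {G : CochainComplex X.Modules ℤ} {z : Z} (h : FibAt g a b k G (j.base z)) :
    FibAt g a b (j ≫ k) ((resCx j).obj G) z :=
  fibK_of_iso (DerivedCategory.Q.mapIso (stalkCxOverOpenIso j k G z)).symm h

/-- Tor amplitude from the base and the fibre. -/
theorem amp_of_comp_fibre (f : X ⟶ Y) (g : Y ⟶ S) [LocallyOfFiniteType f] [Flat g] [LocallyOfFinitePresentation g]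
    (F : CochainComplex X.Modules ℤ) {a b : ℤ} [F.IsGE a] [F.IsLE b] (x : X)
    (hpc : DerSch.IsPseudoCoherentRel f (a - 1) (DCoh.toD X F)) (hfib : FibAt g a b f F x) :
    DerSch.HasTorAmplitudeAt f a b F x := by
  obtain ⟨U₁, V, hU₁, hV, hx, hle⟩ := exists_affine_pair f x
  obtain ⟨n, φ, hφ⟩ := exists_chart f hle (f.finiteType_appLE hV hU₁ hle)
  haveI := isClosedImmersion_emb hU₁ hφ.1
  let i := emb U₁ φ
  let g₀ := Spec.map (CommRingCat.ofHom (MvPolynomial.C : Γ(Y, V) →+* MvPolynomial (Fin n) Γ(Y, V))) ≫ hV.fromSpec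
  haveI : Smooth g₀ := smooth_affineSpace hV n
  have hig : i ≫ g₀ = U₁.ι ≫ f := by
    rw [← Category.assoc, emb_comp, hφ.2, emb, CommRingCat.ofHom_hom, Scheme.Opens.toSpecΓ_SpecMap_appLE,
      Category.assoc, IsAffineOpen.toSpecΓ_fromSpec, Scheme.Hom.resLE_comp_ι]
  let F₁ := (resCx U₁.ι).obj F
  let E := ((Scheme.Modules.pushforward i).mapHomologicalComplex (ComplexShape.up ℤ)).obj F₁
  haveI : PreservesLimitsOfSize.{0, 0} (Scheme.Modules.pushforward i) :=
    (Scheme.Modules.pullbackPushforwardAdjunction i).rightAdjoint_preservesLimits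
  haveI : PreservesFiniteLimits (Scheme.Modules.pushforward i) := inferInstance
  haveI : (Scheme.Modules.pushforward i).PreservesHomology :=
    Functor.preservesHomology_of_preservesEpis_and_kernels _
  haveI : CochainComplex.IsGE E a := (CochainComplex.isGE_iff _ _).2 fun q hq =>
    (HomologicalComplex.exactAt_iff _ _).2
      ((((HomologicalComplex.exactAt_iff _ _).1 ((CochainComplex.isGE_iff F a).1 inferInstance q hq)).map
        (Scheme.Modules.restrictFunctor U₁.ι)).map (Scheme.Modules.pushforward i))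
  have hE : DCoh.IsPseudoCoherentD (a - 1) (DCoh.toD _ E) := by
    have h1 : DerSch.IsPseudoCoherentRel (i ≫ g₀) (a - 1) (DCoh.toD _ F₁) := by
      rw [hig]
      exact rel_of_iso (U₁.ι ≫ f) (restrictDQ U₁.ι F) (rel_restrict U₁.ι f hpc)
    exact isPseudoCoherentD_iso (pushDQ i F₁) ((rel_closed_iff i _ _).1
      ((rel_comp_iff g₀ i (fun V' W h hV' hW => pcHom_appLE_of_flat g₀ hV' hW h) _ _).2 h1))
  let x₁ : U₁ := ⟨x, hx⟩
  obtain ⟨V₀, hy, hV₀⟩ := (isPseudoCoherentD_iff _ _).1 hE (i.base x₁)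
  obtain ⟨G, α, hG, -, hα⟩ := hV₀.exists_brutal
  obtain ⟨W, hW, β, hβ⟩ := exists_open_represent hG (α ≫ (restrictDQ V₀.ι E).hom) (⟨i.base x₁, hy⟩ : V₀)
  have hQ : DerivedCategory.Q.map β = (restrictDQ W.ι G).inv ≫
      (DCoh.restrictD W.ι).map (α ≫ (restrictDQ V₀.ι E).hom) ≫
        (restrictDQ W.ι ((resCx V₀.ι).obj E)).hom := by
    rw [hβ]
    simp [restrictDQ]
  have hm : MIso (a - 1) (DerivedCategory.Q.map β) := by
    rw [hQ]
    exact (mIso_of_isIso _ _).comp
      (((hα.comp (mIso_of_isIso _ _)).restrict W.ι).comp (mIso_of_isIso _ _))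
  let w : W := ⟨⟨i.base x₁, hy⟩, hW⟩
  let G₁ := (resCx W.ι).obj G
  have hG₁ : DCoh.IsStrictlyPerfect G₁ := isStrictlyPerfect_restrict W.ι hG
  let E₂ := (resCx W.ι).obj ((resCx V₀.ι).obj E)
  haveI : CochainComplex.IsGE E₂ a := by
    refine (CochainComplex.isGE_iff _ _).2 fun q hq => ?_
    have h := (HomologicalComplex.exactAt_iff _ _).1 ((CochainComplex.isGE_iff E a).1 inferInstance q hq)
    exact (HomologicalComplex.exactAt_iff _ _).2
      ((h.map (Scheme.Modules.restrictFunctor V₀.ι)).map (Scheme.Modules.restrictFunctor W.ι))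
  let h := W.ι ≫ V₀.ι ≫ g₀
  let T := CochainComplex.truncGE G₁ a
  haveI : IsIso (DerivedCategory.Q.map (CochainComplex.truncGEMap β a)) := by
    rw [DerivedCategory.isIso_Q_map_iff_quasiIso, CochainComplex.quasiIso_truncGEMap_iff]
    intro q hq
    rw [quasiIsoAt_iff_isIso_homologyMap]
    exact (map_homologyFunctor_Q β q).1.1 (((mIso_iff _ _).1 hm).1 q (by omega))
  haveI : IsIso (DerivedCategory.Q.map (E₂.πTruncGE a)) :=
    Localization.inverts DerivedCategory.Q (HomologicalComplex.quasiIso _ (ComplexShape.up ℤ)) _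
      ((HomologicalComplex.mem_quasiIso_iff _).2 ((CochainComplex.quasiIso_πTruncGE_iff E₂ a).2 inferInstance))
  let eT : DCoh.toD _ T ≅ DCoh.toD _ E₂ := asIso (DerivedCategory.Q.map (CochainComplex.truncGEMap β a)) ≪≫
    (asIso (DerivedCategory.Q.map (E₂.πTruncGE a))).symm
  obtain ⟨⟨c, d, hcd⟩, hGf⟩ := hG₁
  have hTlow : ∀ q, q < a → IsZero (T.X q) := fun q hq => CochainComplex.isZero_of_isStrictlyGE T a q hq
  have hThi : ∀ q, max a d < q → IsZero (T.X q) := fun q hq =>
    (hcd q (Or.inr (by omega))).of_iso (CochainComplex.truncGEXIso G₁ a q (by omega))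
  have hTf : ∀ q, a < q → FlatMod.IsFinLocFree (T.X q) := fun q hq =>
    isFinLocFree_iso (CochainComplex.truncGEXIso G₁ a q hq).symm (hGf q)
  have hqc := fun q => PullbackMod.isQCoh_and_isFP_of_isFinLocFree _ (hGf q)
  haveI := (hqc (a - 1)).1
  haveI := (hqc (a - 1)).2
  let eP : cokernel (G₁.d (a - 1) a) ≅ T.X a :=
    (colimit.isColimit _).coconePointUniqueUpToIso (G₁.opcyclesIsCokernel (a - 1) a (by simp)) ≪≫
      (CochainComplex.truncGEXIsoOpcycles G₁ a).symm
  haveI hTq : Coh.IsQCoh (T.X a) :=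
    isQCoh_of_iso' eP (QCohLib.isQCoh_image (G₁.d (a - 1) a) (hqc (a - 1)).1 (hqc a).1).2
  have hTp : CohB1.IsFP (T.X a) := DCohLib.isFP_iso eP (isFP_cokernel (G₁.d (a - 1) a) (hqc (a - 1)).1 (hqc a).1
    (inferInstanceAs (SheafOfModules.IsFiniteType (R := (W : Scheme.{u}).ringCatSheaf) (G₁.X (a - 1)))) (hqc a).2)
  have hfibT : FibAt g a b h T w := by
    have h1 : FibAt g a b (U₁.ι ≫ f) F₁ x₁ := fibAt_open U₁.ι f hfib
    have h2 : FibAt g a b g₀ E (i.base x₁) :=
      fibK_of_iso (DerivedCategory.Q.mapIso (stalkCxOverResIso g₀ (i.base x₁) E ≪≫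
        (DTen.resCx (g₀.stalkMap (i.base x₁)).hom).mapIso (pushStalkCxIso i x₁ F₁) ≪≫
          (stalkCxOverCompIso i g₀ x₁ F₁).symm)).symm (fibAt_hom_congr hig.symm h1)
    exact fibAt_congr eT.symm (fibAt_open W.ι (V₀.ι ≫ g₀) (z := w) (fibAt_open V₀.ι g₀ (z := ⟨i.base x₁, hy⟩) h2))
  let N := (DerSch.stalkCxOver h w).obj T
  let ψ := (g.stalkMap (h.base w)).hom
  let K₀ := IsLocalRing.maximalIdeal (S.presheaf.stalk (g.base (h.base w)))
  have hψ : ψ.Flat := Flat.stalkMap g (h.base w)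
  haveI := DRingLib.hasLBaseChange (Ideal.Quotient.mk (K₀.map ψ))
  have hR : DerSch.HasTorAmplitudeAt (h ≫ g) a b T w :=
    amp_of_iso ((DTen.resFactors ψ).app N ≪≫ DerivedCategory.Q.mapIso (stalkCxOverCompIso h g w T).symm) hfibT.1
  have hNlow : ∀ q, q < a → IsZero (N.X q) := fun q hq => (DerSch.stalkOver h w).map_isZero (hTlow q hq)
  have hNhi : ∀ q, max a d < q → IsZero (N.X q) := fun q hq => (DerSch.stalkOver h w).map_isZero (hThi q hq)
  have hNf : ∀ q, a < q → Module.Flat (Y.presheaf.stalk (h.base w)) (N.X q) := fun q hq =>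
    (DCohMore.isFlatOverAt_iff_stalkOver h _ w).1 (TildePerf.isFlatOver_of_isFinLocFree h (hTf q hq) w)
  have hflatS : FlatMod.IsFlatOverAt (h ≫ g) (T.X a) w := (DCohMore.isFlatOverAt_iff_stalkOver (h ≫ g) _ w).2 <|
    flat_bottom (T := (DerSch.stalkCxOver (h ≫ g) w).obj T) (n := max a d)
      (fun q hq => (DerSch.stalkOver (h ≫ g) w).map_isZero (hTlow q hq))
      (fun q hq => (DerSch.stalkOver (h ≫ g) w).map_isZero (hThi q hq))
      (fun q hq => (DCohMore.isFlatOverAt_iff_stalkOver (h ≫ g) _ w).1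
        (TildePerf.isFlatOver_of_isFinLocFree (h ≫ g) (hTf q hq) w)) hR
  have hflatY : FlatMod.IsFlatOverAt h (T.X a) w := by
    by_cases hnt : Nontrivial ↑((T.X a).presheaf.stalk w)
    · exact (((Groth.Agent.S1483.result h g (T.X a) hTq hTp w hnt).1
        ⟨hflatS, flat_bottom_fibre ψ hψ K₀ (n := max a d) hNlow hNhi hNf hfibT.1 hfibT.2⟩)).2
    · rw [DCohMore.isFlatOverAt_iff_stalkOver]
      haveI : Subsingleton ((DerSch.stalkOver h w).obj (T.X a)) := not_nontrivial_iff_subsingleton.1 hnt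
      infer_instance
  have hTamp : DerSch.HasTorAmplitudeAt h a (max a d) T w :=
    ⟨N, fun q hq => hq.elim (hNlow q) (hNhi q), fun q => by
      rcases lt_trichotomy q a with hq | rfl | hq
      · haveI := ModuleCat.subsingleton_of_isZero (hNlow q hq)
        infer_instance
      · exact (DCohMore.isFlatOverAt_iff_stalkOver h _ w).1 hflatY
      · exact hNf q hq, ⟨Iso.refl _⟩⟩
  have h1 : DerSch.HasTorAmplitudeAt g₀ a (max a d) E (i.base x₁) :=
    (hasTorAmplitudeAt_open_iff V₀.ι g₀ E a _ ⟨i.base x₁, hy⟩).1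
      ((hasTorAmplitudeAt_open_iff W.ι (V₀.ι ≫ g₀) _ a _ w).1 (hasTorAmplitudeAt_congr h eT hTamp))
  refine amp_top (n := max a d) ((hasTorAmplitudeAt_open_iff U₁.ι f F a _ x₁).1 ?_) fun q hq => ?_
  · show DerSch.HasTorAmplitudeAt (U₁.ι ≫ f) a (max a d) F₁ x₁
    rw [← hig]
    exact amp_of_iso (DerivedCategory.Q.mapIso (stalkCxOverResIso g₀ (i.base x₁) E ≪≫
      (DTen.resCx (g₀.stalkMap (i.base x₁)).hom).mapIso (pushStalkCxIso i x₁ F₁) ≪≫
        (stalkCxOverCompIso i g₀ x₁ F₁).symm)) h1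
  · exact ((DerSch.stalkOver f x).map_isZero ((HomologicalComplex.exactAt_iff_isZero_homology _ _).1
      ((CochainComplex.isLE_iff F b).1 inferInstance q (by omega)))).of_iso
      ((DerivedCategory.homologyFunctorFactors _ q).app _ ≪≫ (F.sc q).mapHomologyIso (DerSch.stalkOver f x))

end Scheme

end Groth.Agent.RelPCLib
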