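import Groth.Agent.RelPCLib.Tilde
import Groth.Agent.RelPCLib.Basic
import Groth.Agent.DCohMore.RpushAcyc
import Groth.Agent.DCohLib.OpenD
import Groth.Agent.PCHomLib.Rel
import Groth.Agent.S6984

/-!
# Relative pseudo-coherence and direct images along finite morphisms
-/

set_option autoImplicit false
set_option backward.isDefEq.respectTransparency false
set_option linter.style.haveILetI false
set_option linter.unusedSectionVars false
set_option maxHeartbeats 1000000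

universe u

open CategoryTheory CategoryTheory.Limits AlgebraicGeometry

attribute [local instance] HasDerivedCategory.standard

noncomputable section

namespace Groth.Agent.RelPCLib

open Groth.Agent.DCohLib

variable {X Y : Scheme.{u}} (π : X ⟶ Y) [IsAffineHom π] [DCoh.HasRpush π] {V : Y.Opens} (hV : IsAffineOpen V)

/-- Direct images along affine morphisms, on an affine open. -/
theorem nonempty_rpush_tilde {K : DCoh.D X} (M : Dual.D Γ(X, π ⁻¹ᵁ V))
    [PreservesFiniteLimits (tilde.functor (X.presheaf.obj (Opposite.op (π ⁻¹ᵁ V))))]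
    [PreservesFiniteLimits (tilde.functor (Y.presheaf.obj (Opposite.op V)))]
    (e : (DCoh.tildeD (X.presheaf.obj (Opposite.op (π ⁻¹ᵁ V)))).obj M ≅
      (pushD (hV.preimage π).isoSpec.hom).obj ((DCoh.restrictD (π ⁻¹ᵁ V).ι).obj K)) :
    Nonempty ((DCoh.tildeD (Y.presheaf.obj (Opposite.op V))).obj ((DRing.restrictD (π.app V).hom).obj M) ≅
      (pushD hV.isoSpec.hom).obj ((DCoh.restrictD V.ι).obj ((DCoh.Rpush π).obj K))) := by
  let U := π ⁻¹ᵁ V
  let sU := (hV.preimage π).isoSpec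
  let sV := hV.isoSpec
  haveI : IsAffine (V : Scheme.{u}) := hV
  haveI : IsAffine (U : Scheme.{u}) := hV.preimage π
  haveI : DCoh.HasRpush (π ∣_ V) := Groth.Agent.KInj.hasRightDerivedFunctor (DCohLib.hres_modules _) _
  obtain ⟨eR⟩ := nonempty_restrictD_rpush π V
  -- a model with quasi-coherent terms
  let E := DerivedCategory.Q.objPreimage M
  let T := (TildeRpush.tCx (CommRingCat.of Γ(X, U))).obj E
  let G := (resCx sU.hom).obj T
  have hG : ∀ n, Coh.IsQCoh (G.X n) := fun n => by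
    haveI : (T.X n).IsQuasicoherent :=
      inferInstanceAs (tilde (R := CommRingCat.of Γ(X, U)) (E.X n)).IsQuasicoherent
    exact Scheme.Modules.isQuasicoherent_restrictFunctor _ _
  obtain ⟨eI⟩ := nonempty_restrictD_pushInv sU.symm ((DCoh.restrictD U.ι).obj K)
  let eK : (DCoh.restrictD U.ι).obj K ≅ DerivedCategory.Q.obj G := by
    refine Iso.symm (((restrictDQ sU.hom T).symm ≪≫ (DCoh.restrictD sU.hom).mapIso
      ((TildePerf.tildeDQ E).symm ≪≫ (DCoh.tildeD (CommRingCat.of Γ(X, U))).mapIso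
        (DerivedCategory.Q.objObjPreimageIso M) ≪≫ e)) ≪≫ ?_)
    exact (nonempty_restrictD_pushInv sU ((pushD sU.hom).obj ((DCoh.restrictD U.ι).obj K))).some ≪≫
      (nonempty_pushD_comp sU.hom sU.inv (𝟙 _) sU.hom_inv_id ((DCoh.restrictD U.ι).obj K)).some ≪≫
      (nonempty_restrictD_pushInv (Iso.refl (U : Scheme.{u})) ((DCoh.restrictD U.ι).obj K)).some.symm ≪≫
      (restrictDId (U : Scheme.{u})).app _
  haveI : IsIso ((rpushUnit (π ∣_ V)).app ((quotM _).obj G)) :=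
    DCohMore.isIso_rpushUnit_app_acyclic _ _ hG fun n =>
      haveI := hG n
      DCohMore.isAcyclicFor_affine _ _
  let eP : (DCoh.Rpush (π ∣_ V)).obj (DerivedCategory.Q.obj G) ≅
      DerivedCategory.Q.obj (((Scheme.Modules.pushforward (π ∣_ V)).mapHomologicalComplex (ComplexShape.up ℤ)).obj G) :=
    (DCoh.Rpush (π ∣_ V)).mapIso ((DerivedCategory.quotientCompQhIso _).app G).symm ≪≫
      (asIso ((rpushUnit (π ∣_ V)).app ((quotM _).obj G))).symm ≪≫
      (DerivedCategory.quotientCompQhIso _).app _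
  -- the natural isomorphism on modules
  let φ := (π.app V).hom
  have hsq : (π ∣_ V) ≫ sV.hom = sU.hom ≫ Spec.map (CommRingCat.ofHom φ) := by
    rw [hV.isoSpec_hom, (hV.preimage π).isoSpec_hom]
    exact (Scheme.Opens.toSpecΓ_naturality π V).symm
  let β : tilde.functor (CommRingCat.of Γ(X, U)) ⋙ Scheme.Modules.restrictFunctor sU.hom ⋙ Scheme.Modules.pushforward (π ∣_ V) ⋙ Scheme.Modules.pushforward sV.hom ≅
      ModuleCat.restrictScalars φ ⋙ tilde.functor (CommRingCat.of Γ(Y, V)) :=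
    Functor.isoWhiskerLeft _ (Functor.isoWhiskerLeft _ (Scheme.Modules.pushforwardComp (π ∣_ V) sV.hom ≪≫
        Scheme.Modules.pushforwardCongr hsq ≪≫
          (Scheme.Modules.pushforwardComp sU.hom (Spec.map (CommRingCat.ofHom φ))).symm) ≪≫
      (Functor.associator _ _ _).symm ≪≫ Functor.isoWhiskerRight
        (Functor.isoWhiskerRight (restrictPushInv sU) _ ≪≫ Scheme.Modules.pushforwardComp sU.inv sU.hom ≪≫
          Scheme.Modules.pushforwardCongr sU.inv_hom_id ≪≫ Scheme.Modules.pushforwardId _) _ ≪≫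
      Functor.leftUnitor _) ≪≫ TildeRpush.tildePushIso φ
  let c : (pushC sV.hom).obj (((Scheme.Modules.pushforward (π ∣_ V)).mapHomologicalComplex (ComplexShape.up ℤ)).obj G) ≅
      (TildeRpush.tCx (CommRingCat.of Γ(Y, V))).obj
        (((ModuleCat.restrictScalars.{u} φ).mapHomologicalComplex (ComplexShape.up ℤ)).obj E) :=
    HomologicalComplex.Hom.isoOfComponents (fun q => β.app (E.X q))
      (fun p q _ => (β.hom.naturality (E.d p q)).symm)
  exact ⟨((pushD sV.hom).mapIso (eR.app K ≪≫ (DCoh.Rpush (π ∣_ V)).mapIso eK ≪≫ eP) ≪≫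
    pushDQ sV.hom _ ≪≫ DerivedCategory.Q.mapIso c ≪≫ (TildePerf.tildeDQ _).symm ≪≫
    (DCoh.tildeD (CommRingCat.of Γ(Y, V))).mapIso
      (((ModuleCat.restrictScalars.{u} φ).mapDerivedCategoryFactors.app E).symm ≪≫
        (DRing.restrictD φ).mapIso (DerivedCategory.Q.objObjPreimageIso M))).symm⟩

end Groth.Agent.RelPCLib

namespace Groth.Agent.RelPCLib

open Groth.Agent.DCohLib

open Groth.Agent.PCHomLib in
/-- The test along a finite morphism. -/
theorem test_finite_iff {X Y S : Scheme.{u}} (p : X ⟶ S) (q : Y ⟶ S) [LocallyOfFiniteType p] [LocallyOfFiniteType q]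
    (π : X ⟶ Y) [IsFinite π] (w : π ≫ q = p) [DCoh.HasRpush π] {m : ℤ} {E : DCoh.D X} (hE : DCoh.IsQCohD E)
    {W : Y.Opens} (hW : IsAffineOpen W) {V : S.Opens} (hV : IsAffineOpen V) (hq : W ≤ q ⁻¹ᵁ V)
    (hp : π ⁻¹ᵁ W ≤ p ⁻¹ᵁ V) :
    Test p m E (π ⁻¹ᵁ W) V hp ↔ Test q m ((DCoh.Rpush π).obj E) W V hq := by
  subst w
  haveI := TildeD.preservesFiniteLimits_tilde (R := X.presheaf.obj (Opposite.op (π ⁻¹ᵁ W)))
  haveI := TildeD.preservesFiniteLimits_tilde (R := Y.presheaf.obj (Opposite.op W))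
  have hU : IsAffineOpen (π ⁻¹ᵁ W) := hW.preimage π
  let G := DerivedCategory.Q.objPreimage E
  let eG : DCoh.toD X G ≅ E := DerivedCategory.Q.objObjPreimageIso E
  obtain ⟨M, ⟨eM⟩⟩ := exists_tilde_model hE hU G eG
  let e := eM ≪≫ ((pushD hU.isoSpec.hom).mapIso ((DCoh.restrictD (π ⁻¹ᵁ W).ι).mapIso eG.symm ≪≫
    restrictDQ (π ⁻¹ᵁ W).ι G) ≪≫ pushDQ hU.isoSpec.hom _).symm
  obtain ⟨e'⟩ := nonempty_rpush_tilde π hW M e
  obtain ⟨n, φ, hφ⟩ := exists_chart (π ≫ q) hp ((π ≫ q).finiteType_appLE hV hU hp)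
  obtain ⟨k, ψ, hψ⟩ := exists_chart q hq (q.finiteType_appLE hV hW hq)
  rw [test_iff_of_chart _ hU hφ, test_iff_of_chart _ hW hψ, cpc_iff_pc' hU hφ.1 E M e,
    cpc_iff_pc' hW hψ.1 _ _ e']
  letI : Algebra Γ(S, V) Γ(X, π ⁻¹ᵁ W) := ((π ≫ q).appLE V (π ⁻¹ᵁ W) hp).hom.toAlgebra
  letI : Algebra Γ(S, V) Γ(Y, W) := (q.appLE V W hq).hom.toAlgebra
  letI : Algebra Γ(Y, W) Γ(X, π ⁻¹ᵁ W) := (π.app W).hom.toAlgebra
  haveI : IsScalarTower Γ(S, V) Γ(Y, W) Γ(X, π ⁻¹ᵁ W) := .of_algebraMap_eq' (by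
    show ((π ≫ q).appLE V (π ⁻¹ᵁ W) hp).hom = (q.appLE V W hq ≫ π.app W).hom
    rw [Scheme.Hom.app_eq_appLE, Scheme.Hom.appLE_comp_appLE])
  haveI : Module.Finite Γ(Y, W) Γ(X, π ⁻¹ᵁ W) := IsFinite.finite_app (f := π) W hW
  haveI : Algebra.FiniteType Γ(S, V) Γ(Y, W) := q.finiteType_appLE hV hW hq
  haveI : Algebra.FiniteType Γ(S, V) Γ(X, π ⁻¹ᵁ W) := (π ≫ q).finiteType_appLE hV hU hp
  exact ((rel_iff φ hφ.1 hφ.2 m M).symm.trans
    (Groth.Agent.S6984.result (R := Γ(S, V)) (A := Γ(Y, W)) (B := Γ(X, π ⁻¹ᵁ W)) M m).1).trans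
    (rel_iff ψ hψ.1 hψ.2 m ((DRing.restrictD (π.app W).hom).obj M))

theorem rel_finite_iff {X Y S : Scheme.{u}} (p : X ⟶ S) (q : Y ⟶ S) [LocallyOfFiniteType p] [LocallyOfFiniteType q]
    (π : X ⟶ Y) [IsFinite π] (w : π ≫ q = p) [DCoh.HasRpush π] {m : ℤ} {E : DCoh.D X} (hE : DCoh.IsQCohD E) :
    DerSch.IsPseudoCoherentRel p m E ↔ DerSch.IsPseudoCoherentRel q m ((DCoh.Rpush π).obj E) := by
  have hle : ∀ {W : Y.Opens} {V : S.Opens}, W ≤ q ⁻¹ᵁ V → π ⁻¹ᵁ W ≤ p ⁻¹ᵁ V := fun h => by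
    subst w
    exact π.preimage_mono h
  constructor
  · intro h
    refine rel_of_test q fun y => ?_
    obtain ⟨W, V, hW, hV, hy, hq⟩ := exists_affine_pair q y
    exact ⟨W, V, hq, hW, hV, hy, (test_finite_iff p q π w hE hW hV hq (hle hq)).1
      (test_of_rel p h (hW.preimage π) hV (hle hq))⟩
  · intro h
    refine rel_of_test p fun x => ?_
    obtain ⟨W, V, hW, hV, hy, hq⟩ := exists_affine_pair q (π.base x)
    exact ⟨π ⁻¹ᵁ W, V, hle hq, hW.preimage π, hV, hy, (test_finite_iff p q π w hE hW hV hq (hle hq)).2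
      (test_of_rel q h hW hV hq)⟩

end Groth.Agent.RelPCLib
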