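import Groth.Agent.RelPCLib.Ascend
import Groth.Agent.S6984
import Groth.Agent.DRingLib.FlatBC
import Groth.Agent.DRingLib.Approx

/-!
# Descent of relative pseudo-coherence along finite locally free surjections
-/

set_option autoImplicit false
set_option backward.isDefEq.respectTransparency false
set_option linter.style.haveILetI false
set_option linter.unusedSectionVars false
set_option maxHeartbeats 1000000

universe u

open CategoryTheory CategoryTheory.Limits CategoryTheory.MonoidalCategory CategoryTheory.Pretriangulated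
attribute [local instance] HasDerivedCategory.standard

noncomputable section

namespace Groth.Agent.RelPCLib

open Groth.Agent.DRingLib Groth.Agent.DCohLib Groth.Agent.DTenLib Groth.Agent.PCHomLib

/-- A faithfully flat finite projective algebra has a linear retraction. -/
theorem exists_retraction (A B : Type u) [CommRing A] [CommRing B] [Algebra A B] [Module.Finite A B]
    [Module.Projective A B] [Module.FaithfullyFlat A B] : ∃ r : B →ₗ[A] A, r 1 = 1 := by
  let ev : (B →ₗ[A] A) →ₗ[A] A := LinearMap.applyₗ 1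
  suffices LinearMap.range ev = ⊤ by
    obtain ⟨r, hr⟩ := LinearMap.range_eq_top.1 this 1
    exact ⟨r, hr⟩
  by_contra hne
  obtain ⟨m, hm, hle⟩ := Ideal.exists_le_maximal (LinearMap.range ev) hne
  obtain ⟨n, f, g, -, -, hfg⟩ := Module.Finite.exists_comp_eq_id_of_projective A B
  refine Module.FaithfullyFlat.submodule_ne_top (M := B) hm ?_
  have h1 : (1 : B) ∈ m • (⊤ : Submodule A B) := by
    rw [← show f (g 1) = (1 : B) from LinearMap.congr_fun hfg 1, LinearMap.pi_apply_eq_sum_univ f]
    refine Submodule.sum_mem _ fun i _ => Submodule.smul_mem_smul ?_ trivial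
    exact hle ⟨(LinearMap.proj i).comp g, rfl⟩
  rw [Ideal.smul_top_eq_map] at h1 ⊢
  rw [(Ideal.eq_top_iff_one _).2 (Submodule.restrictScalars_mem A _ _ |>.1 h1), Submodule.restrictScalars_top]

/-- Retracts inherit approximations. -/
theorem pc_of_retract {A : Type u} [CommRing A] {K L : Dual.D A} (h : Retract K L) {m : ℤ}
    (hL : PC FFree m L) : PC FFree m K := by
  obtain ⟨Z, p, δ, hT⟩ := Pretriangulated.distinguished_cocone_triangle h.i
  have h0 : δ = 0 := by
    haveI : Mono (h.i⟦(1 : ℤ)⟧') := by
      haveI : Mono h.i := SplitMono.mono { retraction := h.r, id := h.retract }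
      exact (CategoryTheory.shiftFunctor (Dual.D A) (1 : ℤ)).map_mono h.i
    rw [← cancel_mono (h.i⟦(1 : ℤ)⟧'), zero_comp]
    exact comp_distTriang_mor_zero₃₁ _ hT
  obtain ⟨e, -, -⟩ := exists_iso_binaryBiproduct_of_distTriang _ hT h0
  exact (PC.summands projClass_fFree (hL.of_iso e)).1

variable {C D : Type u} [CommRing C] [CommRing D] [Algebra C D]

/-- An object is a retract of the restriction of its base change. -/
theorem nonempty_retract_lbc [Module.Flat C D] (r : D →ₗ[C] C) (hr : r 1 = 1)
    [DRing.HasLBaseChange (algebraMap C D)] (M : Dual.D C) :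
    Nonempty (Retract M ((DRing.restrictD (algebraMap C D)).obj ((DRing.LBaseChange (algebraMap C D)).obj M))) := by
  let φ := algebraMap C D
  let E := DerivedCategory.Q.objPreimage M
  let eE : DRing.toD E ≅ M := DerivedCategory.Q.objObjPreimageIso M
  let l : 𝟙_ (ModuleCat.{u} C) ⟶ ModuleCat.of C D := ModuleCat.ofHom (Algebra.linearMap C D)
  let l' : ModuleCat.of C D ⟶ 𝟙_ (ModuleCat.{u} C) := ModuleCat.ofHom r
  let j : baseMod φ ≅ ModuleCat.of C D :=
    LinearEquiv.toModuleIso (X₁ := baseMod φ) (X₂ := D) (baseModEquiv C D)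
  let η : 𝟙_ (ModuleCat.{u} C) ⟶ baseMod φ := l ≫ j.inv
  let ρ : baseMod φ ⟶ 𝟙_ (ModuleCat.{u} C) := j.hom ≫ l'
  have hl : l ≫ l' = 𝟙 _ := ModuleCat.hom_ext (LinearMap.ext_ring
    ((congrArg r (map_one (algebraMap C D))).trans hr))
  have hηρ : η ≫ ρ = 𝟙 _ := by simp [η, ρ, hl]
  have hT : tensMap η E ≫ tensMap ρ E = 𝟙 _ := by
    ext n : 1
    show η ▷ E.X n ≫ ρ ▷ E.X n = 𝟙 _
    rw [← MonoidalCategory.comp_whiskerRight, hηρ, MonoidalCategory.id_whiskerRight]
  let R₀ : Retract (DRing.toD ((tensM (𝟙_ (ModuleCat.{u} C))).obj E)) (DRing.toD ((tensM (baseMod φ)).obj E)) :=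
    { i := DerivedCategory.Q.map (tensMap η E)
      r := DerivedCategory.Q.map (tensMap ρ E)
      retract := by rw [← Functor.map_comp, hT]; exact DerivedCategory.Q.map_id _ }
  let e1 : (DRing.restrictD φ).obj ((DRing.LBaseChange φ).obj M) ≅ DRing.toD ((tensM (baseMod φ)).obj E) :=
    (DRing.restrictD φ).mapIso ((DRing.LBaseChange φ).mapIso eE.symm ≪≫ lbcIsoOfFlat φ (flat_baseMod C D) E) ≪≫
      (ModuleCat.restrictScalars.{u} φ).mapDerivedCategoryFactors.app _ ≪≫
      DerivedCategory.Q.mapIso ((NatIso.mapHomologicalComplex (extResIso φ) (ComplexShape.up ℤ)).app E)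
  let e0 : M ≅ DRing.toD ((tensM (𝟙_ (ModuleCat.{u} C))).obj E) :=
    eE.symm ≪≫ DerivedCategory.Q.mapIso (tensUnitIso E).symm
  exact ⟨(Retract.ofIso e0).trans (R₀.trans (Retract.ofIso e1.symm))⟩

/-- Relative pseudo-coherence descends along finite faithfully flat maps of finite presentation. -/
theorem rel_descend_finite {R : Type u} [CommRing R] [Algebra R C] [Algebra R D] [IsScalarTower R C D]
    [Algebra.FiniteType R C] [Module.Finite C D] [Module.Projective C D] [Module.FaithfullyFlat C D]
    [DRing.HasLBaseChange (algebraMap C D)] {M : Dual.D C} {m : ℤ}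
    (h : DerCA.IsRelPseudoCoherent R D m ((DRing.LBaseChange (algebraMap C D)).obj M)) :
    DerCA.IsRelPseudoCoherent R C m M := by
  haveI : Algebra.FiniteType R D := Algebra.FiniteType.trans (S := C) inferInstance inferInstance
  have h1 := (Groth.Agent.S6984.result (R := R) (A := C) (B := D) _ m).1.1 h
  obtain ⟨n, φ, hφ, hc⟩ := exists_presentation (A := R) (B := C)
  obtain ⟨r, hr⟩ := exists_retraction C D
  obtain ⟨hret⟩ := nonempty_retract_lbc r hr M
  rw [rel_iff φ hφ hc] at h1 ⊢
  exact pc_of_retract (hret.map (DRing.restrictD φ)) h1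

end Groth.Agent.RelPCLib
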