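import Groth.Agent.RelPCLib.FppfDescent
import Groth.Agent.ProjCoh.PSData
import Groth.Agent.PerfMorLib.Stalk
import Groth.Agent.FppfSrc.Scheme

/-!
# fppf locality of pseudo-coherent and perfect morphisms on the source
-/

set_option autoImplicit false
set_option backward.isDefEq.respectTransparency false
set_option linter.style.haveILetI false
set_option linter.unusedSectionVars false
set_option maxHeartbeats 1000000

universe u

open CategoryTheory CategoryTheory.Limits AlgebraicGeometry TopologicalSpace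

attribute [local instance] HasDerivedCategory.standard

noncomputable section

namespace Groth.Agent.RelPCLib

open Groth.Agent.DCohLib Groth.Agent.PCHomLib Groth.Agent.PerfMorLib

variable {X X' S : Scheme.{u}} (f : X ⟶ S)

/-- The structure sheaf in degree zero. -/
abbrev unitD (X : Scheme.{u}) : DCoh.D X := DCoh.inD X (Coh.structureModule X)

theorem isQCohD_unitD (X : Scheme.{u}) : DCoh.IsQCohD (unitD X) := by
  haveI : Coh.IsQCoh (Coh.structureModule X) := CohBase.isQCoh_structureModule
  intro i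
  by_cases hi : i = 0
  · subst hi
    exact isQCoh_of_iso' ((DerivedCategory.singleFunctorCompHomologyFunctorIso X.Modules 0).app _).symm ‹Coh.IsQCoh (Coh.structureModule X)›
  · exact isQCoh_of_isZero' (isZero_HD_inD _ hi)

theorem isPseudoCoherentMor_of_rel [LocallyOfFiniteType f]
    (h : ∀ c, DerSch.IsPseudoCoherentRel f c (unitD X)) : MoreMor.IsPseudoCoherentMor f := by
  intro U V hU hV e
  letI := (f.appLE V U e).hom.toAlgebra
  refine isPseudoCoherentHom_iff.2 (pcHom_appLE_of_rel f (fun c => rel_of_iso f ?_ (h c)) hU hV e)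
  exact (DerivedCategory.singleFunctorIsoCompQ X.Modules 0).app (Coh.structureModule X)

theorem pcHom_appLE_of_mor (h : MoreMor.IsPseudoCoherentMor f) {U : X.Opens} (hU : IsAffineOpen U)
    {V : S.Opens} (hV : IsAffineOpen V) (e : U ≤ f ⁻¹ᵁ V) : PCHom (f.appLE V U e).hom := by
  letI := (f.appLE V U e).hom.toAlgebra
  exact isPseudoCoherentHom_iff.1 (h U V hU hV e)

theorem rel_of_isPseudoCoherentMor (h : MoreMor.IsPseudoCoherentMor f) (c : ℤ) :
    DerSch.IsPseudoCoherentRel f c (unitD X) := by
  haveI : LocallyOfFiniteType f := HasRingHomProperty.iff_appLE.2 fun {V U} e =>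
    (pcHom_appLE_of_mor f h U.2 V.2 e).finiteType
  refine rel_of_cpc f fun U V hle hU hV n φ hφ => (cpc_structure_iff hU hφ.1).2 ?_
  exact (DRingLib.pcMap_iff φ).1 ((pcHom_appLE_of_mor f h hU hV hle).pcMap_fin φ hφ.1 hφ.2) c |>
    (pcAt_iff φ).2

/-- fppf descent of pseudo-coherence of morphisms. -/
theorem isPseudoCoherentMor_of_fppf (a : X' ⟶ X) [Flat a] [Surjective a] [LocallyOfFinitePresentation a]
    (h : MoreMor.IsPseudoCoherentMor (a ≫ f)) : MoreMor.IsPseudoCoherentMor f := by
  haveI : LocallyOfFiniteType (a ≫ f) := (rel_of_isPseudoCoherentMor _ h 0).1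
  haveI : LocallyOfFiniteType f := FppfSrc.locallyOfFiniteType_of_precomp_fppf a f
  refine isPseudoCoherentMor_of_rel f fun c => ?_
  refine rel_of_fppf_cover f (ι := PUnit.{u+1}) (fun _ => a)
    (fun x => ⟨⟨⟩, a.surjective x⟩) (isQCohD_unitD X) fun _ => ?_
  exact rel_of_iso _ (((Scheme.Modules.pullback a).mapDerivedCategorySingleFunctor 0).app _ ≪≫
    (DerivedCategory.singleFunctor X'.Modules 0).mapIso (ProjCoh.pullUnit a)).symm
    (rel_of_isPseudoCoherentMor _ h c)

theorem isPseudoCoherentMor_of_flat_fp (a : X' ⟶ X) [Flat a] [LocallyOfFinitePresentation a] :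
    MoreMor.IsPseudoCoherentMor a := by
  intro U V hU hV e
  letI := (a.appLE V U e).hom.toAlgebra
  exact isPseudoCoherentHom_iff.2 (pcHom_appLE_of_flat a hU hV e)

/-- fppf descent of perfectness of morphisms. -/
theorem isPerfectMor_of_fppf (a : X' ⟶ X) [Flat a] [Surjective a] [LocallyOfFinitePresentation a]
    (h : MoreMor.IsPerfectMor (a ≫ f)) : MoreMor.IsPerfectMor f := by
  have hpc : MoreMor.IsPseudoCoherentMor (a ≫ f) := fun U V hU hV e => (h U V hU hV e).1
  rw [isPerfectMor_iff_stalks f (isPseudoCoherentMor_of_fppf f a hpc)]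
  intro x
  obtain ⟨x', rfl⟩ := a.surjective x
  obtain ⟨d, hd⟩ := (isPerfectMor_iff_stalks (a ≫ f) hpc).1 h x'
  letI := (a.stalkMap x').hom.toAlgebra
  haveI : Module.Flat (X.presheaf.stalk (a x')) (X'.presheaf.stalk x') := Flat.stalkMap a x'
  haveI : IsLocalHom (algebraMap (X.presheaf.stalk (a x')) (X'.presheaf.stalk x')) :=
    inferInstanceAs (IsLocalHom (a.stalkMap x').hom)
  haveI : Module.FaithfullyFlat (X.presheaf.stalk (a x')) (X'.presheaf.stalk x') :=
    Module.FaithfullyFlat.of_flat_of_isLocalHom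
  refine ⟨d, tdle_of_ffFamily (DRingLib.ffFamily_single (A := X.presheaf.stalk (a x')) (B := X'.presheaf.stalk x')) _ fun _ => ?_⟩
  rw [Scheme.Hom.stalkMap_comp] at hd
  exact hd

end Groth.Agent.RelPCLib
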