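import Groth.Agent.RelPCLib.TorIndep
import Groth.Agent.RelPCLib.Mor

/-!
# Pseudo-coherence of base changes between flat schemes over a base, and of products
-/

set_option autoImplicit false
set_option backward.isDefEq.respectTransparency false
set_option linter.style.haveILetI false
set_option linter.unusedSectionVars false
set_option maxHeartbeats 1000000

universe u

open CategoryTheory CategoryTheory.Limits AlgebraicGeometry TopologicalSpace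

attribute [local instance] HasDerivedCategory.standard

noncomputable section

namespace Groth.Agent.RelPCLib

open Groth.Agent.DCohLib Groth.Agent.PCHomLib

/-- Base change of a pseudo-coherent morphism between flat schemes over the base. -/
theorem isPseudoCoherentMor_baseChange_flatOver {S T Y₂ X₂ Y W : Scheme.{u}} {q₁ : T ⟶ S} {q₂ : Y₂ ⟶ S}
    {pT : Y ⟶ T} {pY₂ : Y ⟶ Y₂} (hY : IsPullback pT pY₂ q₁ q₂) {f₂ : X₂ ⟶ Y₂} {g' : W ⟶ X₂} {b : W ⟶ Y}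
    (hW : IsPullback g' b f₂ pY₂) [Flat q₂] [Flat (f₂ ≫ q₂)] (hf : MoreMor.IsPseudoCoherentMor f₂) :
    MoreMor.IsPseudoCoherentMor b := by
  rw [HasRingHomProperty.iff_exists_appLE (P := fun {X Y : Scheme.{u}} (f : X ⟶ Y) =>
    MoreMor.IsPseudoCoherentMor f) pcHom_sourceAway]
  intro w
  obtain ⟨V, V₂, V₁, hV, hV₂, hV₁, e₂, e₁, hw₂, hw₁⟩ := PullbackMod.exists_affines hY.flip (b w)
  obtain ⟨hVy, hpo⟩ := PullbackMod.isPushout_appLE hY.flip hV hV₂ hV₁ e₂ e₁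
  let Vy := pY₂ ⁻¹ᵁ V₂ ⊓ pT ⁻¹ᵁ V₁
  have hg : g' w ∈ f₂ ⁻¹ᵁ V₂ := by
    show f₂ (g' w) ∈ V₂
    rw [← Scheme.Hom.comp_apply, hW.w, Scheme.Hom.comp_apply]
    exact hw₂
  obtain ⟨_, ⟨U₂ : X₂.Opens, hU₂, rfl⟩, hwU₂, hUV₂⟩ :=
    X₂.isBasis_affineOpens.exists_subset_of_mem_open (a := g' w) hg (f₂ ⁻¹ᵁ V₂).isOpen
  have eU : U₂ ≤ f₂ ⁻¹ᵁ V₂ := hUV₂
  have eV : Vy ≤ pY₂ ⁻¹ᵁ V₂ := inf_le_left
  obtain ⟨hU, hpo'⟩ := PullbackMod.isPushout_appLE hW hV₂ hU₂ hVy eU eV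
  let U := g' ⁻¹ᵁ U₂ ⊓ b ⁻¹ᵁ Vy
  refine ⟨⟨Vy, hVy⟩, ⟨U, hU⟩, ⟨hwU₂, hw₂, hw₁⟩, inf_le_right, ?_⟩
  have eUV : U₂ ≤ (f₂ ≫ q₂) ⁻¹ᵁ V := eU.trans (f₂.preimage_mono e₂)
  letI : Algebra Γ(S, V) Γ(Y₂, V₂) := (q₂.appLE V V₂ e₂).hom.toAlgebra
  letI : Algebra Γ(S, V) Γ(T, V₁) := (q₁.appLE V V₁ e₁).hom.toAlgebra
  letI : Algebra Γ(Y₂, V₂) Γ(Y, Vy) := (pY₂.appLE V₂ Vy inf_le_left).hom.toAlgebra
  letI : Algebra Γ(T, V₁) Γ(Y, Vy) := (pT.appLE V₁ Vy inf_le_right).hom.toAlgebra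
  letI : Algebra Γ(S, V) Γ(Y, Vy) :=
    ((pY₂.appLE V₂ Vy inf_le_left).hom.comp (q₂.appLE V V₂ e₂).hom).toAlgebra
  letI : Algebra Γ(Y₂, V₂) Γ(X₂, U₂) := (f₂.appLE V₂ U₂ eU).hom.toAlgebra
  letI : Algebra Γ(X₂, U₂) Γ(W, U) := (g'.appLE U₂ U inf_le_left).hom.toAlgebra
  letI : Algebra Γ(Y, Vy) Γ(W, U) := (b.appLE Vy U inf_le_right).hom.toAlgebra
  letI : Algebra Γ(Y₂, V₂) Γ(W, U) :=
    ((g'.appLE U₂ U inf_le_left).hom.comp (f₂.appLE V₂ U₂ eU).hom).toAlgebra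
  letI : Algebra Γ(S, V) Γ(X₂, U₂) := ((f₂ ≫ q₂).appLE V U₂ eUV).hom.toAlgebra
  letI : Algebra Γ(S, V) Γ(W, U) :=
    ((algebraMap Γ(Y₂, V₂) Γ(W, U)).comp (algebraMap Γ(S, V) Γ(Y₂, V₂))).toAlgebra
  haveI : IsScalarTower Γ(S, V) Γ(Y₂, V₂) Γ(Y, Vy) := .of_algebraMap_eq fun _ => rfl
  haveI : IsScalarTower Γ(S, V) Γ(T, V₁) Γ(Y, Vy) := .of_algebraMap_eq' (by
    show ((q₂.appLE V V₂ e₂) ≫ pY₂.appLE V₂ Vy inf_le_left).hom =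
      ((q₁.appLE V V₁ e₁) ≫ pT.appLE V₁ Vy inf_le_right).hom
    simp only [Scheme.Hom.appLE_comp_appLE, hY.w])
  haveI : IsScalarTower Γ(Y₂, V₂) Γ(X₂, U₂) Γ(W, U) := .of_algebraMap_eq fun _ => rfl
  haveI : IsScalarTower Γ(Y₂, V₂) Γ(Y, Vy) Γ(W, U) := .of_algebraMap_eq' (by
    show ((f₂.appLE V₂ U₂ eU) ≫ g'.appLE U₂ U inf_le_left).hom =
      ((pY₂.appLE V₂ Vy inf_le_left) ≫ b.appLE Vy U inf_le_right).hom
    simp only [Scheme.Hom.appLE_comp_appLE, hW.w])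
  haveI : IsScalarTower Γ(S, V) Γ(Y₂, V₂) Γ(X₂, U₂) := .of_algebraMap_eq' (by
    show ((f₂ ≫ q₂).appLE V U₂ eUV).hom = ((q₂.appLE V V₂ e₂) ≫ f₂.appLE V₂ U₂ eU).hom
    rw [Scheme.Hom.appLE_comp_appLE])
  haveI : Algebra.IsPushout Γ(S, V) Γ(T, V₁) Γ(Y₂, V₂) Γ(Y, Vy) := hpo
  haveI : Algebra.IsPushout Γ(Y₂, V₂) Γ(Y, Vy) Γ(X₂, U₂) Γ(W, U) := hpo'
  haveI : Module.Flat Γ(S, V) Γ(Y₂, V₂) := q₂.flat_appLE hV hV₂ e₂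
  haveI : Module.Flat Γ(S, V) Γ(X₂, U₂) := (f₂ ≫ q₂).flat_appLE hV hU₂ eUV
  exact pcHom_of_isPushout_flat (R := Γ(S, V)) (R' := Γ(T, V₁)) (B := Γ(Y₂, V₂)) (B' := Γ(Y, Vy))
    (C := Γ(X₂, U₂)) (C' := Γ(W, U))
    (pcHom_appLE_of_mor f₂ hf hU₂ hV₂ eU)

theorem isPseudoCoherentMor_of_nPseudoCoherent {X Y : Scheme.{u}} (f : X ⟶ Y) [LocallyOfFiniteType f]
    (h : ∀ n : ℤ, DerSch.IsNPseudoCoherent f n) : MoreMor.IsPseudoCoherentMor f :=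
  isPseudoCoherentMor_of_rel f fun c =>
    rel_of_iso f ((DerivedCategory.singleFunctorIsoCompQ X.Modules 0).app (Coh.structureModule X)).symm (h c)

theorem nPseudoCoherent_of_isPseudoCoherentMor {X Y : Scheme.{u}} (f : X ⟶ Y)
    (h : MoreMor.IsPseudoCoherentMor f) (n : ℤ) : DerSch.IsNPseudoCoherent f n :=
  rel_of_iso f ((DerivedCategory.singleFunctorIsoCompQ X.Modules 0).app (Coh.structureModule X))
    (rel_of_isPseudoCoherentMor f h n)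

/-- Products of pseudo-coherent morphisms over a base, the second factor flat. -/
theorem isPseudoCoherentMor_prod {S X₁ Y₁ X₂ Y₂ X Y : Scheme.{u}} (f₁ : X₁ ⟶ Y₁) (q₁ : Y₁ ⟶ S)
    (f₂ : X₂ ⟶ Y₂) (q₂ : Y₂ ⟶ S) [Flat q₂] [Flat (f₂ ≫ q₂)]
    {pX₁ : X ⟶ X₁} {pX₂ : X ⟶ X₂} (hX : IsPullback pX₁ pX₂ (f₁ ≫ q₁) (f₂ ≫ q₂))
    {pY₁ : Y ⟶ Y₁} {pY₂ : Y ⟶ Y₂} (hY : IsPullback pY₁ pY₂ q₁ q₂)
    (f : X ⟶ Y) (hf₁ : f ≫ pY₁ = pX₁ ≫ f₁) (hf₂ : f ≫ pY₂ = pX₂ ≫ f₂)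
    (h₁ : MoreMor.IsPseudoCoherentMor f₁) (h₂ : MoreMor.IsPseudoCoherentMor f₂) :
    MoreMor.IsPseudoCoherentMor f := by
  let r₁ := pullback.fst q₁ (f₂ ≫ q₂)
  let r₂ := pullback.snd q₁ (f₂ ≫ q₂)
  have hr : IsPullback r₁ r₂ q₁ (f₂ ≫ q₂) := IsPullback.of_hasPullback _ _
  let a : X ⟶ pullback q₁ (f₂ ≫ q₂) :=
    pullback.lift (pX₁ ≫ f₁) pX₂ (by rw [Category.assoc]; exact hX.w)
  have ha1 : a ≫ r₁ = pX₁ ≫ f₁ := pullback.lift_fst _ _ _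
  have ha2 : a ≫ r₂ = pX₂ := pullback.lift_snd _ _ _
  let b : pullback q₁ (f₂ ≫ q₂) ⟶ Y :=
    hY.lift r₁ (r₂ ≫ f₂) (by rw [Category.assoc]; exact hr.w)
  have hb1 : b ≫ pY₁ = r₁ := hY.lift_fst _ _ _
  have hb2 : b ≫ pY₂ = r₂ ≫ f₂ := hY.lift_snd _ _ _
  have hab : a ≫ b = f := hY.hom_ext
    (by rw [Category.assoc, hb1, ha1, hf₁]) (by rw [Category.assoc, hb2, reassoc_of% ha2, hf₂])
  have sq1 : IsPullback pX₁ a f₁ r₁ := by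
    have s : IsPullback (a ≫ r₂) pX₁ (f₂ ≫ q₂) (f₁ ≫ q₁) := by
      rw [ha2]
      exact hX.flip
    exact (IsPullback.of_right s ha1 hr.flip).flip
  have sq2 : IsPullback r₂ b f₂ pY₂ := by
    refine IsPullback.of_bot (h₁₁ := r₂) ?_ hb2.symm hY.flip
    rw [hb1]
    exact hr.flip
  haveI : Flat r₁ := MorphismProperty.of_isPullback hr.flip inferInstance
  rw [← hab]
  exact isPseudoCoherentMor_comp a b (isPseudoCoherentMor_of_flat_baseChange sq1 h₁)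
    (isPseudoCoherentMor_baseChange_flatOver hY sq2 h₂)

end Groth.Agent.RelPCLib
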