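import Groth.Agent.RelPCLib.Algebraic
import Groth.Agent.RelPCLib.FiniteDescent
import Groth.Agent.FppfRefineLib.Basic

/-!
# fppf locality of relative pseudo-coherence on the source
-/

set_option autoImplicit false
set_option backward.isDefEq.respectTransparency false
set_option linter.style.haveILetI false
set_option linter.unusedSectionVars false
set_option maxHeartbeats 1000000

universe u

open CategoryTheory CategoryTheory.Limits AlgebraicGeometry TopologicalSpace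

attribute [local instance] HasDerivedCategory.standard

noncomputable section

namespace Groth.Agent.RelPCLib

open Groth.Agent.DCohLib Groth.Agent.PCHomLib

variable {X Y Z S : Scheme.{u}}

theorem nonempty_pullD_comp (t : Z ⟶ Y) [Flat t] (q : Y ⟶ X) [Flat q] (K : DCoh.D X) :
    Nonempty ((pullD t).obj ((pullD q).obj K) ≅ (pullD (t ≫ q)).obj K) := by
  let F := DerivedCategory.Q.objPreimage K
  let e := DerivedCategory.Q.objObjPreimageIso K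
  let Pt := (Scheme.Modules.pullback t).mapHomologicalComplex (ComplexShape.up ℤ)
  let Pq := (Scheme.Modules.pullback q).mapHomologicalComplex (ComplexShape.up ℤ)
  let Pc := (Scheme.Modules.pullback (t ≫ q)).mapHomologicalComplex (ComplexShape.up ℤ)
  let c : Pt.obj (Pq.obj F) ≅ Pc.obj F :=
    HomologicalComplex.Hom.isoOfComponents (fun n => (Scheme.Modules.pullbackComp t q).app (F.X n))
      (fun a b _ => ((Scheme.Modules.pullbackComp t q).hom.naturality (F.d a b)).symm)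
  exact ⟨(pullD t).mapIso ((pullD q).mapIso e.symm ≪≫ (Scheme.Modules.pullback q).mapDerivedCategoryFactors.app F) ≪≫
    (Scheme.Modules.pullback t).mapDerivedCategoryFactors.app _ ≪≫ DerivedCategory.Q.mapIso c ≪≫
    ((Scheme.Modules.pullback (t ≫ q)).mapDerivedCategoryFactors.app F).symm ≪≫ (pullD (t ≫ q)).mapIso e⟩

theorem nonempty_restrictD_pullD (j : Z ⟶ X) [IsOpenImmersion j] (K : DCoh.D X) :
    Nonempty ((DCoh.restrictD j).obj K ≅ (pullD j).obj K) := by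
  let F := DerivedCategory.Q.objPreimage K
  let e := DerivedCategory.Q.objObjPreimageIso K
  let c : (resCx j).obj F ≅ ((Scheme.Modules.pullback j).mapHomologicalComplex (ComplexShape.up ℤ)).obj F :=
    HomologicalComplex.Hom.isoOfComponents (fun n => (Scheme.Modules.restrictFunctorIsoPullback j).app (F.X n))
      (fun a b _ => ((Scheme.Modules.restrictFunctorIsoPullback j).hom.naturality (F.d a b)).symm)
  exact ⟨(DCoh.restrictD j).mapIso e.symm ≪≫ restrictDQ j F ≪≫ DerivedCategory.Q.mapIso c ≪≫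
    ((Scheme.Modules.pullback j).mapDerivedCategoryFactors.app F).symm ≪≫ (pullD j).mapIso e⟩

/-- Descent along a finite locally free surjection. -/
theorem rel_of_finLocFree (t : Z ⟶ Y) [IsFinite t] [Flat t] [LocallyOfFinitePresentation t] [Surjective t]
    (p : Y ⟶ S) [LocallyOfFiniteType p] {m : ℤ} {K : DCoh.D Y} (hK : DCoh.IsQCohD K)
    (h : DerSch.IsPseudoCoherentRel (t ≫ p) m ((pullD t).obj K)) : DerSch.IsPseudoCoherentRel p m K := by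
  refine rel_of_test p fun y => ?_
  obtain ⟨U, V, hU, hV, hy, hUV⟩ := exists_affine_pair p y
  have hU' : IsAffineOpen (t ⁻¹ᵁ U) := hU.preimage t
  have h₃ : t ⁻¹ᵁ U ≤ (t ≫ p) ⁻¹ᵁ V := t.preimage_mono hUV
  refine ⟨U, V, hUV, hU, hV, hy, ?_⟩
  obtain ⟨M, hM⟩ := exists_model hK hU
  letI : Algebra Γ(S, V) Γ(Y, U) := (p.appLE V U hUV).hom.toAlgebra
  letI : Algebra Γ(Y, U) Γ(Z, t ⁻¹ᵁ U) := (t.appLE U (t ⁻¹ᵁ U) le_rfl).hom.toAlgebra
  letI : Algebra Γ(S, V) Γ(Z, t ⁻¹ᵁ U) := ((t ≫ p).appLE V (t ⁻¹ᵁ U) h₃).hom.toAlgebra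
  haveI : IsScalarTower Γ(S, V) Γ(Y, U) Γ(Z, t ⁻¹ᵁ U) := .of_algebraMap_eq' (by
    show ((t ≫ p).appLE V (t ⁻¹ᵁ U) h₃).hom = (t.appLE U (t ⁻¹ᵁ U) le_rfl).hom.comp (p.appLE V U hUV).hom
    rw [← CommRingCat.hom_comp, Scheme.Hom.appLE_comp_appLE])
  haveI : Algebra.FiniteType Γ(S, V) Γ(Y, U) := p.finiteType_appLE hV hU hUV
  haveI : Module.Finite Γ(Y, U) Γ(Z, t ⁻¹ᵁ U) := by
    have := t.finite_app U hU
    rw [Scheme.Hom.app_eq_appLE] at this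
    exact this
  haveI : Module.Flat Γ(Y, U) Γ(Z, t ⁻¹ᵁ U) := t.flat_appLE hU hU' le_rfl
  haveI : Algebra.FinitePresentation Γ(Y, U) Γ(Z, t ⁻¹ᵁ U) := t.finitePresentation_appLE hU hU' le_rfl
  haveI : Module.FinitePresentation Γ(Y, U) Γ(Z, t ⁻¹ᵁ U) :=
    Module.FinitePresentation.of_finite_of_finitePresentation _ _
  haveI : Module.Projective Γ(Y, U) Γ(Z, t ⁻¹ᵁ U) := Module.Flat.projective_of_finitePresentation
  haveI : Module.FaithfullyFlat Γ(Y, U) Γ(Z, t ⁻¹ᵁ U) := by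
    refine Module.FaithfullyFlat.of_comap_surjective fun q => ?_
    obtain ⟨z, hz⟩ := t.surjective (hU.fromSpec q)
    have hzU : z ∈ t ⁻¹ᵁ U := by
      show t z ∈ U
      rw [hz]
      exact hU.range_fromSpec.le ⟨q, rfl⟩
    refine ⟨hU'.primeIdealOf ⟨z, hzU⟩, (IsAffineOpen.comap_primeIdealOf_appLE U hU _ hU' le_rfl hzU).trans ?_⟩
    apply hU.fromSpec.isOpenEmbedding.injective
    exact (hU.fromSpec_primeIdealOf _).trans hz
  haveI := DRingLib.hasLBaseChange (algebraMap Γ(Y, U) Γ(Z, t ⁻¹ᵁ U))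
  haveI : DRing.HasLBaseChange (t.appLE U (t ⁻¹ᵁ U) le_rfl).hom := ‹_›
  exact (test_iff_rel p hU hV hUV hM rfl).2 (rel_descend_finite
    ((test_iff_rel (t ≫ p) hU' hV h₃ (model_pullD t hU hU' le_rfl hM) rfl).1 (test_of_rel (t ≫ p) h hU' hV h₃)))

/-- Passing to a refinement. -/
theorem rel_pullD_refine (p : X ⟶ S) [LocallyOfFiniteType p] (g : Y ⟶ X) [Flat g] [LocallyOfFinitePresentation g]
    (r : Z ⟶ Y) (t : Z ⟶ X) [Flat t] [LocallyOfFinitePresentation t] (ht : r ≫ g = t) {m : ℤ}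
    {K : DCoh.D X} (hK : DCoh.IsQCohD K) (h : DerSch.IsPseudoCoherentRel (g ≫ p) m ((pullD g).obj K)) :
    DerSch.IsPseudoCoherentRel (t ≫ p) m ((pullD t).obj K) := by
  subst ht
  refine rel_of_test ((r ≫ g) ≫ p) fun z => ?_
  obtain ⟨U, V, hU, hV, hgz, hUV⟩ := exists_affine_pair p (g (r z))
  obtain ⟨_, ⟨U₁ : Y.Opens, hU₁, rfl⟩, hrz, hU₁U⟩ :=
    Y.isBasis_affineOpens.exists_subset_of_mem_open (a := r z) (show r z ∈ g ⁻¹ᵁ U from hgz) (g ⁻¹ᵁ U).isOpen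
  obtain ⟨_, ⟨U₂ : Z.Opens, hU₂, rfl⟩, hz, hU₂U₁⟩ :=
    Z.isBasis_affineOpens.exists_subset_of_mem_open (a := z) (show z ∈ r ⁻¹ᵁ U₁ from hrz) (r ⁻¹ᵁ U₁).isOpen
  have hU₂U : U₂ ≤ (r ≫ g) ⁻¹ᵁ U := fun x hx => hU₁U (hU₂U₁ hx)
  have h₁ : U₁ ≤ (g ≫ p) ⁻¹ᵁ V := fun x hx => hUV (hU₁U hx)
  have h₂ : U₂ ≤ ((r ≫ g) ≫ p) ⁻¹ᵁ V := fun x hx => hUV (hU₂U hx)
  refine ⟨U₂, V, h₂, hU₂, hV, hz, ?_⟩
  obtain ⟨M, hM⟩ := exists_model hK hU
  let a := (g.appLE U U₁ hU₁U).hom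
  let b := (r.appLE U₁ U₂ hU₂U₁).hom
  have hba : b.comp a = ((r ≫ g).appLE U U₂ hU₂U).hom := by
    rw [← CommRingCat.hom_comp, Scheme.Hom.appLE_comp_appLE]
  letI : Algebra Γ(Y, U₁) Γ(Z, U₂) := b.toAlgebra
  letI : Algebra Γ(S, V) Γ(Y, U₁) := ((g ≫ p).appLE V U₁ h₁).hom.toAlgebra
  letI : Algebra Γ(S, V) Γ(Z, U₂) := (((r ≫ g) ≫ p).appLE V U₂ h₂).hom.toAlgebra
  haveI : IsScalarTower Γ(S, V) Γ(Y, U₁) Γ(Z, U₂) := .of_algebraMap_eq' (by
    show (((r ≫ g) ≫ p).appLE V U₂ h₂).hom = b.comp ((g ≫ p).appLE V U₁ h₁).hom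
    rw [← CommRingCat.hom_comp, Scheme.Hom.appLE_comp_appLE]
    simp only [Category.assoc])
  haveI : Algebra.FiniteType Γ(S, V) Γ(Y, U₁) := (g ≫ p).finiteType_appLE hV hU₁ h₁
  haveI := DRingLib.hasLBaseChange b
  haveI : DRing.HasLBaseChange (algebraMap Γ(Y, U₁) Γ(Z, U₂)) := ‹_›
  haveI := DRingLib.hasLBaseChange a
  haveI : DRing.HasLBaseChange (g.appLE U U₁ hU₁U).hom := ‹_›
  haveI := DRingLib.hasLBaseChange ((r ≫ g).appLE U U₂ hU₂U).hom
  haveI : DRing.HasLBaseChange (b.comp a) := by rw [hba]; infer_instance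
  have hb : PCHom b := (pcHom_appLE_of_flat g hU₁ hU hU₁U).of_comp (by
    rw [hba]; exact pcHom_appLE_of_flat (r ≫ g) hU₂ hU hU₂U)
  obtain ⟨e⟩ := DRingLib.nonempty_lbc_comp a b M
  have h0 := rel_lbc hb ((test_iff_rel (g ≫ p) hU₁ hV h₁ (model_pullD g hU hU₁ hU₁U hM) rfl).1
    (test_of_rel (g ≫ p) h hU₁ hV h₁))
  let M₂ := (DRing.LBaseChange ((r ≫ g).appLE U U₂ hU₂U).hom).obj M
  have e' : Nonempty ((DRing.LBaseChange b).obj ((DRing.LBaseChange a).obj M) ≅ M₂) := by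
    refine ⟨e ≪≫ eqToIso ?_⟩
    congr! 2
  obtain ⟨e'⟩ := e'
  haveI : Algebra.FiniteType Γ(S, V) Γ(Z, U₂) := ((r ≫ g) ≫ p).finiteType_appLE hV hU₂ h₂
  obtain ⟨n, φ, hφ, hc⟩ := exists_presentation (A := Γ(S, V)) (B := Γ(Z, U₂))
  exact (test_iff_rel ((r ≫ g) ≫ p) hU₂ hV h₂ (model_pullD (r ≫ g) hU hU₂ hU₂U hM) rfl).2
    ((rel_iff φ hφ hc m _).2 (((rel_iff φ hφ hc m _).1 h0).of_iso ((DRing.restrictD φ).mapIso e')))

/-- fppf descent of relative pseudo-coherence on the source. -/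
theorem rel_of_fppf_cover (p : X ⟶ S) [LocallyOfFiniteType p] {ι : Type u} {Xi : ι → Scheme.{u}}
    (g : ∀ i, Xi i ⟶ X) [∀ i, Flat (g i)] [∀ i, LocallyOfFinitePresentation (g i)]
    (hcov : ∀ x : X, ∃ i, x ∈ Set.range (g i)) {m : ℤ} {K : DCoh.D X} (hK : DCoh.IsQCohD K)
    (h : ∀ i, DerSch.IsPseudoCoherentRel (g i ≫ p) m ((pullD (g i)).obj K)) :
    DerSch.IsPseudoCoherentRel p m K := by
  choose i hi using hcov
  choose U W π hxU _ _ hπ hπs hW using fun x => FppfRefineLib.exists_refinement (g (i x)) x (hi x)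
  refine rel_of_cover p (fun x => (U x).ι) (fun x => ⟨x, ⟨x, hxU x⟩, rfl⟩) fun x => ?_
  obtain ⟨h1, h2, h3⟩ := hπ x
  haveI := h1; haveI := h2; haveI := h3; haveI := hπs x
  obtain ⟨e0⟩ := nonempty_restrictD_pullD (U x).ι K
  refine rel_of_iso _ e0.symm ?_
  obtain ⟨e1⟩ := nonempty_pullD_comp (π x) (U x).ι K
  refine rel_of_finLocFree (π x) ((U x).ι ≫ p) (isQCohD_pullD _ hK) (rel_of_iso _ e1.symm ?_)
  choose W' T ρ r hwW' hρ hρs hr using hW x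
  refine rel_of_cover _ (fun w => (W' w).ι) (fun w => ⟨w, ⟨w, hwW' w⟩, rfl⟩) fun w => ?_
  obtain ⟨k1, k2, k3⟩ := hρ w
  haveI := k1; haveI := k2; haveI := k3; haveI := hρs w
  obtain ⟨e2⟩ := nonempty_restrictD_pullD (W' w).ι ((pullD (π x ≫ (U x).ι)).obj K)
  obtain ⟨e3⟩ := nonempty_pullD_comp (W' w).ι (π x ≫ (U x).ι) K
  refine rel_of_iso _ (e2 ≪≫ e3).symm ?_
  obtain ⟨e4⟩ := nonempty_pullD_comp (ρ w) ((W' w).ι ≫ π x ≫ (U x).ι) K
  refine rel_of_finLocFree (ρ w) ((W' w).ι ≫ π x ≫ (U x).ι ≫ p) (isQCohD_pullD _ hK) (rel_of_iso _ e4.symm ?_)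
  have := rel_pullD_refine p (g (i x)) (r w) (ρ w ≫ (W' w).ι ≫ π x ≫ (U x).ι) (hr w) hK (h (i x))
  simpa only [Category.assoc] using this

end Groth.Agent.RelPCLib
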