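import Groth.Agent.RelPCLib.Mor
import Groth.Agent.DerSchH7.Push
import Groth.Agent.PerfMorLib.KoszulMor
import Groth.Agent.PerfMorLib.Stalk

/-!
# Tor dimension of Koszul-regular immersions
-/

set_option autoImplicit false
set_option backward.isDefEq.respectTransparency false
set_option linter.style.haveILetI false
set_option linter.unusedSectionVars false
set_option maxHeartbeats 1000000

universe u

open CategoryTheory CategoryTheory.Limits AlgebraicGeometry
open scoped TensorProduct

attribute [local instance] HasDerivedCategory.standard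

noncomputable section

namespace Groth.Agent.RelPCLib

open Groth.Agent.DRingLib Groth.Agent.DCohLib Groth.Agent.DTenLib Groth.Agent.PCHomLib Groth.Agent.PerfMorLib

variable {A B C : Type u} [CommRing A] [CommRing B] [CommRing C]

theorem tdle_comp {φ : A →+* B} {ψ : B →+* C} {d e : ℕ} (hd : TDLE d φ) (he : TDLE e ψ) :
    TDLE (d + e) (ψ.comp φ) := by
  rw [TDLE, hasTorDimLE_iff_amp] at hd he ⊢
  have h := amp_restrictD φ hd he
  obtain ⟨i⟩ := nonempty_restrictD_inD φ (ModuleCat.of B (baseMod ψ))
  exact hasTorAmplitudeIn_mono (by push_cast; omega) le_rfl (amp_of_iso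
    (i ≪≫ (DerivedCategory.singleFunctor (ModuleCat.{u} A) 0).mapIso (restrictBaseMod φ ψ)) h)

theorem tdle_zero_of_bijective {f : A →+* B} (hf : Function.Bijective f) : TDLE 0 f :=
  tdle_zero_of_flat (RingHom.Flat.of_bijective hf)

theorem tdle_respectsIso (d : ℕ) :
    RingHom.RespectsIso (fun {R S : Type u} [CommRing R] [CommRing S] (f : R →+* S) => TDLE d f) :=
  ⟨fun f e hf => tdle_comp (e := 0) hf (tdle_zero_of_bijective e.bijective),
    fun f e hf => tdle_mono (Nat.zero_add d).le (tdle_comp (tdle_zero_of_bijective e.bijective) hf)⟩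

theorem tdle_localRingHom (f : A →+* B) (p : Ideal A) [p.IsPrime] (Q : Ideal B) [Q.IsPrime]
    (hpQ : p = Q.comap f) {d : ℕ} (h : TDLE d f) : TDLE d (Localization.localRingHom p Q f hpQ) := by
  let ψ := Localization.localRingHom p Q f hpQ
  haveI : Module.Flat B (Localization.AtPrime Q) := IsLocalization.flat _ Q.primeCompl
  have h0 : TDLE d ((algebraMap B (Localization.AtPrime Q)).comp f) :=
    tdle_comp (e := 0) h (tdle_zero_of_flat (RingHom.flat_algebraMap_iff.mpr inferInstance))
  have hψ : ψ.comp (algebraMap A (Localization.AtPrime p)) = (algebraMap B (Localization.AtPrime Q)).comp f :=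
    RingHom.ext fun x => Localization.localRingHom_to_map p Q f hpQ x
  letI algψ := ψ.toAlgebra
  letI : Algebra A (Localization.AtPrime Q) := ((algebraMap B (Localization.AtPrime Q)).comp f).toAlgebra
  haveI : IsScalarTower A (Localization.AtPrime p) (Localization.AtPrime Q) :=
    .of_algebraMap_eq fun x => (RingHom.congr_fun hψ x).symm
  haveI : Module.Flat A (Localization.AtPrime p) := IsLocalization.flat _ p.primeCompl
  have hle : Algebra.algebraMapSubmonoid (Localization.AtPrime Q) p.primeCompl ≤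
      IsUnit.submonoid (Localization.AtPrime Q) := by
    rintro _ ⟨x, hx, rfl⟩
    exact IsLocalization.map_units (Localization.AtPrime Q)
      (⟨f x, fun hfx => hx (by rw [hpQ]; exact hfx)⟩ : Q.primeCompl)
  haveI : IsLocalization (Algebra.algebraMapSubmonoid (Localization.AtPrime Q) p.primeCompl)
      (Localization.AtPrime Q) := IsLocalization.self hle
  haveI : Algebra.IsPushout A (Localization.AtPrime p) (Localization.AtPrime Q) (Localization.AtPrime Q) :=
    (Algebra.isPushout_of_isLocalization p.primeCompl (Localization.AtPrime p) (Localization.AtPrime Q) _).symm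
  let e := Algebra.IsPushout.equiv A (Localization.AtPrime p) (Localization.AtPrime Q) (Localization.AtPrime Q)
  have h1 := tdle_comp (e := 0) (tdle_baseChange (R := A) (R' := Localization.AtPrime p)
    (S := Localization.AtPrime Q) h0) (tdle_zero_of_bijective (f := e.toRingEquiv.toRingHom) e.bijective)
  rwa [show e.toRingEquiv.toRingHom.comp
      (algebraMap (Localization.AtPrime p) (Localization.AtPrime p ⊗[A] Localization.AtPrime Q)) = ψ from
    RingHom.ext fun r => e.commutes r] at h1

theorem tdle_stalkMap {X S : Scheme.{u}} (f : X ⟶ S) {V : S.Opens} (hV : IsAffineOpen V) {U : X.Opens}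
    (hU : IsAffineOpen U) (e : U ≤ f ⁻¹ᵁ V) {x : X} (hx : x ∈ U) {d : ℕ} (h : TDLE d (f.appLE V U e).hom) :
    TDLE d (f.stalkMap x).hom := by
  haveI := RingHom.toMorphismProperty_respectsIso_iff.mp (tdle_respectsIso.{u} d)
  refine ((RingHom.toMorphismProperty fun f => TDLE d f).arrow_mk_iso_iff
    (IsAffineOpen.arrowStalkMapIso f V hV U hU e hx)).mpr ?_
  exact tdle_localRingHom (f.appLE V U e).hom _ _ (congrArg PrimeSpectrum.asIdeal (IsAffineOpen.comap_primeIdealOf_appLE V hV U hU e hx)).symm h

theorem hasTorAmplitudeAt_unit {X Y : Scheme.{u}} (f : X ⟶ Y) (x : X) {d : ℕ} (h : TDLE d (f.stalkMap x).hom) :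
    DerSch.HasTorAmplitudeAt f (-(d : ℤ)) 0 (DerSch.unitCx X) x := by
  refine amp_of_iso ?_ ((hasTorDimLE_iff_amp _ _).1 h)
  exact (DerivedCategory.singleFunctorIsoCompQ _ 0).app (baseMod (f.stalkMap x).hom) ≪≫
    DerivedCategory.Q.mapIso (((HomologicalComplex.singleMapHomologicalComplex
      (ModuleCat.restrictScalars.{u} (f.stalkMap x).hom) (ComplexShape.up ℤ) 0).app
        (ModuleCat.of (X.presheaf.stalk x) (X.presheaf.stalk x))).symm ≪≫ (DerSchH7.stalkUnitCxIso f x).symm)

theorem tdle_of_isKoszulRegular {φ : A →+* B} (hφ : Function.Surjective φ) (l : List A)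
    (hl : LCI.IsKoszulRegularSeq A l) (hk : RingHom.ker φ = Ideal.ofList l) : TDLE l.length φ := by
  letI := φ.toAlgebra
  let θ : (A ⧸ Ideal.ofList l) ≃ₗ[A] B :=
    (Submodule.quotEquivOfEq _ _ (by rw [← hk]; rfl)).trans
      ((Algebra.linearMap A B).quotKerEquivOfSurjective hφ)
  obtain ⟨e⟩ := nonempty_iso_inD_of_isKoszulRegular l hl
  let e' := e ≪≫ (DerivedCategory.singleFunctor (ModuleCat.{u} A) 0).mapIso θ.toModuleIso
  exact hasTorDimLE_congr (selfEquiv φ inferInstance rfl).symm
    ((hasTorDimLE_iff_amp _ _).mpr (amp_of_iso e' (pc_amp_koszul l).2))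

/-- A Koszul-regular immersion of codimension `d` has perfect dimension at most `d`. -/
theorem hasPerfDimLE_of_koszul {Z X : Scheme.{u}} (i : Z ⟶ X) (d : ℕ)
    (hi : RegImm.IsRegularImmersionOfCodim RegImm.Kind.koszul d i) : DerSch.HasPerfDimLE i d := by
  have hi' : RegImm.IsRegularImmersion .koszul i := ⟨hi.1, fun z => by
    obtain ⟨U, hzU, hcl, rs, -, hrs, hker⟩ := hi.2 z
    exact ⟨U, hzU, hcl, rs, hrs, hker⟩⟩
  refine ⟨fun c => rel_of_iso i
    ((DerivedCategory.singleFunctorIsoCompQ Z.Modules 0).app (Coh.structureModule Z))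
    (rel_of_isPseudoCoherentMor i (fun U V hU hV e =>
      (isPerfectMor_of_isRegularImmersion_koszul i hi' U V hU hV e).1) c), fun z => ?_⟩
  obtain ⟨U, hzU, hcl, rs, hlen, hrs, hker⟩ := hi.2 z
  haveI : IsAffine U.1 := U.2
  obtain ⟨haff, hsurj⟩ := IsClosedImmersion.isAffine_surjective_of_isAffine (i ∣_ U.1)
  refine hasTorAmplitudeAt_unit i z (tdle_stalkMap i U.2 (U := i ⁻¹ᵁ U.1) haff le_rfl hzU ?_)
  rw [← Scheme.Hom.app_eq_appLE, ← hlen]
  exact tdle_of_isKoszulRegular (surjective_app_of_restrict i U.1 hsurj) rs hrs hker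

end Groth.Agent.RelPCLib
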