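import Groth.Agent.RelPCLib.Mor
import Groth.Agent.RelPCLib.FppfDescent
import Groth.Agent.DCohLib.PullComp
import Groth.Agent.DCohLib.TensorPerf

/-!
# Models of derived inverse images along arbitrary morphisms
-/

set_option autoImplicit false
set_option backward.isDefEq.respectTransparency false
set_option linter.style.haveILetI false
set_option linter.unusedSectionVars false
set_option maxHeartbeats 1000000

universe u

open CategoryTheory CategoryTheory.Limits AlgebraicGeometry TopologicalSpace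

attribute [local instance] HasDerivedCategory.standard

noncomputable section

namespace Groth.Agent.RelPCLib

open Groth.Agent.DCohLib Groth.Agent.PCHomLib

local instance preservesFiniteLimits_tilde'' (R : CommRingCat.{u}) : PreservesFiniteLimits (tilde.functor R) :=
  TildeD.preservesFiniteLimits_tilde

variable {X X' S : Scheme.{u}}

/-- Passing to the affine chart is the derived inverse image along it. -/
theorem nonempty_chart_lpull {U : X.Opens} (hU : IsAffineOpen U) (K : DCoh.D X) :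
    Nonempty ((pushD hU.isoSpec.hom).obj ((DCoh.restrictD U.ι).obj K) ≅
      (DCoh.Lpull hU.fromSpec).obj K) := by
  haveI : IsClosedImmersion hU.isoSpec.symm.inv := inferInstance
  obtain ⟨e1⟩ := nonempty_restrictD_pushInv hU.isoSpec.symm ((DCoh.restrictD U.ι).obj K)
  obtain ⟨e2⟩ := nonempty_restrictD_lpull hU.isoSpec.inv ((DCoh.restrictD U.ι).obj K)
  obtain ⟨e3⟩ := nonempty_restrictD_lpull U.ι K
  obtain ⟨e4⟩ := nonempty_lpullCompIso hU.isoSpec.inv U.ι
  exact ⟨e1.symm ≪≫ e2 ≪≫ (DCoh.Lpull hU.isoSpec.inv).mapIso e3 ≪≫ e4.app K⟩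

/-- Models of derived inverse images. -/
theorem model_lpull (g : X' ⟶ X) {U : X.Opens} (hU : IsAffineOpen U) {U' : X'.Opens}
    (hU' : IsAffineOpen U') (h : U' ≤ g ⁻¹ᵁ U) [DRing.HasLBaseChange (g.appLE U U' h).hom]
    {K : DCoh.D X} {M : Dual.D Γ(X, U)} (hM : Model hU K M) :
    Model hU' ((DCoh.Lpull g).obj K) ((DRing.LBaseChange (g.appLE U U' h).hom).obj M) := by
  obtain ⟨eM⟩ := hM
  let σ : Spec (X'.presheaf.obj (Opposite.op U')) ⟶ Spec (X.presheaf.obj (Opposite.op U)) :=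
    Spec.map (g.appLE U U' h)
  have hσ : σ ≫ hU.fromSpec = hU'.fromSpec ≫ g := IsAffineOpen.SpecMap_appLE_fromSpec g hU hU' h
  obtain ⟨e1⟩ := nonempty_chart_lpull hU K
  obtain ⟨e2⟩ := nonempty_chart_lpull hU' ((DCoh.Lpull g).obj K)
  obtain ⟨e3⟩ := nonempty_lpullCompIso σ hU.fromSpec
  obtain ⟨e4⟩ := nonempty_lpullCompIso hU'.fromSpec g
  exact ⟨(TildeLpull.lbcLpullIso (g.appLE U U' h).hom).app M ≪≫ (DCoh.Lpull σ).mapIso (eM ≪≫ e1) ≪≫
    e3.app K ≪≫ eqToIso (by rw [hσ]) ≪≫ (e4.app K).symm ≪≫ e2.symm⟩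

/-- Derived inverse images along morphisms with pseudo-coherent ring maps preserve relative
pseudo-coherence of objects with quasi-coherent cohomology. -/
theorem rel_lpull (p : X ⟶ S) [LocallyOfFiniteType p] (g : X' ⟶ X) [LocallyOfFiniteType g]
    (hg : ∀ (U' : X'.Opens) (U : X.Opens) (h : U' ≤ g ⁻¹ᵁ U), IsAffineOpen U' → IsAffineOpen U →
      PCHom (g.appLE U U' h).hom) {m : ℤ}
    {K : DCoh.D X} (hK : DCoh.IsQCohD K) (h : DerSch.IsPseudoCoherentRel p m K) :
    DerSch.IsPseudoCoherentRel (g ≫ p) m ((DCoh.Lpull g).obj K) := by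
  refine rel_of_test (g ≫ p) fun x' => ?_
  obtain ⟨U', U, V, hU', hU, hV, hx, hU'U, hUV⟩ := exists_affine_triple p g x'
  have h₃ : U' ≤ (g ≫ p) ⁻¹ᵁ V := hU'U.trans (g.preimage_mono hUV)
  refine ⟨U', V, h₃, hU', hV, hx, ?_⟩
  obtain ⟨M, hM⟩ := exists_model hK hU
  letI : Algebra Γ(S, V) Γ(X, U) := (p.appLE V U hUV).hom.toAlgebra
  letI : Algebra Γ(X, U) Γ(X', U') := (g.appLE U U' hU'U).hom.toAlgebra
  letI : Algebra Γ(S, V) Γ(X', U') := ((g ≫ p).appLE V U' h₃).hom.toAlgebra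
  haveI : IsScalarTower Γ(S, V) Γ(X, U) Γ(X', U') := .of_algebraMap_eq' (by
    show ((g ≫ p).appLE V U' h₃).hom = (g.appLE U U' hU'U).hom.comp (p.appLE V U hUV).hom
    rw [← CommRingCat.hom_comp, Scheme.Hom.appLE_comp_appLE])
  haveI : Algebra.FiniteType Γ(S, V) Γ(X, U) := p.finiteType_appLE hV hU hUV
  haveI := DRingLib.hasLBaseChange (algebraMap Γ(X, U) Γ(X', U'))
  haveI : DRing.HasLBaseChange (g.appLE U U' hU'U).hom := ‹_›
  exact (test_iff_rel (g ≫ p) hU' hV h₃ (model_lpull g hU hU' hU'U hM) rfl).2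
    (rel_lbc (hg U' U hU'U hU' hU) ((test_iff_rel p hU hV hUV hM rfl).1 (test_of_rel p h hU hV hUV)))

end Groth.Agent.RelPCLib
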