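import Groth.Agent.RelPCLib.Mor

/-!
# Direct images of structure sheaves along perfect closed immersions
-/

set_option autoImplicit false
set_option backward.isDefEq.respectTransparency false
set_option linter.style.haveILetI false
set_option linter.unusedSectionVars false
set_option maxHeartbeats 1000000

universe u

open CategoryTheory CategoryTheory.Limits AlgebraicGeometry TopologicalSpace

attribute [local instance] HasDerivedCategory.standard

noncomputable section

namespace Groth.Agent.RelPCLib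

open Groth.Agent.DCohLib Groth.Agent.DRingLib Groth.Agent.PCHomLib Groth.Agent.PerfMorLib

local instance preservesFiniteLimits_tilde'' (R : CommRingCat.{u}) : PreservesFiniteLimits (tilde.functor R) :=
  TildeD.preservesFiniteLimits_tilde

/-- A quasi-coherent module on an affine scheme with perfect sections is perfect. -/
theorem isPerfect_inD_of_sections {A : Type u} [CommRing A] (T : (Spec (CommRingCat.of A)).Modules) [Coh.IsQCoh T]
    (h : Perf FProj (Dual.inD A ((moduleSpecΓFunctor (R := CommRingCat.of A)).obj T))) :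
    DCoh.IsPerfect (DCoh.inD (Spec (CommRingCat.of A)) T) := by
  haveI := TildeD.preservesFiniteLimits_tilde (R := CommRingCat.of A)
  haveI : PreservesColimitsOfSize.{0, 0} (tilde.functor (CommRingCat.of A)) :=
    (tilde.adjunction (R := CommRingCat.of A)).leftAdjoint_preservesColimits
  haveI : PreservesFiniteColimits (tilde.functor (CommRingCat.of A)) := inferInstance
  let N : ModuleCat.{u} A := (moduleSpecΓFunctor (R := CommRingCat.of A)).obj T
  haveI hqT : T.IsQuasicoherent := ‹Coh.IsQCoh T›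
  haveI : IsIso (Scheme.Modules.fromTildeΓ (R := CommRingCat.of A) T) :=
    Scheme.Modules.isIso_fromTildeΓ_of_isQuasicoherent (R := CommRingCat.of A) T
  let eT : (tilde.functor (CommRingCat.of A)).obj N ≅ T := asIso (Scheme.Modules.fromTildeΓ (R := CommRingCat.of A) T)
  exact isPerfect_iso (((tilde.functor (CommRingCat.of A)).mapDerivedCategorySingleFunctor 0).app N ≪≫
    (DerivedCategory.singleFunctor (Spec (CommRingCat.of A)).Modules 0).mapIso eT) (TildePerf.perfect_tilde h)

theorem isPerfect_restrict_iso {X Y : Scheme.{u}} (t : X ≅ Y) {K : DCoh.D X}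
    (h : DCoh.IsPerfect ((pushD t.hom).obj K)) : DCoh.IsPerfect K := by
  obtain ⟨e⟩ := nonempty_restrictD_pushInv t ((pushD t.hom).obj K)
  obtain ⟨e'⟩ := nonempty_pushD_comp t.hom t.inv (𝟙 X) t.hom_inv_id K
  obtain ⟨e''⟩ := nonempty_restrictD_pushInv (Iso.refl X) K
  exact isPerfect_iso (e ≪≫ e' ≪≫ e''.symm ≪≫ (restrictDId X).app K) (isPerfect_restrict t.hom h)

theorem perf_inD_of_perfHom {A B : Type u} [CommRing A] [CommRing B] {ψ : A →+* B} (h1 : PCMap ψ) (h2 : TD ψ) :
    Perf FProj (Dual.inD A ((ModuleCat.restrictScalars.{u} ψ).obj (ModuleCat.of B B))) := by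
  obtain ⟨d, hd⟩ := h2
  exact (perf_iff _).2 ⟨(isPseudoCoherent'_iff _).2 ((pcMap_iff ψ).1 h1), _, _,
    (hasTorDimLE_iff_amp _ _).1 hd⟩

variable {Z X : Scheme.{u}} (i : Z ⟶ X) [IsClosedImmersion i]

theorem isPerfect_pushD_unit (hi : MoreMor.IsPerfectMor i) : DCoh.IsPerfect ((pushD i).obj (unitD Z)) := by
  refine isPerfect_of_local fun x => ?_
  obtain ⟨_, ⟨V : X.Opens, hV, rfl⟩, hx, -⟩ :=
    X.isBasis_affineOpens.exists_subset_of_mem_open (a := x) (Set.mem_univ _) isOpen_univ
  refine ⟨V, V.ι, inferInstance, ⟨x, hx⟩, rfl, ?_⟩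
  have hU : IsAffineOpen (i ⁻¹ᵁ V) := hV.preimage i
  let ev : MvPolynomial (Fin 0) Γ(X, V) →+* Γ(X, V) := MvPolynomial.eval Fin.elim0
  have hev : Function.Bijective ev := ⟨fun p q h => by
    obtain ⟨a, rfl⟩ := MvPolynomial.C_surjective (Fin 0) p
    obtain ⟨b, rfl⟩ := MvPolynomial.C_surjective (Fin 0) q
    simp only [ev, MvPolynomial.eval_C] at h
    rw [h], fun a => ⟨MvPolynomial.C a, by simp [ev]⟩⟩
  let U := i ⁻¹ᵁ V
  let φ := (i.app V).hom.comp ev
  have hφs : Function.Surjective φ := (i.app_surjective V hV).comp hev.2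
  haveI := isClosedImmersion_emb hU hφs
  haveI : IsClosedImmersion (emb V ev) := isClosedImmersion_emb hV hev.2
  haveI : IsIso (emb V ev) := by
    haveI : IsIso V.toSpecΓ := by
      rw [← hV.isoSpec_hom]
      infer_instance
    haveI : IsIso (CommRingCat.ofHom ev) := (ConcreteCategory.isIso_iff_bijective _).2 hev
    delta emb
    infer_instance
  have hcomp : (i ∣_ V) ≫ emb V ev = emb U φ := by
    rw [emb, emb, CommRingCat.ofHom_comp, Spec.map_comp, ← Category.assoc, ← Category.assoc]
    congr 1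
    exact (Scheme.Opens.toSpecΓ_naturality i V).symm
  obtain ⟨e1⟩ := nonempty_restrict_pushD i V (unitD Z)
  obtain ⟨e2⟩ := nonempty_pushD_comp (i ∣_ V) (emb V ev) (emb U φ) hcomp
    ((DCoh.restrictD U.ι).obj (unitD Z))
  let M := Coh.structureModule Z
  let e3 := (pushD (emb U φ)).mapIso (restrictInD U.ι M) ≪≫ pushInD (emb U φ) _
  refine isPerfect_restrict_iso (asIso (emb V ev))
    (isPerfect_iso ((pushD (emb V ev)).mapIso e1 ≪≫ e2 ≪≫ e3).symm ?_)
  let T := (DerSchH7.chartFun U φ).obj M
  haveI : Coh.IsQCoh (Coh.structureModule (U : Scheme.{u})) := CohBase.isQCoh_structureModule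
  haveI : IsAffine (U : Scheme.{u}) := hU
  haveI : Coh.IsQCoh T := isQCoh_of_iso'
    ((Scheme.Modules.pushforward (emb U φ)).mapIso (restrictUnit U.ι)).symm
    (QCohLib.isQCoh_pushforward (Coh.structureModule U) (emb U φ))
  refine isPerfect_inD_of_sections T ?_
  obtain ⟨e, he⟩ := DerSchH7.exists_chart_sections_equiv M U φ
  let P₀ := MvPolynomial (Fin 0) Γ(X, V)
  let N := (moduleSpecΓFunctor (R := CommRingCat.of P₀)).obj T
  let R' := (ModuleCat.restrictScalars.{u} φ).obj (ModuleCat.of Γ(Z, U) Γ(Z, U))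
  let l : R' ≅ N := (AddEquiv.toLinearEquiv (M := R') (M₂ := N) e fun p s => he p s).toModuleIso
  letI : Algebra Γ(X, V) Γ(Z, U) := (i.appLE V U le_rfl).hom.toAlgebra
  obtain ⟨hp1, hp2⟩ := isPerfectHom_iff.1 (hi U V hU hV le_rfl)
  have happ : (i.app V).hom = (i.appLE V U le_rfl).hom := by rw [Scheme.Hom.app_eq_appLE]
  refine (Perf.of_iso · ((DerivedCategory.singleFunctor (ModuleCat.{u} P₀) 0).mapIso l))
    (perf_inD_of_perfHom (hp1.pcMap_fin φ hφs ?_) ?_)
  · refine RingHom.ext fun a => ?_
    show (i.app V).hom (MvPolynomial.eval Fin.elim0 (MvPolynomial.C a)) = _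
    rw [MvPolynomial.eval_C, happ]
    rfl
  · show TD ((i.app V).hom.comp ev)
    rw [happ]
    exact (td_of_bijective hev).comp hp2

end Groth.Agent.RelPCLib
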