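import Groth.Agent.RelPCLib.SmoothPush
import Groth.Agent.RelPCLib.Comp
import Groth.Agent.RelPCLib.Open
import Groth.Agent.TildePerf.RelPerf
import Groth.Agent.DCohLib.PCTop
import Groth.Agent.DRingLib.TensorAmp
import Groth.Agent.FlatCx.Cochain
import Groth.Agent.CAlgBasics.FlatAux
import Groth.Agent.S4863
import Groth.Agent.DCohMore.RelPerfTerms
import Groth.Agent.DRingLib.Resolution
import Groth.Agent.S6216

/-!
# Perfect amplitude spreads out from a point
-/

set_option autoImplicit false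
set_option backward.isDefEq.respectTransparency false
set_option linter.style.haveILetI false
set_option linter.unusedSectionVars false
set_option maxHeartbeats 1000000

universe u

open CategoryTheory CategoryTheory.Limits AlgebraicGeometry CochainComplex

attribute [local instance] HasDerivedCategory.standard

noncomputable section

namespace Groth.Agent.RelPCLib

open Groth.Agent.DRingLib Groth.Agent.DCohLib Groth.Agent.DTenLib Groth.Agent.DerSchH7 Groth.Agent.PCHomLib

section Ring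

variable {A : Type u} [CommRing A]

theorem flat_ker_above {C : DRing.Cx A} (d b : ℤ) (hC : ∀ i, d ≤ i → Module.Flat A (C.X i))
    (hb : ∀ i, b < i → IsZero (C.X i)) (hac : ∀ p, d < p → C.ExactAt p) :
    ∀ i, d ≤ i → Module.Flat A (LinearMap.ker (C.d i (i + 1)).hom) := by
  have key : ∀ n : ℕ, ∀ i, d ≤ i → b < i + n → Module.Flat A (LinearMap.ker (C.d i (i + 1)).hom) := by
    intro n
    induction n with
    | zero =>
      intro i _ hi
      haveI := ModuleCat.subsingleton_of_isZero (hb i (by omega))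
      infer_instance
    | succ n ih =>
      intro i hi hin
      haveI := hC i hi
      haveI : Module.Flat A (LinearMap.range (C.d i (i + 1)).hom) := by
        rw [FlatCx.range_eq_ker_of_exactAt C i (i + 1) (i + 1 + 1) rfl rfl (hac _ (by omega))]
        exact ih (i + 1) (by omega) (by omega)
      haveI : Module.Flat A (C.X i ⧸ LinearMap.ker (C.d i (i + 1)).hom) :=
        Module.Flat.of_linearEquiv (C.d i (i + 1)).hom.quotKerEquivRange
      exact FlatCx.flat_of_flat_quotient _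
  intro i hi
  exact key (b - i + 1).toNat i hi (by omega)

/-- The top of an amplitude is detected by cohomology. -/
theorem amp_top {K : Dual.D A} {a b n : ℤ} (h : DRing.HasTorAmplitudeIn A a n K) (hK : AboveZero (b + 1) K) :
    DRing.HasTorAmplitudeIn A a b K := by
  rcases le_or_gt a b with hab | hab
  · exact hasTorAmplitudeIn_of_aboveZero hab h hK
  · obtain ⟨E, hE, -, ⟨e⟩⟩ := h
    refine amp_of_iso e (amp_of_isZero ?_ a b)
    rw [IsZero.iff_id_eq_zero, ← DerivedCategory.Q.map_id]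
    haveI : QuasiIso (0 : E ⟶ E) := by
      refine ⟨fun i => (quasiIsoAt_iff_exactAt _ _ ?_).2 ?_⟩ <;>
      · rw [HomologicalComplex.exactAt_iff_isZero_homology]
        rcases lt_or_ge i a with hi | hi
        · exact (HomologicalComplex.exactAt_iff_isZero_homology _ _).1
            (ShortComplex.exact_of_isZero_X₂ _ (hE i (Or.inl hi)))
        · exact (((hK.of_iso e) i (by omega)).of_iso ((DerivedCategory.homologyFunctorFactors _ i).app E).symm)
    haveI : IsIso (DerivedCategory.Q.map (0 : E ⟶ E)) := isIso_Q_map _ inferInstance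
    rw [DerivedCategory.Q.map_id, ← cancel_mono (DerivedCategory.Q.map (0 : E ⟶ E))]
    simp [DerivedCategory.Q.map_zero]

/-- The bottom term of a bounded complex of given amplitude with flat higher terms is flat. -/
theorem flat_bottom {T : DRing.Cx A} {a b n : ℤ} (hlow : ∀ i, i < a → IsZero (T.X i))
    (hn : ∀ i, n < i → IsZero (T.X i)) (hfl : ∀ i, a < i → Module.Flat A (T.X i))
    (hamp : DRing.HasTorAmplitudeIn A a b (DRing.toD T)) : Module.Flat A (T.X a) := by
  obtain ⟨P, hPb, hP, ⟨e⟩⟩ := exists_proj_representative (n := max n a)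
    (aboveZero_toD (E := T) (n := max n a + 1) fun i hi => hn i (by omega))
  haveI := DRingLib.isKProjective_of_vanishesAbove hPb hP
  obtain ⟨q, hq⟩ := Q_map_surjective P T e.hom
  haveI : IsIso (DerivedCategory.Q.map q) := hq ▸ inferInstance
  let C := mappingCone q
  have hA : ∀ p, C.ExactAt p := fun p => by
    rw [HomologicalComplex.exactAt_iff_isZero_homology]
    exact (((mIso_of_isIso (p - 1) (DerivedCategory.Q.map q)).cone _
      (DerivedCategory.mappingCone_triangle_distinguished q)) p (by omega)).of_iso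
      ((DerivedCategory.homologyFunctorFactors _ p).app C).symm
  have hPf := termwiseFlat_of_projective hP
  have hCflat : ∀ i, a + 1 ≤ i → Module.Flat A (C.X i) := fun i hi => by
    haveI : Module.Flat A (P.X (i + 1)) := hPf (i + 1)
    haveI := hfl i (by omega)
    haveI : Module.Flat A (P.X (i + 1) × T.X i) := FlatCx.flat_prod _ _
    exact Module.Flat.of_linearEquiv (HomologicalComplex.homotopyCofiber.XIsoBiprod q i (i + 1) rfl ≪≫
      ModuleCat.biprodIsoProd _ _).toLinearEquiv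
  haveI hZ := flat_ker_above (a + 1) (max n a) hCflat (fun i hi =>
    ((biprod_isZero_iff _ _).2 ⟨hPb (i + 1) (by omega), hn i (by omega)⟩).of_iso
      (HomologicalComplex.homotopyCofiber.XIsoBiprod q i (i + 1) rfl)) (fun p _ => hA p) (a + 1) le_rfl
  haveI hB := flat_cokernel (K := P) hPb hPf (amp_of_iso e.symm hamp)
  let j := (mappingCone.inl q).v a (a - 1) (by omega)
  let φ := j ≫ C.d (a - 1) a
  have hT1 : IsZero (T.X (a - 1)) := hlow _ (by omega)
  have hfst : j ≫ (mappingCone.fst q).1.v (a - 1) a (by omega) = 𝟙 _ := by simp [j]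
  have hid : (mappingCone.fst q).1.v (a - 1) a (by omega) ≫ j = 𝟙 (C.X (a - 1)) := by
    have h := mappingCone.id_X q (a - 1) a (by omega)
    rw [hT1.eq_of_tgt ((mappingCone.snd q).v (a - 1) (a - 1) (add_zero _)) 0, zero_comp, add_zero] at h
    exact h
  have hker : LinearMap.ker φ.hom = LinearMap.range (P.d (a - 1) a).hom := by
    apply le_antisymm
    · intro x hx
      have h := hA (a - 1)
      rw [C.exactAt_iff' (a - 1 - 1) (a - 1) a (by simp) (by simp), ShortComplex.moduleCat_exact_iff] at h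
      obtain ⟨z, hz⟩ := h (j.hom x) hx
      change (C.d (a - 1 - 1) (a - 1)).hom z = j.hom x at hz
      refine ⟨-((mappingCone.fst q).1.v (a - 1 - 1) (a - 1) (by omega)).hom z, ?_⟩
      have h1 := congrArg (fun g => g.hom z)
        (mappingCone.d_fst_v q (a - 1 - 1) (a - 1) a (by omega) (by omega))
      have h2 := congrArg (fun g => g.hom x) hfst
      simp only [ModuleCat.hom_comp, LinearMap.comp_apply, ModuleCat.hom_neg, LinearMap.neg_apply,
        ModuleCat.hom_id, LinearMap.id_apply] at h1 h2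
      rw [hz, h2] at h1
      rw [map_neg, h1]
    · rintro _ ⟨w, rfl⟩
      show (C.d (a - 1) a).hom (j.hom ((P.d (a - 1) a).hom w)) = 0
      have h := mappingCone.inl_v_d q (a - 1) (a - 1 - 1) a (by omega) (by omega)
      rw [hT1.eq_of_tgt (q.f (a - 1)) 0, zero_comp, zero_sub] at h
      have hdd : ∀ z, (C.d (a - 1) a).hom ((C.d (a - 1 - 1) (a - 1)).hom z) = 0 := fun z =>
        congrArg (fun g => g.hom z) (C.d_comp_d (a - 1 - 1) (a - 1) a)
      have h1 := (congrArg (fun g => (C.d (a - 1) a).hom (g.hom w)) h).symm.trans (hdd _)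
      simp only [ModuleCat.hom_comp, LinearMap.comp_apply, ModuleCat.hom_neg, LinearMap.neg_apply, map_neg,
        neg_eq_zero] at h1
      exact h1
  have hran : LinearMap.range φ.hom = LinearMap.ker (C.d a (a + 1)).hom := by
    rw [← FlatCx.range_eq_ker_of_exactAt C (a - 1) a (a + 1) (by omega) rfl (hA a)]
    refine le_antisymm (LinearMap.range_comp_le_range _ _) ?_
    rintro _ ⟨z, rfl⟩
    exact ⟨((mappingCone.fst q).1.v (a - 1) a (by omega)).hom z,
      congrArg (C.d (a - 1) a).hom (congrArg (fun g => g.hom z) hid)⟩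
  haveI : Module.Flat A (LinearMap.ker (C.d a (a + 1)).hom) :=
    Module.Flat.of_linearEquiv ((Submodule.quotEquivOfEq _ _ hker.symm).trans
      (φ.hom.quotKerEquivRange.trans (LinearEquiv.ofEq _ _ hran))).symm
  let g : C.X a →ₗ[A] LinearMap.ker (C.d (a + 1) (a + 1 + 1)).hom :=
    (C.d a (a + 1)).hom.codRestrict _ fun z => LinearMap.mem_ker.2
      (congrArg (fun g : C.X a ⟶ C.X (a + 1 + 1) => g.hom z) (C.d_comp_d a (a + 1) (a + 1 + 1)))
  haveI : Module.Flat A (C.X a) := CAlgBasics.flat_of_exact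
    (f := (LinearMap.ker (C.d a (a + 1)).hom).subtype) (g := g) Subtype.val_injective
    (LinearMap.exact_iff.2 (by rw [Submodule.range_subtype]; exact LinearMap.ker_codRestrict _ _ _)) fun z => by
      obtain ⟨w, hw⟩ := (FlatCx.range_eq_ker_of_exactAt C a (a + 1) (a + 1 + 1) rfl rfl (hA _)).ge z.2
      exact ⟨w, Subtype.ext hw⟩
  refine Module.Flat.of_retract ((mappingCone.inr q).f a).hom ((mappingCone.snd q).v a a (add_zero a)).hom ?_
  rw [← ModuleCat.hom_comp, mappingCone.inr_f_snd_v, ModuleCat.hom_id]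

end Ring

variable {X Y Z : Scheme.{u}}

/-- The stalks along an open immersion. -/
def stalkCxOverOpenIso (j : Z ⟶ X) [IsOpenImmersion j] (f : X ⟶ Y) (F : CochainComplex X.Modules ℤ) (z : Z) :
    (DerSch.stalkCxOver (j ≫ f) z).obj ((resCx j).obj F) ≅ (DerSch.stalkCxOver f (j.base z)).obj F :=
  stalkCxOverCompIso j f z _ ≪≫ (DTen.resCx (f.stalkMap (j.base z)).hom).mapIso (restrictStalkCxIso j z F) ≪≫
    (stalkCxOverResIso f (j.base z) F).symm

theorem hasTorAmplitudeAt_open_iff (j : Z ⟶ X) [IsOpenImmersion j] (f : X ⟶ Y)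
    (F : CochainComplex X.Modules ℤ) (a b : ℤ) (z : Z) :
    DerSch.HasTorAmplitudeAt (j ≫ f) a b ((resCx j).obj F) z ↔ DerSch.HasTorAmplitudeAt f a b F (j.base z) :=
  ⟨amp_of_iso (DerivedCategory.Q.mapIso (stalkCxOverOpenIso j f F z)),
    amp_of_iso (DerivedCategory.Q.mapIso (stalkCxOverOpenIso j f F z)).symm⟩

/-- Exact outside the amplitude. -/
theorem isZero_HD_of_hasTorAmplitude (f : X ⟶ Y) {F : CochainComplex X.Modules ℤ} {a b : ℤ}
    (h : DerSch.HasTorAmplitude f a b F) (i : ℤ) (hi : i < a ∨ b < i) : IsZero (DCoh.HD (DCoh.toD X F) i) := by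
  refine IsZero.of_iso (isZero_of_stalks fun x => ?_) ((DerivedCategory.homologyFunctorFactors _ i).app F)
  obtain ⟨E, hE, -, ⟨e⟩⟩ := h x
  let G := (DerSch.stalkCxOver f x).obj F
  have h1 : IsZero (G.homology i) :=
    ((HomologicalComplex.exactAt_iff_isZero_homology _ _).1
      (ShortComplex.exact_of_isZero_X₂ _ (hE i hi))).of_iso
        (((DerivedCategory.homologyFunctorFactors _ i).app _).symm ≪≫
          (DerivedCategory.homologyFunctor _ i).mapIso e.symm ≪≫
          (DerivedCategory.homologyFunctorFactors _ i).app _)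
  have h2 : IsZero ((DerSch.stalkOver f x).obj (F.homology i)) :=
    h1.of_iso ((F.sc i).mapHomologyIso (DerSch.stalkOver f x)).symm
  exact ModuleCat.subsingleton_of_isZero h2

theorem smooth_affineSpace {V : Y.Opens} (hV : IsAffineOpen V) (n : ℕ) :
    Smooth (Spec.map (CommRingCat.ofHom (MvPolynomial.C : Γ(Y, V) →+* MvPolynomial (Fin n) Γ(Y, V))) ≫
      hV.fromSpec) := by
  haveI : Smooth (Spec.map (CommRingCat.ofHom (MvPolynomial.C : Γ(Y, V) →+* MvPolynomial (Fin n) Γ(Y, V)))) :=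
    (HasRingHomProperty.Spec_iff (P := @Smooth)).2 (RingHom.smooth_algebraMap.2
      (⟨inferInstance, inferInstance⟩ : Algebra.Smooth Γ(Y, V) (MvPolynomial (Fin n) Γ(Y, V))))
  infer_instance

/-- A relatively pseudo-coherent complex in degrees `≥ a` with amplitude in `[a, b]` at a point has perfect
amplitude near the point. -/
theorem exists_perfAmplitude_nhd (f : X ⟶ Y) [LocallyOfFiniteType f] (F : CochainComplex X.Modules ℤ) {a b : ℤ}
    [F.IsGE a] [F.IsLE b] (x : X) (hpc : DerSch.IsPseudoCoherentRel f (a - 1) (DCoh.toD X F))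
    (hamp : DerSch.HasTorAmplitudeAt f a b F x) :
    ∃ U : X.Opens, x ∈ U ∧ DerSch.HasPerfAmplitudeRel (U.ι ≫ f) a b ((resCx U.ι).obj F) := by
  obtain ⟨U₁, V, hU₁, hV, hx, hle⟩ := exists_affine_pair f x
  obtain ⟨n, φ, hφ⟩ := exists_chart f hle (f.finiteType_appLE hV hU₁ hle)
  haveI := isClosedImmersion_emb hU₁ hφ.1
  let i := emb U₁ φ
  let g := Spec.map (CommRingCat.ofHom (MvPolynomial.C : Γ(Y, V) →+* MvPolynomial (Fin n) Γ(Y, V))) ≫ hV.fromSpec
  haveI : Smooth g := smooth_affineSpace hV n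
  have hig : i ≫ g = U₁.ι ≫ f := by
    rw [← Category.assoc, emb_comp, hφ.2, emb, CommRingCat.ofHom_hom, Scheme.Opens.toSpecΓ_SpecMap_appLE,
      Category.assoc, IsAffineOpen.toSpecΓ_fromSpec, Scheme.Hom.resLE_comp_ι]
  let F₁ := (resCx U₁.ι).obj F
  let E := ((Scheme.Modules.pushforward i).mapHomologicalComplex (ComplexShape.up ℤ)).obj F₁
  haveI : PreservesLimitsOfSize.{0, 0} (Scheme.Modules.pushforward i) :=
    (Scheme.Modules.pullbackPushforwardAdjunction i).rightAdjoint_preservesLimits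
  haveI : PreservesFiniteLimits (Scheme.Modules.pushforward i) := inferInstance
  haveI : (Scheme.Modules.pushforward i).PreservesHomology :=
    Functor.preservesHomology_of_preservesEpis_and_kernels _
  haveI : CochainComplex.IsGE E a := (CochainComplex.isGE_iff _ _).2 fun q hq =>
    (HomologicalComplex.exactAt_iff _ _).2
      ((((HomologicalComplex.exactAt_iff _ _).1 ((CochainComplex.isGE_iff F a).1 inferInstance q hq)).map
        (Scheme.Modules.restrictFunctor U₁.ι)).map (Scheme.Modules.pushforward i))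
  have hE : DCoh.IsPseudoCoherentD (a - 1) (DCoh.toD _ E) := by
    have h1 : DerSch.IsPseudoCoherentRel (i ≫ g) (a - 1) (DCoh.toD _ F₁) := by
      rw [hig]
      exact rel_of_iso (U₁.ι ≫ f) (restrictDQ U₁.ι F) (rel_restrict U₁.ι f hpc)
    exact isPseudoCoherentD_iso (pushDQ i F₁) ((rel_closed_iff i _ _).1
      ((rel_comp_iff g i (fun V' W h hV' hW => pcHom_appLE_of_flat g hV' hW h) _ _).2 h1))
  let x₁ : U₁ := ⟨x, hx⟩
  have hampE : DerSch.HasTorAmplitudeAt g a b E (i.base x₁) := by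
    have h1 : DerSch.HasTorAmplitudeAt (i ≫ g) a b F₁ x₁ := by
      rw [hig]
      exact (hasTorAmplitudeAt_open_iff U₁.ι f F a b x₁).2 hamp
    exact amp_of_iso (DerivedCategory.Q.mapIso (stalkCxOverResIso g (i.base x₁) E ≪≫
      (DTen.resCx (g.stalkMap (i.base x₁)).hom).mapIso (pushStalkCxIso i x₁ F₁) ≪≫
        (stalkCxOverCompIso i g x₁ F₁).symm)).symm h1
  obtain ⟨V₀, hy, hV₀⟩ := (isPseudoCoherentD_iff _ _).1 hE (i.base x₁)
  obtain ⟨G, α, hG, -, hα⟩ := hV₀.exists_brutal
  obtain ⟨W, hW, β, hβ⟩ := exists_open_represent hG (α ≫ (restrictDQ V₀.ι E).hom) (⟨i.base x₁, hy⟩ : V₀)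
  have hQ : DerivedCategory.Q.map β = (restrictDQ W.ι G).inv ≫
      (DCoh.restrictD W.ι).map (α ≫ (restrictDQ V₀.ι E).hom) ≫
        (restrictDQ W.ι ((resCx V₀.ι).obj E)).hom := by
    rw [hβ]
    simp [restrictDQ]
  have hm : MIso (a - 1) (DerivedCategory.Q.map β) := by
    rw [hQ]
    exact (mIso_of_isIso _ _).comp
      (((hα.comp (mIso_of_isIso _ _)).restrict W.ι).comp (mIso_of_isIso _ _))
  let w : W := ⟨⟨i.base x₁, hy⟩, hW⟩
  let G₁ := (resCx W.ι).obj G
  have hG₁ : DCoh.IsStrictlyPerfect G₁ := isStrictlyPerfect_restrict W.ι hG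
  let E₂ := (resCx W.ι).obj ((resCx V₀.ι).obj E)
  haveI : CochainComplex.IsGE E₂ a := by
    refine (CochainComplex.isGE_iff _ _).2 fun q hq => ?_
    have h := (HomologicalComplex.exactAt_iff _ _).1 ((CochainComplex.isGE_iff E a).1 inferInstance q hq)
    exact (HomologicalComplex.exactAt_iff _ _).2
      ((h.map (Scheme.Modules.restrictFunctor V₀.ι)).map (Scheme.Modules.restrictFunctor W.ι))
  let h := W.ι ≫ V₀.ι ≫ g
  let T := CochainComplex.truncGE G₁ a
  haveI : IsIso (DerivedCategory.Q.map (CochainComplex.truncGEMap β a)) := by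
    rw [DerivedCategory.isIso_Q_map_iff_quasiIso, CochainComplex.quasiIso_truncGEMap_iff]
    intro q hq
    rw [quasiIsoAt_iff_isIso_homologyMap]
    exact (map_homologyFunctor_Q β q).1.1 (((mIso_iff _ _).1 hm).1 q (by omega))
  haveI : IsIso (DerivedCategory.Q.map (E₂.πTruncGE a)) :=
    Localization.inverts DerivedCategory.Q (HomologicalComplex.quasiIso _ (ComplexShape.up ℤ)) _
      ((HomologicalComplex.mem_quasiIso_iff _).2 ((CochainComplex.quasiIso_πTruncGE_iff E₂ a).2 inferInstance))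
  let eT : DCoh.toD _ T ≅ DCoh.toD _ E₂ := asIso (DerivedCategory.Q.map (CochainComplex.truncGEMap β a)) ≪≫
    (asIso (DerivedCategory.Q.map (E₂.πTruncGE a))).symm
  have hTw : DerSch.HasTorAmplitudeAt h a b T w :=
    hasTorAmplitudeAt_congr h eT.symm ((hasTorAmplitudeAt_open_iff W.ι (V₀.ι ≫ g) _ a b w).2
      ((hasTorAmplitudeAt_open_iff V₀.ι g E a b _).2 hampE))
  obtain ⟨⟨c, d, hcd⟩, hGf⟩ := hG₁
  have hTlow : ∀ q, q < a → IsZero (T.X q) := fun q hq => CochainComplex.isZero_of_isStrictlyGE T a q hq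
  have hThi : ∀ q, max a d < q → IsZero (T.X q) := fun q hq =>
    (hcd q (Or.inr (by omega))).of_iso (CochainComplex.truncGEXIso G₁ a q (by omega))
  have hTf : ∀ q, a < q → FlatMod.IsFinLocFree (T.X q) := fun q hq =>
    isFinLocFree_iso (CochainComplex.truncGEXIso G₁ a q hq).symm (hGf q)
  have hqc := fun q => PullbackMod.isQCoh_and_isFP_of_isFinLocFree _ (hGf q)
  haveI := (hqc (a - 1)).1
  haveI := (hqc (a - 1)).2
  let eP : cokernel (G₁.d (a - 1) a) ≅ T.X a :=
    (colimit.isColimit _).coconePointUniqueUpToIso (G₁.opcyclesIsCokernel (a - 1) a (by simp)) ≪≫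
      (CochainComplex.truncGEXIsoOpcycles G₁ a).symm
  haveI hTq : Coh.IsQCoh (T.X a) :=
    isQCoh_of_iso' eP (QCohLib.isQCoh_image (G₁.d (a - 1) a) (hqc (a - 1)).1 (hqc a).1).2
  have hTp : CohB1.IsFP (T.X a) := DCohLib.isFP_iso eP (isFP_cokernel (G₁.d (a - 1) a) (hqc (a - 1)).1 (hqc a).1
    (inferInstanceAs (SheafOfModules.IsFiniteType (R := (W : Scheme.{u}).ringCatSheaf) (G₁.X (a - 1)))) (hqc a).2)
  have hTflat : FlatMod.IsFlatOverAt h (T.X a) w := (DCohMore.isFlatOverAt_iff_stalkOver h _ w).2 <|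
    flat_bottom (T := (DerSch.stalkCxOver h w).obj T) (n := max a d)
      (fun q hq => (DerSch.stalkOver h w).map_isZero (hTlow q hq))
      (fun q hq => (DerSch.stalkOver h w).map_isZero (hThi q hq))
      (fun q hq => (DCohMore.isFlatOverAt_iff_stalkOver h _ w).1 (TildePerf.isFlatOver_of_isFinLocFree h (hTf q hq) w)) hTw
  let W' : (W : Scheme.{u}).Opens :=
    ⟨{z | FlatMod.IsFlatOverAt h (T.X a) z}, Groth.Agent.S4863.result h (T.X a) hTp⟩
  let T' := (resCx W'.ι).obj T
  let h' := W'.ι ≫ h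
  have hfl : ∀ q, FlatMod.IsFlatOver h' (T'.X q) := fun q z => by
    have key : FlatMod.IsFlatOverAt h (T.X q) (W'.ι.base z) → FlatMod.IsFlatOverAt h' (T'.X q) z :=
      (DCohMore.isFlatOverAt_restrict_iff W'.ι h (T.X q) z).2
    rcases lt_trichotomy q a with hq | rfl | hq
    · exact TildePerf.isFlatOver_of_isFinLocFree h' (isFinLocFree_of_isZero (isZero_resCx W'.ι (hTlow q hq))) z
    · exact key z.2
    · exact key (TildePerf.isFlatOver_of_isFinLocFree h (hTf q hq) _)
  have hfp : ∀ q, DerSch.IsPseudoCoherentRel h' (-1)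
      (DCoh.toD _ ((HomologicalComplex.single _ (ComplexShape.up ℤ) 0).obj (T'.X q))) := fun q => by
    refine rel_of_iso h' ((DerivedCategory.singleFunctorIsoCompQ _ 0).app (T'.X q)) ?_
    have h1 := (rel_comp_iff h' (𝟙 _) (fun V' W'' hh hV' hW'' => pcHom_appLE_of_flat h' hV' hW'' hh) (-1)
      (DCoh.inD _ (T'.X q)))
    rw [Category.id_comp] at h1
    refine h1.1 ((rel_id_iff _ _).2 ((DCohLib.isPC_inD_iff _).2.2 ?_))
    rcases lt_trichotomy q a with hq | rfl | hq
    · exact (PullbackMod.isQCoh_and_isFP_of_isFinLocFree _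
        (isFinLocFree_of_isZero (isZero_resCx W'.ι (hTlow q hq)))).2
    · exact DCohMore.isFP_restrict W'.ι hTp
    · exact (PullbackMod.isQCoh_and_isFP_of_isFinLocFree _ (isFinLocFree_restrict W'.ι (hTf q hq))).2
  obtain ⟨hTpc, hTamp⟩ := Groth.Agent.S6216.result h' T' a (max a d) (fun q hq => isZero_resCx W'.ι
    (hq.elim (hTlow q) (hThi q))) hfl hfp
  -- back to the original space
  let O : (Spec (CommRingCat.of (MvPolynomial (Fin n) Γ(Y, V)))).Opens := V₀.ι ''ᵁ (W.ι ''ᵁ W')
  let U : X.Opens := U₁.ι ''ᵁ (i ⁻¹ᵁ O)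
  have hxU : x ∈ U := ⟨x₁, ⟨⟨i.base x₁, hy⟩, ⟨w, hTflat, rfl⟩, rfl⟩, rfl⟩
  let j : (W' : Scheme.{u}) ⟶ Spec (CommRingCat.of (MvPolynomial (Fin n) Γ(Y, V))) := W'.ι ≫ W.ι ≫ V₀.ι
  let eT' : DCoh.toD _ T' ≅ (DCoh.restrictD j).obj (DCoh.toD _ E) :=
    (restrictDQ W'.ι T).symm ≪≫ (DCoh.restrictD W'.ι).mapIso (eT ≪≫ (restrictDQ W.ι _).symm ≪≫
      (DCoh.restrictD W.ι).mapIso (restrictDQ V₀.ι E).symm) ≪≫
      (DCoh.restrictD W'.ι).mapIso ((restrictDComp W.ι V₀.ι).app _).symm ≪≫
      ((restrictDComp W'.ι (W.ι ≫ V₀.ι)).app _).symm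
  refine ⟨U, hxU, fun m => ?_, fun z => ?_⟩
  · have hpcT : DCoh.IsPseudoCoherentD m (DCoh.toD _ T') := by
      have h1 := rel_comp_iff h' (𝟙 _) (fun V' W'' hh hV' hW'' => pcHom_appLE_of_flat h' hV' hW'' hh) m
        (DCoh.toD _ T')
      rw [Category.id_comp] at h1
      exact (rel_id_iff _ _).1 (h1.2 (hTpc m))
    have hjO : Set.range j ⊆ Set.range O.ι := by
      rintro _ ⟨z, rfl⟩
      exact ⟨⟨_, ⟨_, ⟨z.1, z.2, rfl⟩, rfl⟩⟩, rfl⟩
    have hEO : DCoh.IsPseudoCoherentD m ((DCoh.restrictD O.ι).obj (DCoh.toD _ E)) := by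
      refine isPseudoCoherentD_of_local fun y => ?_
      obtain ⟨y', ⟨v, hv, hv'⟩, hy'⟩ : ∃ y', y' ∈ W.ι ''ᵁ W' ∧ V₀.ι.base y' = y.1 := y.2
      haveI : IsOpenImmersion (IsOpenImmersion.lift O.ι j hjO) := by
        haveI : IsOpenImmersion (IsOpenImmersion.lift O.ι j hjO ≫ O.ι) := by
          rw [IsOpenImmersion.lift_fac]; infer_instance
        exact IsOpenImmersion.of_comp _ O.ι
      refine ⟨_, IsOpenImmersion.lift O.ι j hjO, inferInstance, ⟨v, hv⟩, Subtype.ext ?_,
        isPseudoCoherentD_iso (eT' ≪≫ (restrictDCongr (IsOpenImmersion.lift_fac O.ι j hjO).symm ≪≫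
          restrictDComp (IsOpenImmersion.lift O.ι j hjO) O.ι).app _) hpcT⟩
      exact (congrArg (fun k => k.base (⟨v, hv⟩ : W')) (IsOpenImmersion.lift_fac O.ι j hjO)).trans
        ((congrArg V₀.ι.base hv').trans hy')
    let P := i ⁻¹ᵁ O
    have hP : DerSch.IsPseudoCoherentRel (P.ι ≫ U₁.ι ≫ f) m ((DCoh.restrictD P.ι).obj (DCoh.toD _ F₁)) := by
      obtain ⟨e⟩ := nonempty_restrict_pushD i O (DCoh.toD _ F₁)
      rw [← hig, ← Category.assoc, ← morphismRestrict_ι, Category.assoc]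
      exact (rel_comp_iff (O.ι ≫ g) (i ∣_ O) (fun V' W'' hh hV' hW'' => pcHom_appLE_of_flat (O.ι ≫ g) hV' hW'' hh)
        _ _).1 ((rel_closed_iff (i ∣_ O) _ _).2
          (isPseudoCoherentD_iso ((DCoh.restrictD O.ι).mapIso (pushDQ i F₁).symm ≪≫ e) hEO))
    have h1 := rel_restrict (U₁.ι.isoImage P).inv (P.ι ≫ U₁.ι ≫ f) hP
    have hinv : (U₁.ι.isoImage P).inv ≫ P.ι ≫ U₁.ι = U.ι := Scheme.Hom.isoImage_inv_ι U₁.ι P
    have h2 : (U₁.ι.isoImage P).inv ≫ P.ι ≫ U₁.ι ≫ f = U.ι ≫ f := by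
      simpa only [Category.assoc] using congrArg (fun k => k ≫ f) hinv
    rw [h2] at h1
    exact rel_of_iso (U.ι ≫ f)
      ((DCoh.restrictD (U₁.ι.isoImage P).inv).mapIso
          ((DCoh.restrictD P.ι).mapIso (restrictDQ U₁.ι F).symm) ≪≫
        (DCoh.restrictD (U₁.ι.isoImage P).inv).mapIso ((restrictDComp P.ι U₁.ι).app _).symm ≪≫
        ((restrictDComp (U₁.ι.isoImage P).inv (P.ι ≫ U₁.ι)).symm ≪≫ restrictDCongr hinv).app _ ≪≫
        restrictDQ U.ι F) h1
  · obtain ⟨x', hx', hxz⟩ := z.2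
    refine (hasTorAmplitudeAt_open_iff U.ι f F a b z).2 ?_
    rw [show U.ι.base z = U₁.ι.base x' from hxz.symm]
    refine amp_top (n := max a d) ?_ fun q hq => ?_
    swap
    · exact ((DerSch.stalkOver f _).map_isZero ((HomologicalComplex.exactAt_iff_isZero_homology _ _).1
        ((CochainComplex.isLE_iff F b).1 inferInstance q (by omega)))).of_iso
        ((DerivedCategory.homologyFunctorFactors _ q).app _ ≪≫ (F.sc q).mapHomologyIso (DerSch.stalkOver f _))
    refine (hasTorAmplitudeAt_open_iff U₁.ι f F a _ x').1 ?_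
    obtain ⟨v₀, ⟨v, hv, rfl⟩, hvi⟩ := hx'
    have h1 : DerSch.HasTorAmplitudeAt g a (max a d) E (V₀.ι.base (W.ι.base v)) := by
      refine (hasTorAmplitudeAt_open_iff V₀.ι g E a _ _).1 ((hasTorAmplitudeAt_open_iff W.ι (V₀.ι ≫ g) _ a _ v).1 ?_)
      refine hasTorAmplitudeAt_congr h eT ?_
      exact (hasTorAmplitudeAt_open_iff W'.ι h T a _ ⟨v, hv⟩).1 (hTamp ⟨v, hv⟩)
    replace hvi : V₀.ι.base (W.ι.base v) = i.base x' := hvi
    rw [hvi] at h1
    show DerSch.HasTorAmplitudeAt (U₁.ι ≫ f) a (max a d) F₁ x'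
    rw [← hig]
    exact amp_of_iso (DerivedCategory.Q.mapIso (stalkCxOverResIso g (i.base x') E ≪≫
      (DTen.resCx (g.stalkMap (i.base x')).hom).mapIso (pushStalkCxIso i x' F₁) ≪≫
        (stalkCxOverCompIso i g x' F₁).symm)) h1

end Groth.Agent.RelPCLib
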