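import Groth.Agent.DCohLib.TwoThree
import Groth.Agent.DCohLib.PCTop
import Groth.Agent.DCohLib.SuppOpen
import Groth.Agent.DCohLib.Summand
import Groth.Agent.DCohLib.OpenD
import Groth.Agent.DCohLib.ClosedPush
import Groth.Agent.DCohLib.LocFreeCx
import Groth.Agent.DCohLib.LocLift
import Groth.Agent.DCohLib.ProjPerf
import Groth.Agent.DCohLib.FreeInd

/-!
# Derived direct images along closed immersions, for arbitrary complexes of modules
-/

set_option autoImplicit false
set_option backward.isDefEq.respectTransparency false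
set_option linter.style.haveILetI false
set_option linter.unusedSectionVars false
set_option maxHeartbeats 1000000

universe u

open CategoryTheory CategoryTheory.Limits AlgebraicGeometry TopologicalSpace
open CategoryTheory.Pretriangulated

attribute [local instance] HasDerivedCategory.standard

noncomputable section

namespace Groth.Agent.RelPCLib

open Groth.Agent.DCohLib

variable {Z X : Scheme.{u}} (i : Z ⟶ X) [IsClosedImmersion i]

instance preservesFiniteLimits_push : PreservesFiniteLimits (Scheme.Modules.pushforward i) := by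
  haveI : PreservesLimitsOfSize.{0, 0} (Scheme.Modules.pushforward i) :=
    (Scheme.Modules.pullbackPushforwardAdjunction i).rightAdjoint_preservesLimits
  infer_instance

instance preservesFiniteColimits_push : PreservesFiniteColimits (Scheme.Modules.pushforward i) := by
  haveI : (Scheme.Modules.pushforward i).PreservesHomology :=
    Functor.preservesHomology_of_preservesEpis_and_kernels _
  exact Functor.preservesFiniteColimits_of_preservesHomology _

/-- The direct image in the derived category. -/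
abbrev pushD : DCoh.D Z ⥤ DCoh.D X := (Scheme.Modules.pushforward i).mapDerivedCategory

/-- The direct image of complexes. -/
abbrev pushC : CochainComplex Z.Modules ℤ ⥤ CochainComplex X.Modules ℤ :=
  (Scheme.Modules.pushforward i).mapHomologicalComplex (ComplexShape.up ℤ)

/-- The direct image is computed termwise. -/
def pushDQ (F : CochainComplex Z.Modules ℤ) :
    (pushD i).obj (DerivedCategory.Q.obj F) ≅ DerivedCategory.Q.obj ((pushC i).obj F) :=
  (Scheme.Modules.pushforward i).mapDerivedCategoryFactors.app F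

/-- Cohomology sheaves commute with the direct image. -/
def pushHDIso (K : DCoh.D Z) (n : ℤ) :
    DCoh.HD ((pushD i).obj K) n ≅ (Scheme.Modules.pushforward i).obj (DCoh.HD K n) :=
  (DerivedCategory.homologyFunctor X.Modules n).mapIso
      ((pushD i).mapIso (DerivedCategory.Q.objObjPreimageIso K).symm ≪≫ pushDQ i _) ≪≫
    (DerivedCategory.homologyFunctorFactors X.Modules n).app _ ≪≫
    ShortComplex.mapHomologyIso ((DerivedCategory.Q.objPreimage K).sc n) (Scheme.Modules.pushforward i) ≪≫
    (Scheme.Modules.pushforward i).mapIso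
      (((DerivedCategory.homologyFunctorFactors Z.Modules n).app _).symm ≪≫
        (DerivedCategory.homologyFunctor Z.Modules n).mapIso (DerivedCategory.Q.objObjPreimageIso K))

theorem aboveZero_pushD {m : ℤ} {K : DCoh.D Z} (h : AboveZero m K) : AboveZero m ((pushD i).obj K) :=
  fun n hn => ((Scheme.Modules.pushforward i).map_isZero (h n hn)).of_iso (pushHDIso i K n)

theorem isZero_of_push {M : Z.Modules} (h : IsZero ((Scheme.Modules.pushforward i).obj M)) : IsZero M := by
  haveI := isIso_counit_closedImmersion i M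
  exact ((Scheme.Modules.pullback i).map_isZero h).of_iso
    (asIso ((Scheme.Modules.pullbackPushforwardAdjunction i).counit.app M)).symm

theorem aboveZero_of_pushD {m : ℤ} {K : DCoh.D Z} (h : AboveZero m ((pushD i).obj K)) : AboveZero m K :=
  fun n hn => isZero_of_push i ((h n hn).of_iso (pushHDIso i K n).symm)

theorem mIso_pushD {m : ℤ} {K L : DCoh.D Z} {α : K ⟶ L} (h : MIso m α) : MIso m ((pushD i).map α) := by
  obtain ⟨D, g, k, hT, hD⟩ := h
  exact ⟨_, _, _, (pushD i).map_distinguished _ hT, aboveZero_pushD i hD⟩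

/-- Restricting a derived direct image to an open. -/
theorem nonempty_restrict_pushD (V : X.Opens) (K : DCoh.D Z) :
    Nonempty ((DCoh.restrictD V.ι).obj ((pushD i).obj K) ≅
      (pushD (i ∣_ V)).obj ((DCoh.restrictD (i ⁻¹ᵁ V).ι).obj K)) := by
  let F := DerivedCategory.Q.objPreimage K
  let e := DerivedCategory.Q.objObjPreimageIso K
  let c : (resCx V.ι).obj ((pushC i).obj F) ≅ (pushC (i ∣_ V)).obj ((resCx (i ⁻¹ᵁ V).ι).obj F) :=
    HomologicalComplex.Hom.isoOfComponents (fun q => (restrictPushIso i V).app (F.X q))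
      (fun p q _ => ((restrictPushIso i V).hom.naturality (F.d p q)).symm)
  exact ⟨(DCoh.restrictD V.ι).mapIso ((pushD i).mapIso e.symm ≪≫ pushDQ i F) ≪≫ restrictDQ V.ι _ ≪≫
    DerivedCategory.Q.mapIso c ≪≫
    (pushDQ (i ∣_ V) ((resCx (i ⁻¹ᵁ V).ι).obj F)).symm ≪≫ (pushD (i ∣_ V)).mapIso ((restrictDQ (i ⁻¹ᵁ V).ι F).symm ≪≫
      (DCoh.restrictD (i ⁻¹ᵁ V).ι).mapIso e)⟩

/-- The direct image of a module in degree zero. -/
def pushInD (M : Z.Modules) :
    (pushD i).obj (DCoh.inD Z M) ≅ DCoh.inD X ((Scheme.Modules.pushforward i).obj M) :=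
  ((Scheme.Modules.pushforward i).mapDerivedCategorySingleFunctor 0).app M

/-- The structure sheaf has pseudo-coherent direct image. -/
def PCUnit : Prop :=
  ∀ m : ℤ, DCoh.IsPseudoCoherentD m (DCoh.inD X ((Scheme.Modules.pushforward i).obj (Coh.structureModule Z)))

theorem PCUnit.restrict (h : PCUnit i) (V : X.Opens) : PCUnit (i ∣_ V) := fun m => by
  refine isPseudoCoherentD_iso ?_ (isPseudoCoherentD_restrict V.ι (h m))
  exact ((Scheme.Modules.restrictFunctor V.ι).mapDerivedCategorySingleFunctor 0).app _ ≪≫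
    (DerivedCategory.singleFunctor (V : Scheme.{u}).Modules 0).mapIso
      ((restrictPushIso i V).app _ ≪≫
        (Scheme.Modules.pushforward (i ∣_ V)).mapIso (restrictUnit (i ⁻¹ᵁ V).ι))

theorem pc_zero {m : ℤ} {K : DCoh.D X} (h : AboveZero m K) : DCoh.IsPseudoCoherentD m K :=
  (isPseudoCoherentD_iff m K).2 fun _ => ⟨⊤, trivial, (pcOn_of_aboveZero h).restrict _⟩

theorem pc_push_free (h : PCUnit i) : ∀ (n : ℕ) (m : ℤ),
    DCoh.IsPseudoCoherentD m (DCoh.inD X ((Scheme.Modules.pushforward i).obj (FlatMod.freeMod Z n)))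
  | 0, m => by
    have hM : IsZero (FlatMod.freeMod Z 0) :=
      (IsZero.iff_id_eq_zero _).2 (Sigma.hom_ext _ _ fun a => a.elim0)
    exact pc_zero (aboveZero_zero m ((DerivedCategory.singleFunctor X.Modules 0).map_isZero
      ((Scheme.Modules.pushforward i).map_isZero hM)))
  | n + 1, m => by
    let P := Scheme.Modules.pushforward i
    refine isPseudoCoherentD_iso ((DerivedCategory.singleFunctor X.Modules 0).mapIso
      (P.mapIso (freeModBiprod Z n 1))) ?_
    let S₀ := ShortComplex.mk (biprod.inl : FlatMod.freeMod Z n ⟶ FlatMod.freeMod Z n ⊞ FlatMod.freeMod Z 1)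
      biprod.snd biprod.inl_snd
    have hS := ((ShortComplex.Splitting.ofHasBinaryBiproduct (FlatMod.freeMod Z n) (FlatMod.freeMod Z 1)).map P).shortExact
    refine isPseudoCoherentD_obj₂ _ hS.singleTriangle_distinguished (pc_push_free h n m) ?_
    exact isPseudoCoherentD_iso ((DerivedCategory.singleFunctor X.Modules 0).mapIso
      (P.mapIso (freeModOne Z).symm)) (h m)

theorem pc_push_single (h : PCUnit i) (n : ℕ) (a m : ℤ) (M : Z.Modules) (e : M ≅ FlatMod.freeMod Z n) :
    DCoh.IsPseudoCoherentD m ((pushD i).obj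
      (DerivedCategory.Q.obj ((HomologicalComplex.single Z.Modules (ComplexShape.up ℤ) a).obj M))) := by
  let s : DCoh.inD Z M ≅ ((DerivedCategory.singleFunctor Z.Modules a).obj M)⟦a⟧ :=
    (((DerivedCategory.singleFunctors Z.Modules).shiftIso a 0 a (by omega)).app M).symm
  have h0 : DCoh.IsPseudoCoherentD (m - a) ((pushD i).obj (DCoh.inD Z M)) :=
    isPseudoCoherentD_iso ((DerivedCategory.singleFunctor X.Modules 0).mapIso
      ((Scheme.Modules.pushforward i).mapIso e.symm) ≪≫ (pushInD i M).symm) (pc_push_free i h n (m - a))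
  refine isPseudoCoherentD_iso ?_ (isPseudoCoherentD_shift h0 (-a) (show m - a - -a ≤ m by omega))
  exact (((pushD i).commShiftIso (-a)).app _).symm ≪≫ (pushD i).mapIso
    ((shiftFunctor (DCoh.D Z) (-a)).mapIso s ≪≫
      (shiftFunctorCompIsoId (DCoh.D Z) a (-a) (by omega)).app _ ≪≫
      (DerivedCategory.singleFunctorIsoCompQ Z.Modules a).app M)

theorem pc_push_bdd (h : PCUnit i) (m : ℤ) : ∀ (k : ℕ) (a : ℤ) (E : CochainComplex Z.Modules ℤ),
    (∀ q, q < a ∨ a + k ≤ q → IsZero (E.X q)) →
    (∀ q, ∃ n : ℕ, Nonempty (E.X q ≅ FlatMod.freeMod Z n)) →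
    DCoh.IsPseudoCoherentD m ((pushD i).obj (DerivedCategory.Q.obj E))
  | 0, a, E, hz, _ => by
    have hE : IsZero E := (IsZero.iff_id_eq_zero E).2
      (HomologicalComplex.hom_ext _ _ fun q => (hz q (by omega)).eq_of_src _ _)
    exact pc_zero (aboveZero_zero m ((pushD i).map_isZero (DerivedCategory.Q.map_isZero hE)))
  | k + 1, a, E, hz, hfree => by
    have hg : ∀ q, (ComplexShape.up ℤ).Rel q a → E.d q a ≫ 𝟙 (E.X a) = 0 := fun q hq => by
      have hq' : q + 1 = a := hq
      exact (hz q (by omega)).eq_of_src _ _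
    let g := HomologicalComplex.mkHomToSingle (𝟙 (E.X a)) hg
    have hfg : brutalGEι E (a + 1) ≫ g = 0 := HomologicalComplex.hom_ext _ _ fun q => by
      rcases eq_or_ne q a with rfl | hq
      · exact (isZero_brutalGE_X E (q + 1) q (by omega)).eq_of_src _ _
      · exact (HomologicalComplex.isZero_single_obj_X _ _ _ _ hq).eq_of_tgt _ _
    have hspl : ∀ q, ((ShortComplex.mk (brutalGEι E (a + 1)) g hfg).map
        (HomologicalComplex.eval Z.Modules (ComplexShape.up ℤ) q)).Splitting := fun q => by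
      by_cases hq : q = a
      · subst hq
        refine ShortComplex.Splitting.ofIsZeroOfIsIso _ (isZero_brutalGE_X E (q + 1) q (by omega)) ?_
        show IsIso (g.f q)
        rw [HomologicalComplex.mkHomToSingle_f]
        infer_instance
      · refine ShortComplex.Splitting.ofIsIsoOfIsZero _ ?_
          (HomologicalComplex.isZero_single_obj_X (ComplexShape.up ℤ) a (E.X a) q hq)
        show IsIso ((brutalGEι E (a + 1)).f q)
        by_cases hq' : a + 1 ≤ q
        · exact isIso_brutalGEι_f E (a + 1) q hq'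
        · exact ⟨0, (isZero_brutalGE_X E (a + 1) q (by omega)).eq_of_src _ _, (hz q (by omega)).eq_of_src _ _⟩
    have hS : (ShortComplex.mk (brutalGEι E (a + 1)) g hfg).ShortExact :=
      HomologicalComplex.shortExact_of_degreewise_shortExact _ fun q => (hspl q).shortExact
    refine isPseudoCoherentD_obj₂ _ ((pushD i).map_distinguished _ (DerivedCategory.triangleOfSES_distinguished hS))
      ?_ ?_
    · refine pc_push_bdd h m k (a + 1) (brutalGE E (a + 1)) (fun q hq => ?_) fun q => ?_
      · rcases hq with hq | hq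
        · exact isZero_brutalGE_X E (a + 1) q hq
        · exact IsZero.of_mono ((brutalGEι E (a + 1)).f q) (hz q (by omega))
      · by_cases hq : a + 1 ≤ q
        · haveI := isIso_brutalGEι_f E (a + 1) q hq
          obtain ⟨n, ⟨e⟩⟩ := hfree q
          exact ⟨n, ⟨asIso ((brutalGEι E (a + 1)).f q) ≪≫ e⟩⟩
        · exact ⟨0, ⟨(isZero_brutalGE_X E (a + 1) q (by omega)).iso
            ((IsZero.iff_id_eq_zero _).2 (Sigma.hom_ext _ _ fun b => b.elim0))⟩⟩
    · obtain ⟨n, ⟨e⟩⟩ := hfree a
      exact pc_push_single i h n a m (E.X a) e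

theorem isEmpty_of_disjoint (V : X.Opens) (hV : Disjoint (V : Set X) (Set.range i)) :
    IsEmpty ((i ⁻¹ᵁ V : Z.Opens) : Scheme.{u}) :=
  ⟨fun z => Set.disjoint_left.1 hV z.2 ⟨z.1, rfl⟩⟩

theorem pc_of_isEmpty [IsEmpty Z] (m : ℤ) (K : DCoh.D Z) : AboveZero m K :=
  fun n _ => isZero_of_stalks fun z => isEmptyElim z

theorem isPC_restrict_off (V : X.Opens) (hV : Disjoint (V : Set X) (Set.range i)) (m : ℤ) (K : DCoh.D Z) :
    DCoh.IsPseudoCoherentD m ((DCoh.restrictD V.ι).obj ((pushD i).obj K)) := by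
  haveI := isEmpty_of_disjoint i V hV
  obtain ⟨e⟩ := nonempty_restrict_pushD i V K
  exact isPseudoCoherentD_iso e.symm (pc_zero (aboveZero_pushD _ (pc_of_isEmpty m _)))

/-- Pseudo-coherence goes up along a closed immersion with pseudo-coherent structure sheaf. -/
theorem pc_pushD (h : PCUnit i) {m : ℤ} {K : DCoh.D Z} (hK : DCoh.IsPseudoCoherentD m K) :
    DCoh.IsPseudoCoherentD m ((pushD i).obj K) := by
  refine isPseudoCoherentD_of_local fun x => ?_
  by_cases hx : x ∈ Set.range i
  · obtain ⟨z, rfl⟩ := hx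
    obtain ⟨V₀, hz, E, α, hE, hα⟩ := (isPseudoCoherentD_iff m K).1 hK z
    have hP : DCoh.IsPerfect (DerivedCategory.Q.obj E) := isPerfect_of_perfOn ⟨E, hE, ⟨Iso.refl _⟩⟩
    obtain ⟨W, hzW, P, ⟨a, b, hab⟩, hfree, ⟨eP⟩⟩ := (isPerfect_iff_free _).1 hP ⟨z, hz⟩
    obtain ⟨V, hV⟩ := (Topology.IsInducing.isOpen_iff i.isClosedEmbedding.isInducing).1 (W.ι ≫ V₀.ι).opensRange.2
    let V' : X.Opens := ⟨V, hV.1⟩
    have hVU : i ⁻¹ᵁ V' = (W.ι ≫ V₀.ι).opensRange := TopologicalSpace.Opens.ext hV.2
    have hzV : i.base z ∈ V' := by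
      have h' : z ∈ i ⁻¹ᵁ V' := by rw [hVU]; exact ⟨⟨⟨z, hz⟩, hzW⟩, rfl⟩
      exact h'
    refine ⟨V', V'.ι, inferInstance, ⟨i.base z, hzV⟩, rfl, ?_⟩
    let r : ((i ⁻¹ᵁ V' : Z.Opens) : Scheme.{u}) ⟶ W :=
      (Z.isoOfEq hVU).hom ≫ (W.ι ≫ V₀.ι).isoOpensRange.inv
    have hr : r ≫ W.ι ≫ V₀.ι = (i ⁻¹ᵁ V').ι := by
      simp only [r, Category.assoc]
      rw [Scheme.Hom.isoOpensRange_inv_comp, Scheme.isoOfEq_hom_ι]
    obtain ⟨e⟩ := nonempty_restrict_pushD i V' K
    refine isPseudoCoherentD_iso e.symm ?_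
    let β : DerivedCategory.Q.obj ((resCx r).obj P) ⟶ (DCoh.restrictD (i ⁻¹ᵁ V').ι).obj K :=
      (restrictDQ r P).inv ≫ (DCoh.restrictD r).map (eP.hom ≫ (DCoh.restrictD W.ι).map α) ≫
        ((restrictDCongr hr.symm ≪≫ restrictDComp r (W.ι ≫ V₀.ι)).app K ≪≫
          (DCoh.restrictD r).mapIso ((restrictDComp W.ι V₀.ι).app K)).inv
    have hβ : MIso m β := (mIso_of_isIso _ _).comp
      ((((mIso_of_isIso _ _).comp (hα.restrict W.ι)).restrict r).comp (mIso_of_isIso _ _))
    obtain ⟨D, g, k, hT, hD⟩ := hβ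
    refine isPseudoCoherentD_obj₂ _ ((pushD (i ∣_ V')).map_distinguished _ hT) ?_
      (pc_zero (aboveZero_pushD _ hD))
    refine pc_push_bdd (i ∣_ V') (h.restrict i V') m (b + 1 - a).toNat a _
      (fun q hq => isZero_resCx r (hab q (by omega))) fun q => ?_
    obtain ⟨n, ⟨en⟩⟩ := hfree q
    exact ⟨n, ⟨(Scheme.Modules.restrictFunctor r).mapIso en ≪≫ restrictFreeMod r n⟩⟩
  · let V : X.Opens := ⟨(Set.range i)ᶜ, i.isClosedEmbedding.isClosed_range.isOpen_compl⟩
    exact ⟨V, V.ι, inferInstance, ⟨x, hx⟩, rfl,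
      isPC_restrict_off i V (disjoint_compl_left) m K⟩

end Groth.Agent.RelPCLib
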