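import Groth.Agent.RelPCLib.Chart

/-!
# Independence of charts, locality of the chart test
-/

set_option autoImplicit false
set_option backward.isDefEq.respectTransparency false
set_option linter.style.haveILetI false
set_option linter.unusedSectionVars false
set_option maxHeartbeats 1000000

universe u

open CategoryTheory CategoryTheory.Limits AlgebraicGeometry TopologicalSpace Opposite

attribute [local instance] HasDerivedCategory.standard

noncomputable section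

namespace Groth.Agent.RelPCLib

open Groth.Agent.DRingLib Groth.Agent.PCHomLib

variable {X : Scheme.{u}} {U : X.Opens}

theorem surjective_elim {R : Type u} [CommRing R] {σ τ : Type} (g : τ → MvPolynomial σ R) :
    Function.Surjective (MvPolynomial.aeval (R := R) (Sum.elim MvPolynomial.X g)).toRingHom := fun p =>
  ⟨MvPolynomial.rename Sum.inl p, by
    show MvPolynomial.aeval _ (MvPolynomial.rename Sum.inl p) = p
    rw [MvPolynomial.aeval_rename]
    simp [Function.comp_def]⟩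

theorem surjective_elim' {R : Type u} [CommRing R] {σ τ : Type} (g : σ → MvPolynomial τ R) :
    Function.Surjective (MvPolynomial.aeval (R := R) (Sum.elim g MvPolynomial.X)).toRingHom := fun p =>
  ⟨MvPolynomial.rename Sum.inr p, by
    show MvPolynomial.aeval _ (MvPolynomial.rename Sum.inr p) = p
    rw [MvPolynomial.aeval_rename]
    simp [Function.comp_def]⟩

/-- Independence of the presentation. -/
theorem cpc_pres {m : ℤ} {K : DCoh.D X} (hU : IsAffineOpen U) {R : Type u} [CommRing R] {n k : ℕ}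
    {φ : MvPolynomial (Fin n) R →+* Γ(X, U)} (hφ : Function.Surjective φ)
    {ψ : MvPolynomial (Fin k) R →+* Γ(X, U)} (hψ : Function.Surjective ψ)
    (hc : φ.comp MvPolynomial.C = ψ.comp MvPolynomial.C) : CPC m K U φ ↔ CPC m K U ψ := by
  choose g hg using fun i => hφ (ψ (MvPolynomial.X i))
  choose g' hg' using fun i => hψ (φ (MvPolynomial.X i))
  have e : φ.comp (MvPolynomial.aeval (R := R) (Sum.elim MvPolynomial.X g)).toRingHom =
      ψ.comp (MvPolynomial.aeval (R := R) (Sum.elim g' MvPolynomial.X)).toRingHom := by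
    refine MvPolynomial.ringHom_ext (fun a => ?_) fun i => ?_
    · simpa using RingHom.congr_fun hc a
    · cases i <;> simp [hg, hg']
  rw [← cpc_comp hU hφ (surjective_elim g) (pcMap_elim' g),
    ← cpc_comp hU hψ (surjective_elim' g') (pcMap_elim g'), e]

theorem pcHom_C (R : Type u) [CommRing R] (n : ℕ) :
    PCHom (MvPolynomial.C : R →+* MvPolynomial (Fin n) R) := by
  have := pcHom_of_pcMap (RingHom.id (MvPolynomial (Fin n) R)) Function.surjective_id
    (pcMap_of_bijective _ Function.bijective_id)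
  rwa [RingHom.id_comp] at this

/-- Change of the base ring. -/
theorem cpc_base {m : ℤ} {K : DCoh.D X} (hU : IsAffineOpen U) {R R' : Type u} [CommRing R] [CommRing R']
    {ι : R →+* R'} (hι : PCHom ι) {n k : ℕ}
    {φ : MvPolynomial (Fin n) R →+* Γ(X, U)} (hφ : Function.Surjective φ)
    {ψ : MvPolynomial (Fin k) R' →+* Γ(X, U)} (hψ : Function.Surjective ψ)
    (hc : φ.comp MvPolynomial.C = (ψ.comp MvPolynomial.C).comp ι) : CPC m K U φ ↔ CPC m K U ψ := by
  obtain ⟨l, θ, hθ, hθc, hθp⟩ := hι.comp (pcHom_C R' k)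
  rw [← cpc_comp hU hψ hθ hθp]
  exact cpc_pres hU hφ (hψ.comp hθ) (by rw [RingHom.comp_assoc, hθc, ← RingHom.comp_assoc, hc])

section Local

variable {R : Type u} [CommRing R] {n : ℕ} {φ : MvPolynomial (Fin n) R →+* Γ(X, U)}

theorem exists_chart_basicOpen (hU : IsAffineOpen U) (hφ : Function.Surjective φ) (g : MvPolynomial (Fin n) R)
    [IsClosedImmersion (emb U φ)] (m : ℤ) (K : DCoh.D X) :
    ∃ (k : ℕ) (χ : MvPolynomial (Fin k) R →+* Γ(X, X.basicOpen (φ g))), Function.Surjective χ ∧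
      χ.comp MvPolynomial.C = (X.presheaf.map (homOfLE (X.basicOpen_le (φ g))).op).hom.comp (φ.comp MvPolynomial.C) ∧
      (CPC m K (X.basicOpen (φ g)) χ ↔ DCoh.IsPseudoCoherentD m ((DCoh.restrictD (bas g).ι).obj
        ((pushD (emb U φ)).obj ((DCoh.restrictD U.ι).obj K)))) := by
  haveI := hU.isLocalization_basicOpen (φ g)
  let P' := Localization.Away g
  let φ' : P' →+* Γ(X, X.basicOpen (φ g)) :=
    IsLocalization.Away.map P' Γ(X, X.basicOpen (φ g)) φ g
  have hφ' : φ'.comp (algebraMap _ P') = (X.presheaf.map (homOfLE (X.basicOpen_le (φ g))).op).hom.comp φ :=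
    (show (IsLocalization.Away.map P' Γ(X, X.basicOpen (φ g)) φ g).comp (algebraMap _ P') =
        (algebraMap Γ(X, U) Γ(X, X.basicOpen (φ g))).comp φ by
      ext x <;> simp [IsLocalization.Away.map, IsLocalization.map_eq])
  have hsurj : Function.Surjective φ' := fun y => by
    obtain ⟨b, ⟨_, k, rfl⟩, rfl⟩ := IsLocalization.exists_mk'_eq (Submonoid.powers (φ g)) y
    obtain ⟨p, rfl⟩ := hφ b
    refine ⟨IsLocalization.mk' _ p (⟨g ^ k, k, rfl⟩ : Submonoid.powers g), ?_⟩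
    refine (IsLocalization.map_mk' _ _ _).trans ?_
    congr 1
    exact Subtype.ext (map_pow φ g k)
  obtain ⟨k, θ, hθ, hθc, hθp⟩ := (pcHom_C R n).comp (pcHom_away P' g)
  refine ⟨k, φ'.comp θ, hsurj.comp hθ, ?_, ?_⟩
  · rw [RingHom.comp_assoc, hθc, ← RingHom.comp_assoc, hφ', RingHom.comp_assoc]
  · rw [cpc_comp (hU.basicOpen (φ g)) hsurj hθ hθp]
    exact cpc_localization hU g hφ φ' hφ'

/-- The test passes to basic opens. -/
theorem cpc_basicOpen {m : ℤ} {K : DCoh.D X} (hU : IsAffineOpen U) (hφ : Function.Surjective φ)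
    (h : CPC m K U φ) (b : Γ(X, U)) {k : ℕ} {ψ : MvPolynomial (Fin k) R →+* Γ(X, X.basicOpen b)}
    (hψ : Function.Surjective ψ)
    (hc : ψ.comp MvPolynomial.C = (X.presheaf.map (homOfLE (X.basicOpen_le b)).op).hom.comp (φ.comp MvPolynomial.C)) :
    CPC m K (X.basicOpen b) ψ := by
  obtain ⟨g, rfl⟩ := hφ b
  haveI := isClosedImmersion_emb hU hφ
  obtain ⟨l, χ, hχ, hχc, hiff⟩ := exists_chart_basicOpen hU hφ g m K
  exact (cpc_pres (hU.basicOpen (φ g)) hχ hψ (hχc.trans hc.symm)).1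
    (hiff.2 (DCohLib.isPseudoCoherentD_restrict _ ((cpc_iff m K φ).1 h)))

/-- The test may be made on a covering by basic opens. -/
theorem cpc_of_basicOpen_cover {m : ℤ} {K : DCoh.D X} (hU : IsAffineOpen U) (hφ : Function.Surjective φ)
    {ι : Type*} (b : ι → Γ(X, U)) (hb : Ideal.span (Set.range b) = ⊤)
    (h : ∀ a, ∃ (k : ℕ) (ψ : MvPolynomial (Fin k) R →+* Γ(X, X.basicOpen (b a))), Function.Surjective ψ ∧
      ψ.comp MvPolynomial.C = (X.presheaf.map (homOfLE (X.basicOpen_le (b a))).op).hom.comp (φ.comp MvPolynomial.C) ∧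
      CPC m K (X.basicOpen (b a)) ψ) :
    CPC m K U φ := by
  obtain ⟨g, rfl⟩ : ∃ g : ι → MvPolynomial (Fin n) R, (fun a => φ (g a)) = b :=
    ⟨fun a => (hφ (b a)).choose, funext fun a => (hφ (b a)).choose_spec⟩
  haveI := isClosedImmersion_emb hU hφ
  refine cpc_of_cover hU g hb hφ fun a => ?_
  obtain ⟨k, ψ, hψ, hψc, hK⟩ := h a
  obtain ⟨l, χ, hχ, hχc, hiff⟩ := exists_chart_basicOpen hU hφ (g a) m K
  exact hiff.1 ((cpc_pres (hU.basicOpen (φ (g a))) hχ hψ (hχc.trans hψc.symm)).2 hK)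

end Local

section Test

variable {Y : Scheme.{u}} (f : X ⟶ Y)

/-- Some chart passes the test. -/
def Test (m : ℤ) (K : DCoh.D X) (U : X.Opens) (V : Y.Opens) (h : U ≤ f ⁻¹ᵁ V) : Prop :=
  ∃ (n : ℕ) (φ : MvPolynomial (Fin n) Γ(Y, V) →+* Γ(X, U)), DerSch.IsChart f U V h φ ∧ DerSch.ChartPC m K U V φ

theorem test_iff_of_chart {m : ℤ} {K : DCoh.D X} {U : X.Opens} (hU : IsAffineOpen U) {V : Y.Opens} {h : U ≤ f ⁻¹ᵁ V}
    {n : ℕ} {φ : MvPolynomial (Fin n) Γ(Y, V) →+* Γ(X, U)} (hφ : DerSch.IsChart f U V h φ) :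
    Test f m K U V h ↔ CPC m K U φ := by
  constructor
  · rintro ⟨k, ψ, hψ, hK⟩
    exact (cpc_pres hU hψ.1 hφ.1 (hψ.2.trans hφ.2.symm)).1 ((chartPC_iff m K hU hψ.1).1 hK)
  · exact fun hK => ⟨n, φ, hφ, (chartPC_iff m K hU hφ.1).2 hK⟩

theorem exists_chart {U : X.Opens} {V : Y.Opens} (h : U ≤ f ⁻¹ᵁ V) (hft : (f.appLE V U h).hom.FiniteType) :
    ∃ (n : ℕ) (φ : MvPolynomial (Fin n) Γ(Y, V) →+* Γ(X, U)), DerSch.IsChart f U V h φ := by
  letI := (f.appLE V U h).hom.toAlgebra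
  haveI : Algebra.FiniteType Γ(Y, V) Γ(X, U) := hft
  obtain ⟨n, φ, hφ, hc⟩ := PCHomLib.exists_presentation (A := Γ(Y, V)) (B := Γ(X, U))
  exact ⟨n, φ, hφ, hc⟩

theorem finiteType_of_test {m : ℤ} {K : DCoh.D X} {U : X.Opens} {V : Y.Opens} {h : U ≤ f ⁻¹ᵁ V}
    (hT : Test f m K U V h) : (f.appLE V U h).hom.FiniteType := by
  obtain ⟨n, φ, ⟨hφ, hc⟩, -⟩ := hT
  rw [← hc]
  exact (RingHom.FiniteType.of_surjective φ hφ).comp
    (RingHom.finiteType_algebraMap.mpr (inferInstance : Algebra.FiniteType Γ(Y, V) (MvPolynomial (Fin n) Γ(Y, V))))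

theorem finiteType_basicOpen {U : X.Opens} (hU : IsAffineOpen U) {V : Y.Opens} (h : U ≤ f ⁻¹ᵁ V) (b : Γ(X, U))
    (hft : (f.appLE V U h).hom.FiniteType) :
    (f.appLE V (X.basicOpen b) ((X.basicOpen_le b).trans h)).hom.FiniteType := by
  have e : (f.appLE V (X.basicOpen b) ((X.basicOpen_le b).trans h)).hom =
      (X.presheaf.map (homOfLE (X.basicOpen_le b)).op).hom.comp (f.appLE V U h).hom := by
    rw [← CommRingCat.hom_comp, Scheme.Hom.appLE_map]
  rw [e]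
  haveI := hU.isLocalization_basicOpen b
  exact (RingHom.finiteType_algebraMap.mpr (IsLocalization.finiteType_of_monoid_fg (Submonoid.powers b) _)).comp hft

/-- The test passes to basic opens. -/
theorem test_basicOpen {m : ℤ} {K : DCoh.D X} {U : X.Opens} (hU : IsAffineOpen U) {V : Y.Opens} {h : U ≤ f ⁻¹ᵁ V}
    (hT : Test f m K U V h) (b : Γ(X, U)) : Test f m K (X.basicOpen b) V ((X.basicOpen_le b).trans h) := by
  obtain ⟨n, ψ, hψ⟩ := exists_chart f ((X.basicOpen_le b).trans h) (finiteType_basicOpen f hU h b (finiteType_of_test f hT))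
  obtain ⟨k, φ, hφ, hK⟩ := hT
  refine (test_iff_of_chart f (hU.basicOpen b) hψ).2
    (cpc_basicOpen hU hφ.1 ((chartPC_iff m K hU hφ.1).1 hK) b hψ.1 ?_)
  rw [hψ.2, hφ.2, ← CommRingCat.hom_comp, Scheme.Hom.appLE_map]

/-- The test may be made on a covering by basic opens. -/
theorem test_of_cover {m : ℤ} {K : DCoh.D X} {U : X.Opens} (hU : IsAffineOpen U) {V : Y.Opens} {h : U ≤ f ⁻¹ᵁ V}
    (hft : (f.appLE V U h).hom.FiniteType) {ι : Type*} (b : ι → Γ(X, U)) (hb : Ideal.span (Set.range b) = ⊤)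
    (hT : ∀ a, Test f m K (X.basicOpen (b a)) V ((X.basicOpen_le (b a)).trans h)) : Test f m K U V h := by
  obtain ⟨n, φ, hφ⟩ := exists_chart f h hft
  refine (test_iff_of_chart f hU hφ).2 (cpc_of_basicOpen_cover hU hφ.1 b hb fun a => ?_)
  obtain ⟨k, ψ, hψ, hK⟩ := hT a
  refine ⟨k, ψ, hψ.1, ?_, (chartPC_iff m K (hU.basicOpen (b a)) hψ.1).1 hK⟩
  rw [hψ.2, hφ.2, ← CommRingCat.hom_comp, Scheme.Hom.appLE_map]

/-- The test does not see a localisation of the base. -/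
theorem test_base {m : ℤ} {K : DCoh.D X} {U : X.Opens} (hU : IsAffineOpen U) {V : Y.Opens} (hV : IsAffineOpen V)
    (r : Γ(Y, V)) (h : U ≤ f ⁻¹ᵁ Y.basicOpen r) :
    Test f m K U (Y.basicOpen r) h ↔ Test f m K U V (h.trans (f.preimage_mono (Y.basicOpen_le r))) := by
  haveI := hV.isLocalization_basicOpen r
  let ι : Γ(Y, V) →+* Γ(Y, Y.basicOpen r) := algebraMap _ _
  have hι : PCHom ι := pcHom_away _ r
  have hcomp : (f.appLE (Y.basicOpen r) U h).hom.comp ι =
      (f.appLE V U (h.trans (f.preimage_mono (Y.basicOpen_le r)))).hom := by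
    rw [← Scheme.Hom.map_appLE f h (homOfLE (Y.basicOpen_le r)).op]
    rfl
  have key : ∀ {n k : ℕ} (φ : MvPolynomial (Fin n) Γ(Y, V) →+* Γ(X, U))
      (ψ : MvPolynomial (Fin k) Γ(Y, Y.basicOpen r) →+* Γ(X, U)),
      DerSch.IsChart f U V (h.trans (f.preimage_mono (Y.basicOpen_le r))) φ →
      DerSch.IsChart f U (Y.basicOpen r) h ψ → (CPC m K U φ ↔ CPC m K U ψ) := fun φ ψ hφ hψ =>
    cpc_base hU hι hφ.1 hψ.1 (by rw [hφ.2, hψ.2, hcomp])
  constructor
  · rintro ⟨k, ψ, hψ, hK⟩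
    obtain ⟨n, θ, hθ, hθc, -⟩ := hι.comp (pcHom_C Γ(Y, Y.basicOpen r) k)
    have hφ : DerSch.IsChart f U V (h.trans (f.preimage_mono (Y.basicOpen_le r))) (ψ.comp θ) :=
      ⟨hψ.1.comp hθ, by rw [RingHom.comp_assoc, hθc, ← RingHom.comp_assoc, hψ.2, hcomp]⟩
    exact (test_iff_of_chart f hU hφ).2 ((key _ ψ hφ hψ).2 ((chartPC_iff m K hU hψ.1).1 hK))
  · rintro ⟨n, φ, hφ, hK⟩
    let ψ : MvPolynomial (Fin n) Γ(Y, Y.basicOpen r) →+* Γ(X, U) :=
      MvPolynomial.eval₂Hom (f.appLE (Y.basicOpen r) U h).hom fun i => φ (MvPolynomial.X i)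
    have hψm : ψ.comp (MvPolynomial.map ι) = φ := MvPolynomial.ringHom_ext
      (fun a => by
        rw [show φ (MvPolynomial.C a) = (f.appLE V U _).hom a from RingHom.congr_fun hφ.2 a, ← hcomp]
        simp [ψ])
      fun i => by simp [ψ]
    have hψ : DerSch.IsChart f U (Y.basicOpen r) h ψ :=
      ⟨fun y => by
        obtain ⟨p, hp⟩ := hφ.1 y
        exact ⟨MvPolynomial.map ι p, by rw [← hp, ← hψm]; rfl⟩,
      RingHom.ext fun a => by simp [ψ]⟩
    exact (test_iff_of_chart f hU hψ).2 ((key φ ψ hφ hψ).1 ((chartPC_iff m K hU hφ.1).1 hK))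

/-- Relative pseudo-coherence gives the test on every pair of affine opens. -/
theorem test_of_rel [LocallyOfFiniteType f] {m : ℤ} {K : DCoh.D X} (hK : DerSch.IsPseudoCoherentRel f m K)
    {U : X.Opens} (hU : IsAffineOpen U) {V : Y.Opens} (hV : IsAffineOpen V) (h : U ≤ f ⁻¹ᵁ V) :
    Test f m K U V h := by
  obtain ⟨-, 𝒱, h𝒱, hcov⟩ := hK
  have key : ∀ x : U, ∃ b : Γ(X, U), x.1 ∈ X.basicOpen b ∧
      Test f m K (X.basicOpen b) V ((X.basicOpen_le b).trans h) := by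
    rintro ⟨x, hx⟩
    have hy : f.base x ∈ ⨆ V ∈ 𝒱, (V : Y.Opens) := by rw [h𝒱]; trivial
    obtain ⟨V', hy⟩ := TopologicalSpace.Opens.mem_iSup.1 hy
    obtain ⟨hV'𝒱, hy⟩ := TopologicalSpace.Opens.mem_iSup.1 hy
    obtain ⟨𝒰, h𝒰, hU'⟩ := hcov V' hV'𝒱
    have hx' : x ∈ ⨆ U ∈ 𝒰, (U : X.Opens) := by rw [h𝒰]; exact hy
    obtain ⟨U', hx'⟩ := TopologicalSpace.Opens.mem_iSup.1 hx'
    obtain ⟨hU'𝒰, hx'⟩ := TopologicalSpace.Opens.mem_iSup.1 hx'
    have hle : (U' : X.Opens) ≤ f ⁻¹ᵁ (V' : Y.Opens) := by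
      rw [← h𝒰]
      exact le_biSup (fun U : X.affineOpens => (U : X.Opens)) hU'𝒰
    have hT : Test f m K (U' : X.Opens) (V' : Y.Opens) hle := hU' U' hU'𝒰 hle
    obtain ⟨r, r', hrr, hxr⟩ := exists_basicOpen_le_affine_inter hV V'.2 (f.base x) ⟨h hx, hle hx'⟩
    let s : Γ(X, (U' : X.Opens)) := f.appLE (V' : Y.Opens) (U' : X.Opens) hle r'
    have hs : X.basicOpen s = (U' : X.Opens) ⊓ f ⁻¹ᵁ Y.basicOpen r' := Scheme.basicOpen_appLE f _ _ hle r'
    have hxs : x ∈ X.basicOpen s := by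
      rw [hs, ← hrr]
      exact ⟨hx', hxr⟩
    obtain ⟨b, b', hbb, hxb⟩ := exists_basicOpen_le_affine_inter hU (U'.2.basicOpen s) x ⟨hx, hxs⟩
    refine ⟨b, hxb, ?_⟩
    have hT1 := test_basicOpen f (U'.2.basicOpen s) (test_basicOpen f U'.2 hT s) b'
    have hbD : X.basicOpen b ≤ f ⁻¹ᵁ Y.basicOpen r := by
      rw [hbb, hrr]
      exact (X.basicOpen_le b').trans (hs.le.trans inf_le_right)
    have hT2 : Test f m K (X.basicOpen b) (V' : Y.Opens) (hbb.le.trans (((X.basicOpen_le b').trans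
        (X.basicOpen_le s)).trans hle)) := by
      convert hT1 using 1
    have hT3 : Test f m K (X.basicOpen b) (Y.basicOpen r) hbD := by
      have := (test_base f (hU.basicOpen b) V'.2 r' (hrr ▸ hbD)).2 hT2
      convert this using 1
    exact (test_base f (hU.basicOpen b) hV r hbD).1 hT3
  choose b hb hT using key
  refine test_of_cover f hU (f.finiteType_appLE hV hU h) b ?_ hT
  refine hU.iSup_basicOpen_eq_self_iff.1 (le_antisymm (iSup_le fun a => X.basicOpen_le a.1) fun x hx => ?_)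
  exact TopologicalSpace.Opens.mem_iSup.2 ⟨⟨b ⟨x, hx⟩, ⟨x, hx⟩, rfl⟩, hb ⟨x, hx⟩⟩

/-- Relative pseudo-coherence from the test on some cover. -/
theorem rel_of_test [LocallyOfFiniteType f] {m : ℤ} {K : DCoh.D X}
    (h : ∀ x : X, ∃ (U : X.Opens) (V : Y.Opens) (hle : U ≤ f ⁻¹ᵁ V),
      IsAffineOpen U ∧ IsAffineOpen V ∧ x ∈ U ∧ Test f m K U V hle) : DerSch.IsPseudoCoherentRel f m K := by
  refine ⟨inferInstance, Set.univ, ?_, fun V _ =>
    ⟨{U | ∃ hle : (U : X.Opens) ≤ f ⁻¹ᵁ (V : Y.Opens), Test f m K (U : X.Opens) (V : Y.Opens) hle}, ?_, fun U hU _ => hU.2⟩⟩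
  · refine eq_top_iff.2 fun y _ => ?_
    obtain ⟨_, ⟨V : Y.Opens, hV, rfl⟩, hy, -⟩ :=
      Y.isBasis_affineOpens.exists_subset_of_mem_open (a := y) (Set.mem_univ y) isOpen_univ
    exact TopologicalSpace.Opens.mem_iSup.2 ⟨⟨V, hV⟩, TopologicalSpace.Opens.mem_iSup.2 ⟨trivial, hy⟩⟩
  refine le_antisymm (iSup₂_le fun U hU => hU.1) fun x hx => ?_
  obtain ⟨U, V', hle, hUa, hV'a, hxU, hT⟩ := h x
  obtain ⟨r, r', hrr, hxr⟩ := exists_basicOpen_le_affine_inter V.2 hV'a (f.base x) ⟨hx, hle hxU⟩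
  let s : Γ(X, U) := f.appLE V' U hle r'
  have hs : X.basicOpen s = U ⊓ f ⁻¹ᵁ Y.basicOpen r' := Scheme.basicOpen_appLE f _ _ hle r'
  have hsD : X.basicOpen s ≤ f ⁻¹ᵁ Y.basicOpen r' := hs.le.trans inf_le_right
  have hT1 := (test_base f (hUa.basicOpen s) hV'a r' hsD).2 (test_basicOpen f hUa hT s)
  have hsD' : X.basicOpen s ≤ f ⁻¹ᵁ Y.basicOpen r := hrr ▸ hsD
  have hT2 : Test f m K (X.basicOpen s) (Y.basicOpen r) hsD' := by
    convert hT1 using 1
  have hxs : x ∈ X.basicOpen s := by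
    rw [hs, ← hrr]
    exact ⟨hxU, hxr⟩
  exact TopologicalSpace.Opens.mem_iSup.2 ⟨⟨X.basicOpen s, hUa.basicOpen s⟩, TopologicalSpace.Opens.mem_iSup.2
    ⟨⟨_, (test_base f (hUa.basicOpen s) V.2 r hsD').1 hT2⟩, hxs⟩⟩

end Test

end Groth.Agent.RelPCLib
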