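import Groth.Agent.DRingLib.WeaklyEtaleAmp
import Groth.Agent.DRingLib.RestrictAmp
import Groth.Agent.DRingLib.RestrictPC
import Groth.Agent.DRingLib.PerfTor
import Groth.Agent.PCHomLib.RelLocal
import Mathlib.RingTheory.RingHom.StandardSmooth
import Mathlib.RingTheory.Flat.Stability

/-!
# Tor amplitude over smooth algebras

Amplitude `[a, b]` over `A` gives amplitude `[a - n, b]` over `A[X₁, …, Xₙ]` and over étale algebras over it.
-/

set_option autoImplicit false
set_option backward.isDefEq.respectTransparency false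
set_option linter.style.haveILetI false
set_option linter.unusedSectionVars false
set_option maxHeartbeats 1000000
set_option synthInstance.maxHeartbeats 200000

universe u

open CategoryTheory CategoryTheory.Limits MonoidalCategory
open scoped TensorProduct Polynomial

attribute [local instance] HasDerivedCategory.standard

noncomputable section

namespace Groth.Agent.RelPCLib

open Groth.Agent.DRingLib Groth.Agent.DTenLib Groth.Agent.DCohLib Groth.Agent.PCHomLib

section Diagonal

set_option backward.isDefEq.respectTransparency true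

variable (A : Type u) [CommRing A]

/-- Divided differences of monomials. -/
def ddMon : ℕ → A[X] ⊗[A] A[X]
  | 0 => 0
  | k + 1 => ddMon k * ((1 : A[X]) ⊗ₜ[A] Polynomial.X) + (Polynomial.X ^ k) ⊗ₜ[A] (1 : A[X])

/-- The divided difference. -/
def dd : A[X] →ₗ[A] A[X] ⊗[A] A[X] :=
  Polynomial.lsum fun k => LinearMap.toSpanSingleton A _ (ddMon A k)

theorem dd_monomial (k : ℕ) (a : A) : dd A (Polynomial.monomial k a) = a • ddMon A k := by
  simp [dd, Polynomial.sum_monomial_index]

theorem dd_mul_X (p : A[X]) :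
    dd A (p * Polynomial.X) = dd A p * ((1 : A[X]) ⊗ₜ[A] Polynomial.X) + p ⊗ₜ[A] (1 : A[X]) := by
  induction p using Polynomial.induction_on' with
  | add p q hp hq => rw [add_mul, map_add, hp, hq, map_add, add_mul, TensorProduct.add_tmul]; abel
  | monomial k a =>
    rw [Polynomial.monomial_mul_X, dd_monomial, dd_monomial, ddMon, smul_add, smul_mul_assoc,
      TensorProduct.smul_tmul', ← Polynomial.C_mul_X_pow_eq_monomial, ← Polynomial.smul_eq_C_mul]

theorem dd_spec (p : A[X]) :
    dd A p * (Polynomial.X ⊗ₜ[A] (1 : A[X]) - (1 : A[X]) ⊗ₜ[A] Polynomial.X) =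
      p ⊗ₜ[A] (1 : A[X]) - (1 : A[X]) ⊗ₜ[A] p := by
  induction p using Polynomial.induction_on with
  | C a =>
    rw [← Polynomial.monomial_zero_left, dd_monomial, ddMon, smul_zero, zero_mul, Polynomial.monomial_zero_left,
      ← mul_one (Polynomial.C a), ← Polynomial.smul_eq_C_mul, TensorProduct.smul_tmul, sub_self]
  | add p q hp hq => rw [map_add, add_mul, hp, hq, TensorProduct.add_tmul, TensorProduct.tmul_add]; abel
  | monomial n a ih =>
    rw [pow_succ, ← mul_assoc, dd_mul_X, add_mul, mul_right_comm, ih]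
    generalize Polynomial.C a * Polynomial.X ^ n = p
    simp only [sub_mul, mul_sub, Algebra.TensorProduct.tmul_mul_tmul, one_mul, mul_one]
    abel

variable {A} (N : Type u) [AddCommGroup N] [Module A N] [Module A[X] N] [IsScalarTower A A[X] N]

/-- The action of the polynomial ring. -/
def act : A[X] ⊗[A] N →ₗ[A[X]] N := LinearMap.liftBaseChange A[X] (LinearMap.id : N →ₗ[A] N)

theorem act_tmul (p : A[X]) (n : N) : act N (p ⊗ₜ[A] n) = p • n := by
  simp [act]

/-- Multiplication by the variable, as a linear map over the base. -/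
def mulX : N →ₗ[A] N := (LinearMap.lsmul A[X] N Polynomial.X).restrictScalars A

/-- The difference of the two actions of the variable. -/
def tau : A[X] ⊗[A] N →ₗ[A[X]] A[X] ⊗[A] N :=
  LinearMap.lsmul A[X] (A[X] ⊗[A] N) Polynomial.X - (mulX N).baseChange A[X]

theorem tau_tmul (p : A[X]) (n : N) :
    tau N (p ⊗ₜ[A] n) = (p * Polynomial.X) ⊗ₜ[A] n - p ⊗ₜ[A] ((Polynomial.X : A[X]) • n) := by
  simp [tau, mulX, TensorProduct.smul_tmul', mul_comm p]

/-- Acting on the last factor. -/
def psi : (A[X] ⊗[A] A[X]) ⊗[A] N →ₗ[A] A[X] ⊗[A] N :=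
  ((act N).restrictScalars A).lTensor A[X] ∘ₗ (TensorProduct.assoc A A[X] A[X] N).toLinearMap

theorem psi_tmul (p q : A[X]) (n : N) : psi N ((p ⊗ₜ[A] q) ⊗ₜ[A] n) = p ⊗ₜ[A] (q • n) := by
  simp [psi, act_tmul]

theorem psi_mul_right (z : A[X] ⊗[A] A[X]) (n : N) :
    psi N ((z * ((1 : A[X]) ⊗ₜ[A] Polynomial.X)) ⊗ₜ[A] n) = psi N (z ⊗ₜ[A] ((Polynomial.X : A[X]) • n)) := by
  induction z using TensorProduct.induction_on with
  | zero => simp
  | tmul p q => simp [psi_tmul, mul_smul]
  | add x y hx hy => simp only [add_mul, TensorProduct.add_tmul, map_add, hx, hy]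

theorem tau_psi (z : A[X] ⊗[A] A[X]) (n : N) :
    tau N (psi N (z ⊗ₜ[A] n)) =
      psi N ((z * (Polynomial.X ⊗ₜ[A] (1 : A[X]) - (1 : A[X]) ⊗ₜ[A] Polynomial.X)) ⊗ₜ[A] n) := by
  induction z using TensorProduct.induction_on with
  | zero => simp
  | tmul p q => simp [psi_tmul, tau_tmul, mul_sub, TensorProduct.sub_tmul, smul_smul, mul_comm q]
  | add x y hx hy => simp only [add_mul, TensorProduct.add_tmul, map_add, hx, hy]

/-- The contracting homotopy. -/
def contr : A[X] ⊗[A] N →ₗ[A] A[X] ⊗[A] N := psi N ∘ₗ (dd A).rTensor N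

theorem contr_tau (z : A[X] ⊗[A] N) : contr N (tau N z) = z := by
  induction z using TensorProduct.induction_on with
  | zero => simp
  | tmul p n =>
    simp only [tau_tmul, map_sub, contr, LinearMap.comp_apply, LinearMap.rTensor_tmul, dd_mul_X,
      TensorProduct.add_tmul, map_add, psi_mul_right, psi_tmul, one_smul]
    abel
  | add x y hx hy => simp only [map_add, hx, hy]

theorem tau_contr (z : A[X] ⊗[A] N) : tau N (contr N z) = z - (1 : A[X]) ⊗ₜ[A] act N z := by
  induction z using TensorProduct.induction_on with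
  | zero => simp
  | tmul p n =>
    rw [contr, LinearMap.comp_apply, LinearMap.rTensor_tmul, tau_psi, dd_spec, TensorProduct.sub_tmul, map_sub,
      psi_tmul, psi_tmul, one_smul, act_tmul]
  | add x y hx hy =>
    simp only [map_add, hx, hy, TensorProduct.tmul_add]
    abel

theorem tau_injective : Function.Injective (tau (A := A) N) :=
  Function.LeftInverse.injective (contr_tau N)

theorem act_surjective : Function.Surjective (act (A := A) N) := fun n =>
  ⟨(1 : A[X]) ⊗ₜ[A] n, by simp [act_tmul]⟩

theorem exact_tau_act : Function.Exact (tau (A := A) N) (act (A := A) N) := by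
  intro z
  constructor
  · intro hz
    exact ⟨contr N z, by rw [tau_contr, hz, TensorProduct.tmul_zero, sub_zero]⟩
  · rintro ⟨w, rfl⟩
    induction w using TensorProduct.induction_on with
    | zero => simp
    | tmul p n => simp [tau_tmul, act_tmul, mul_smul]
    | add x y hx hy => simp only [map_add, hx, hy, add_zero]

end Diagonal

/-- Amplitude `[a, b]` over the base gives amplitude `[a - 1, b]` over the polynomial ring. -/
theorem amp_polynomial {A : Type u} [CommRing A] {K : Dual.D A[X]} {a b : ℤ}
    (h : DRing.HasTorAmplitudeIn A a b ((DRing.restrictD (Polynomial.C : A →+* A[X])).obj K)) :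
    DRing.HasTorAmplitudeIn A[X] (a - 1) b K := by
  let φ : A →+* A[X] := algebraMap A A[X]
  replace h : DRing.HasTorAmplitudeIn A a b ((DRing.restrictD φ).obj K) := h
  obtain ⟨Q, hQb, hQ, ⟨eQ⟩⟩ := exists_proj_representative (K := K) (n := b)
    (aboveZero_of_restrict φ (aboveZero_of_amplitude h))
  let R := (DTen.resCx φ).obj Q
  letI : ∀ j, Module A (Q.X j) := fun j => Module.compHom _ φ
  haveI : ∀ j, IsScalarTower A A[X] (Q.X j) := fun j => .of_algebraMap_smul fun _ _ => rfl
  haveI : ∀ j, Module.Flat A[X] (Q.X j) := fun j => by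
    haveI := hQ j
    exact Module.Flat.of_projective
  haveI : ∀ j, Module.Flat A (Q.X j) := fun j => Module.Flat.trans A A[X] (Q.X j)
  have hR : DRing.TermwiseFlat R := fun j => inferInstanceAs (Module.Flat A (Q.X j))
  have hRb : DRing.VanishesAbove R b := fun i hi => (ModuleCat.restrictScalars.{u} φ).map_isZero (hQb i hi)
  have hT : TensVanish R a b := (tensVanish_iff hRb hR a b).1
    (amp_of_iso (((DTen.resFactors φ).app Q).symm ≪≫ (DRing.restrictD φ).mapIso eQ).symm h)
  refine amp_of_iso eQ ((tensVanish_iff hQb (fun j => inferInstance) (a - 1) b).2 fun N i hi => ?_)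
  letI : Module A N := Module.compHom _ φ
  haveI : IsScalarTower A A[X] N := .of_algebraMap_smul fun _ _ => rfl
  let L := ModuleCat.of A[X] (A[X] ⊗[A] N)
  let T : L ⟶ L := ModuleCat.ofHom (tau N)
  let μ : L ⟶ N := ModuleCat.ofHom (act N)
  have hTμ : T ≫ μ = 0 := ModuleCat.hom_ext (exact_tau_act N).linearMap_comp_eq_zero
  let S : ShortComplex (DRing.Cx A[X]) :=
    ShortComplex.mk ((NatTrans.mapHomologicalComplex ((tensoringLeft (ModuleCat.{u} A[X])).map T) _).app Q)
      ((NatTrans.mapHomologicalComplex ((tensoringLeft (ModuleCat.{u} A[X])).map μ) _).app Q) (by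
        ext n : 1
        show T ▷ Q.X n ≫ μ ▷ Q.X n = 0
        rw [← MonoidalCategory.comp_whiskerRight, hTμ]
        exact MonoidalPreadditive.zero_whiskerRight)
  have hS : S.ShortExact := HomologicalComplex.shortExact_of_degreewise_shortExact _ fun n =>
    { exact := (ShortComplex.ShortExact.moduleCat_exact_iff_function_exact _).mpr
        (rTensor_exact (Q.X n) (exact_tau_act N) (act_surjective N))
      mono_f := (ModuleCat.mono_iff_injective _).mpr
        (Module.Flat.rTensor_preserves_injective_linearMap _ (tau_injective N))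
      epi_g := (ModuleCat.epi_iff_surjective _).mpr (LinearMap.rTensor_surjective _ (act_surjective N)) }
  -- the outer terms compute the tensor product over the base
  have hL : ∀ j : ℤ, (j < a ∨ b < j) → ((tensM L).obj Q).ExactAt j := fun j hj => by
    have h0 := hT (ModuleCat.of A N) j hj
    rw [HomologicalComplex.exactAt_iff' _ (j - 1) j (j + 1) (by simp) (by simp),
      ShortComplex.ShortExact.moduleCat_exact_iff_function_exact] at h0 ⊢
    let e : ∀ k, (A[X] ⊗[A] N) ⊗[A[X]] (Q.X k) ≃+ N ⊗[A] (Q.X k) := fun k =>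
      (TensorProduct.comm A[X] (A[X] ⊗[A] N) (Q.X k)).toAddEquiv.trans
        ((TensorProduct.AlgebraTensorModule.cancelBaseChange A A[X] A[X] (Q.X k) N).toAddEquiv.trans
          (TensorProduct.comm A (Q.X k) N).toAddEquiv)
    have nat : ∀ k l z, ((Q.d k l).hom.restrictScalars A).lTensor N (e k z) =
        e l ((Q.d k l).hom.lTensor (A[X] ⊗[A] N) z) := fun k l z => by
      induction z using TensorProduct.induction_on with
      | zero => simp
      | tmul w q =>
        induction w using TensorProduct.induction_on with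
        | zero => simp
        | tmul p n =>
          show n ⊗ₜ[A] (Q.d k l).hom (p • q) = n ⊗ₜ[A] (p • (Q.d k l).hom q)
          rw [map_smul]
        | add x y hx hy => simp only [TensorProduct.add_tmul, map_add, hx, hy]
      | add x y hx hy => simp only [map_add, hx, hy]
    exact (Function.Exact.iff_of_ladder_addEquiv (e₁ := e (j - 1)) (e₂ := e j) (e₃ := e (j + 1))
      (f₁₂ := ((Q.d (j - 1) j).hom.lTensor (A[X] ⊗[A] N)).toAddMonoidHom)
      (f₂₃ := ((Q.d j (j + 1)).hom.lTensor (A[X] ⊗[A] N)).toAddMonoidHom)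
      (g₁₂ := (((Q.d (j - 1) j).hom.restrictScalars A).lTensor N).toAddMonoidHom)
      (g₂₃ := (((Q.d j (j + 1)).hom.restrictScalars A).lTensor N).toAddMonoidHom)
      (AddMonoidHom.ext (nat (j - 1) j)) (AddMonoidHom.ext (nat j (j + 1)))).1 h0
  rw [HomologicalComplex.exactAt_iff_isZero_homology]
  exact (hS.homology_exact₃ i (i + 1) rfl).isZero_X₂
    (((HomologicalComplex.exactAt_iff_isZero_homology _ _).1 (hL i (by omega))).eq_of_src _ _)
    (((HomologicalComplex.exactAt_iff_isZero_homology _ _).1 (hL (i + 1) (by omega))).eq_of_tgt _ _)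

/-- Amplitude along a bijective ring map. -/
theorem amp_of_restrict_bijective {A B : Type u} [CommRing A] [CommRing B] (φ : A →+* B) (hφ : Function.Bijective φ)
    {K : Dual.D B} {a b : ℤ} (h : DRing.HasTorAmplitudeIn A a b ((DRing.restrictD φ).obj K)) :
    DRing.HasTorAmplitudeIn B a b K := by
  letI := φ.toAlgebra
  haveI : Algebra.Etale A B := Algebra.Etale.of_equiv (AlgEquiv.ofBijective (Algebra.ofId A B) hφ)
  exact amp_of_restrict_weaklyEtale h

/-- Amplitude `[a, b]` over the base gives amplitude `[a - n, b]` over polynomials in `n` variables. -/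
theorem amp_mvPolynomial {A : Type u} [CommRing A] :
    ∀ (n : ℕ) {K : Dual.D (MvPolynomial (Fin n) A)} {a b : ℤ},
      DRing.HasTorAmplitudeIn A a b ((DRing.restrictD (MvPolynomial.C : A →+* MvPolynomial (Fin n) A)).obj K) →
      DRing.HasTorAmplitudeIn (MvPolynomial (Fin n) A) (a - n) b K := by
  intro n
  induction n with
  | zero =>
    intro K a b h
    refine hasTorAmplitudeIn_mono (by simp) le_rfl
      (amp_of_restrict_bijective (MvPolynomial.C : A →+* MvPolynomial (Fin 0) A) ⟨MvPolynomial.C_injective _ _,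
        MvPolynomial.C_surjective _⟩ h)
  | succ n ih =>
    intro K a b h
    let e := MvPolynomial.finSuccEquiv A n
    let ε : (MvPolynomial (Fin n) A)[X] →+* MvPolynomial (Fin (n + 1)) A := e.symm.toRingEquiv.toRingHom
    have hc : (ε.comp Polynomial.C).comp MvPolynomial.C = MvPolynomial.C := RingHom.ext fun a => e.symm.commutes a
    obtain ⟨e1⟩ := nonempty_restrictD_comp (MvPolynomial.C : A →+* MvPolynomial (Fin n) A) (ε.comp Polynomial.C) K
    obtain ⟨e2⟩ := nonempty_restrictD_comp (Polynomial.C : MvPolynomial (Fin n) A →+* (MvPolynomial (Fin n) A)[X]) ε K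
    rw [← hc] at h
    refine hasTorAmplitudeIn_mono (by push_cast; omega) le_rfl (amp_of_restrict_bijective ε e.symm.bijective
      (amp_polynomial (amp_of_iso e2.symm (ih (amp_of_iso e1.symm h)))))

/-- Amplitude over the base gives amplitude over algebras étale over a polynomial ring. -/
theorem amp_of_standardSmooth {R B C : Type u} [CommRing R] [CommRing B] [CommRing C] {f : R →+* B} {n : ℕ}
    (hf : f.IsStandardSmoothOfRelativeDimension n) (ψ : B →+* C)
    (hψ : @Algebra.WeaklyEtale B C _ _ ψ.toAlgebra) {K : Dual.D C} {a b : ℤ}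
    (h : DRing.HasTorAmplitudeIn R a b ((DRing.restrictD (ψ.comp f)).obj K)) :
    DRing.HasTorAmplitudeIn C (a - n) b K := by
  obtain ⟨g, hg, het⟩ := hf.exists_etale_mvPolynomial
  subst hg
  letI := g.toAlgebra
  letI := ψ.toAlgebra
  haveI := hψ
  haveI : Algebra.Etale (MvPolynomial (Fin n) R) B := het
  obtain ⟨e1⟩ := nonempty_restrictD_comp (MvPolynomial.C : R →+* MvPolynomial (Fin n) R) (ψ.comp g) K
  obtain ⟨e2⟩ := nonempty_restrictD_comp g ψ K
  rw [← RingHom.comp_assoc] at h
  exact amp_of_restrict_weaklyEtale (A := B) (amp_of_restrict_weaklyEtale (A := MvPolynomial (Fin n) R)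
    (amp_of_iso e2.symm (amp_mvPolynomial n (amp_of_iso e1.symm h))))

end Groth.Agent.RelPCLib
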