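import Groth.Agent.RelPCLib.StalkSpread

/-!
# Isomorphisms of stalks of pseudo-coherent objects extend to neighbourhoods
-/

set_option autoImplicit false
set_option backward.isDefEq.respectTransparency false
set_option linter.style.haveILetI false
set_option linter.unusedSectionVars false
set_option maxHeartbeats 1000000

universe u

open CategoryTheory CategoryTheory.Limits AlgebraicGeometry TopologicalSpace CochainComplex Opposite

attribute [local instance] HasDerivedCategory.standard

noncomputable section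

namespace Groth.Agent.RelPCLib

open Groth.Agent.DRingLib Groth.Agent.DCohLib Groth.Agent.DerSchH7 Groth.Agent.PullbackMod

variable {X : Scheme.{u}}

/-- A morphism of complexes with cohomology isomorphisms above `m` and surjection at `m`, into a complex
without cohomology up to `m`, identifies the canonical truncation. -/
theorem nonempty_truncGE_iso {P G : CochainComplex X.Modules ℤ} (β : P ⟶ G) (c : ℤ) [G.IsGE c]
    (h : MIso (c - 1) (DerivedCategory.Q.map β)) :
    Nonempty (DerivedCategory.Q.obj (P.truncGE c) ≅ DerivedCategory.Q.obj G) := by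
  haveI : IsIso (DerivedCategory.Q.map (CochainComplex.truncGEMap β c)) := by
    rw [DerivedCategory.isIso_Q_map_iff_quasiIso, CochainComplex.quasiIso_truncGEMap_iff]
    intro q hq
    rw [quasiIsoAt_iff_isIso_homologyMap]
    exact (map_homologyFunctor_Q β q).1.1 (((mIso_iff _ _).1 h).1 q (by omega))
  haveI : IsIso (DerivedCategory.Q.map (G.πTruncGE c)) :=
    Localization.inverts DerivedCategory.Q (HomologicalComplex.quasiIso _ (ComplexShape.up ℤ)) _
      ((HomologicalComplex.mem_quasiIso_iff _).2 ((CochainComplex.quasiIso_πTruncGE_iff G c).2 inferInstance))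
  exact ⟨asIso (DerivedCategory.Q.map (CochainComplex.truncGEMap β c)) ≪≫
    (asIso (DerivedCategory.Q.map (G.πTruncGE c))).symm⟩

/-- Exactness of stalk complexes after restriction of scalars gives vanishing of stalks of cohomology. -/
theorem isZero_stalk_homology_of_exact {Z Y : Scheme.{u}} (j : Z ⟶ Y) (z : Z) {B : Type u} [CommRing B]
    (R : ModuleCat.{u} (Y.presheaf.stalk (j.base z)) ⥤ ModuleCat.{u} B) [R.PreservesZeroMorphisms] [R.Faithful]
    [R.PreservesHomology] (K : CochainComplex Z.Modules ℤ) (i : ℤ)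
    (h : ((K.sc i).map (DerSch.stalkOver j z ⋙ R)).Exact) : IsZero ((stkF z).obj (K.homology i)) := by
  let S := (K.sc i).map (stkF z)
  let R₁ := ModuleCat.restrictScalars.{u} (j.stalkMap z).hom
  have h1 : (S.map R₁).Exact := ((S.map R₁).exact_map_iff_of_faithful R).1 h
  have h2 : S.Exact := (S.exact_map_iff_of_faithful R₁).1 h1
  exact ((ShortComplex.exact_iff_isZero_homology _).1 h2).of_iso ((K.sc i).mapHomologyIso (stkF z)).symm

/-- A morphism out of the stalk of a bounded complex of finite free modules which is an isomorphism on cohomology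
above `m` extends with the same property at the point. -/
theorem exists_spread_cone {P G : CochainComplex X.Modules ℤ} {a b : ℤ}
    (hP : ∀ q, q < a ∨ b < q → IsZero (P.X q))
    (hfree : ∀ q, ∃ n : ℕ, Nonempty (P.X q ≅ FlatMod.freeMod X n)) (x : X)
    (γ : ((stkF x).mapHomologicalComplex (ComplexShape.up ℤ)).obj P ⟶
      ((stkF x).mapHomologicalComplex (ComplexShape.up ℤ)).obj G) (m : ℤ) (hγ : MIso m (DerivedCategory.Q.map γ)) :
    ∃ (V : X.Opens) (W : (V : Scheme.{u}).Opens) (z : W) (_ : V.ι.base (W.ι.base z) = x)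
      (β : (resCx W.ι).obj ((resCx V.ι).obj P) ⟶ (resCx W.ι).obj ((resCx V.ι).obj G)),
      ∀ i, m ≤ i → IsZero ((stkF z).obj ((mappingCone β).homology i)) := by
  obtain ⟨V, hx, W, hW, β, hβ⟩ := exists_spread_map hP hfree x γ
  let x' : V := ⟨x, hx⟩
  let z : W := ⟨x', hW⟩
  let R := ModuleCat.restrictScalars.{u} (V.ι.stalkMap x').hom
  let A := DerSch.stalkOver W.ι z ⋙ R
  let ε : ∀ M : X.Modules,
      A.obj ((Scheme.Modules.restrictFunctor W.ι).obj ((Scheme.Modules.restrictFunctor V.ι).obj M)) ≅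
        (stkF x).obj M := fun M =>
    R.mapIso ((restrictStalkOverNatIso W.ι z).app ((Scheme.Modules.restrictFunctor V.ι).obj M)) ≪≫
      (restrictStalkOverNatIso V.ι x').app M
  have hε : ∀ {M N : X.Modules} (d : M ⟶ N),
      A.map ((Scheme.Modules.restrictFunctor W.ι).map ((Scheme.Modules.restrictFunctor V.ι).map d)) ≫ (ε N).hom =
        (ε M).hom ≫ (stkF x).map d := fun {M N} d => by
    refine ModuleCat.hom_ext (LinearMap.ext fun w => ?_)
    exact (congrArg ((restrictStalkOverNatIso V.ι x').hom.app N)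
      (ConcreteCategory.congr_hom ((restrictStalkOverNatIso W.ι z).hom.naturality
        ((Scheme.Modules.restrictFunctor V.ι).map d)) w)).trans
      (ConcreteCategory.congr_hom ((restrictStalkOverNatIso V.ι x').hom.naturality d) _)
  let A' := A.mapHomologicalComplex (ComplexShape.up ℤ)
  let e : ∀ K : CochainComplex X.Modules ℤ, A'.obj ((resCx W.ι).obj ((resCx V.ι).obj K)) ≅
      ((stkF x).mapHomologicalComplex (ComplexShape.up ℤ)).obj K := fun K =>
    HomologicalComplex.Hom.isoOfComponents (fun q => ε (K.X q)) (fun p q _ => (hε (K.d p q)).symm)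
  have hsq : A'.map β ≫ (e G).hom = (e P).hom ≫ γ := by
    refine HomologicalComplex.hom_ext _ _ fun q => ?_
    exact (hβ q).trans (Category.assoc _ _ _).symm
  have hM : MIso m (DerivedCategory.Q.map (A'.map β)) := by
    rw [show A'.map β = (e P).hom ≫ γ ≫ (e G).inv by rw [← reassoc_of% hsq, Iso.hom_inv_id, Category.comp_id],
      Functor.map_comp, Functor.map_comp]
    exact (mIso_of_isIso _ _).comp (hγ.comp (mIso_of_isIso _ _))
  have hc : ∀ i, m ≤ i → (mappingCone (A'.map β)).ExactAt i := exactAt_mappingCone (A'.map β) m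
    (fun j hj => (map_homologyFunctor_Q _ j).1.1 (((mIso_iff _ _).1 hM).1 j hj))
    ((map_homologyFunctor_Q _ m).2.1.1 ((mIso_iff _ _).1 hM).2)
  refine ⟨V, W, z, rfl, β, fun i hi => ?_⟩
  have h1 : (((mappingCone β).sc i).map A).Exact :=
    (HomologicalComplex.exactAt_iff _ _).1 ((hc i hi).of_iso (mappingCone.mapHomologicalComplexIso β A).symm)
  exact isZero_stalk_homology_of_exact W.ι z R (mappingCone β) i h1

/-- A pseudo-coherent object with no cohomology at a point in degrees `≥ m` has none nearby. -/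
theorem exists_nhd_aboveZero : ∀ (k : ℕ) {Z : Scheme.{u}} (K : DCoh.D Z),
    (∀ l, DCoh.IsPseudoCoherentD l K) → ∀ (m : ℤ), AboveZero (m + k) K → ∀ z : Z,
      (∀ i, m ≤ i → IsZero ((stkF z).obj (DCoh.HD K i))) →
      ∃ (Z' : Scheme.{u}) (j : Z' ⟶ Z) (_ : IsOpenImmersion j) (z' : Z'), j.base z' = z ∧
        AboveZero m ((DCoh.restrictD j).obj K)
  | 0, Z, K, _, m, hb, z, _ =>
    ⟨Z, 𝟙 Z, inferInstance, z, rfl, (show AboveZero m K by simpa using hb).restrict _⟩
  | k + 1, Z, K, hpc, m, hb, z, hz => by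
    have hFT : CohB1.IsFT (DCoh.HD K (m + k)) := isFT_top (hpc _) fun i hi => hb i (by omega)
    let U : Z.Opens := ⟨(CohB1.support (DCoh.HD K (m + k)))ᶜ, (isClosed_support_of_isFT hFT).isOpen_compl⟩
    have hzU : z ∈ U := not_not.2 (ModuleCat.subsingleton_of_isZero (hz (m + k) (by omega)))
    have hrest : ∀ (i : ℤ) (y : U), IsZero ((stkF (U.ι.base y)).obj (DCoh.HD K i)) →
        IsZero ((stkF y).obj (DCoh.HD ((DCoh.restrictD U.ι).obj K) i)) := fun i y hy => by
      haveI : Subsingleton (((Scheme.Modules.restrictFunctor U.ι).obj (DCoh.HD K i)).presheaf.stalk y) :=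
        @Equiv.subsingleton _ _
          ((Scheme.Modules.restrictStalkNatIso U.ι y).app (DCoh.HD K i)).addCommGroupIsoToAddEquiv.toEquiv
          (ModuleCat.subsingleton_of_isZero hy)
      haveI : Subsingleton ((stkF y).obj ((Scheme.Modules.restrictFunctor U.ι).obj (DCoh.HD K i))) := this
      exact (ModuleCat.isZero_of_subsingleton _).of_iso ((stkF y).mapIso (restrictHDIso U.ι K i))
    have hb' : AboveZero (m + k) ((DCoh.restrictD U.ι).obj K) := fun i hi => by
      rcases eq_or_lt_of_le hi with rfl | hi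
      · exact isZero_of_stalks fun y => ModuleCat.subsingleton_of_isZero
          (hrest _ y (haveI : Subsingleton ((stkF (U.ι.base y)).obj (DCoh.HD K (m + k))) := not_not.1 y.2
            ModuleCat.isZero_of_subsingleton _))
      · exact (hb.restrict U.ι) i (by omega)
    obtain ⟨Z', j, hj, z', hz', h⟩ := exists_nhd_aboveZero k ((DCoh.restrictD U.ι).obj K)
      (fun l => isPseudoCoherentD_restrict U.ι (hpc l)) m hb' ⟨z, hzU⟩ fun i hi => hrest i _ (hz i hi)
    exact ⟨Z', j ≫ U.ι, inferInstance, z', congrArg U.ι.base hz', fun i hi =>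
      (h i hi).of_iso ((DerivedCategory.homologyFunctor _ i).mapIso ((restrictDComp j U.ι).app K))⟩

/-- An open neighbourhood from an open immersion. -/
theorem exists_opens_iso {K L : DCoh.D X} {Z : Scheme.{u}} (j : Z ⟶ X) [IsOpenImmersion j] (z : Z)
    (e : (DCoh.restrictD j).obj K ≅ (DCoh.restrictD j).obj L) :
    ∃ U : X.Opens, j.base z ∈ U ∧ Nonempty ((DCoh.restrictD U.ι).obj K ≅ (DCoh.restrictD U.ι).obj L) := by
  let r := j.isoOpensRange.inv
  let t := restrictDCongr j.isoOpensRange_inv_comp.symm ≪≫ restrictDComp r j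
  exact ⟨j.opensRange, ⟨z, rfl⟩, ⟨t.app K ≪≫ (DCoh.restrictD r).mapIso e ≪≫ (t.app L).symm⟩⟩

/-- Isomorphic stalks give isomorphic restrictions, from a given approximation. -/
theorem exists_iso_of_approx {P E F : CochainComplex X.Modules ℤ} {a b c d : ℤ}
    (hP : ∀ q, q < a ∨ b < q → IsZero (P.X q))
    (hfree : ∀ q, ∃ n : ℕ, Nonempty (P.X q ≅ FlatMod.freeMod X n)) (α : P ⟶ E)
    (hα : MIso (c - 1) (DerivedCategory.Q.map α)) [E.IsGE c] [F.IsGE c] [F.IsLE d]
    (hF : ∀ m, DCoh.IsPseudoCoherentD m (DCoh.toD X F)) (x : X)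
    (e : DRing.toD (((stkF x).mapHomologicalComplex (ComplexShape.up ℤ)).obj E) ≅
      DRing.toD (((stkF x).mapHomologicalComplex (ComplexShape.up ℤ)).obj F)) :
    ∃ (Z : Scheme.{u}) (j : Z ⟶ X) (_ : IsOpenImmersion j) (z : Z), j.base z = x ∧
      Nonempty ((DCoh.restrictD j).obj (DCoh.toD X E) ≅ (DCoh.restrictD j).obj (DCoh.toD X F)) := by
  let Φ := (stkF x).mapHomologicalComplex (ComplexShape.up ℤ)
  have hα' : MIso (c - 1) (DerivedCategory.Q.map (Φ.map α)) := by
    refine ⟨_, _, _, DerivedCategory.mappingCone_triangle_distinguished (Φ.map α), fun i hi => ?_⟩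
    have h := exactAt_mappingCone α (c - 1) (fun j hj => (map_homologyFunctor_Q _ j).1.1 (((mIso_iff _ _).1 hα).1 j hj))
      ((map_homologyFunctor_Q _ _).2.1.1 ((mIso_iff _ _).1 hα).2) i hi
    have h' : (Φ.obj (mappingCone α)).ExactAt i :=
      (HomologicalComplex.exactAt_iff _ _).2 (((HomologicalComplex.exactAt_iff _ _).1 h).map (stkF x))
    exact ((HomologicalComplex.exactAt_iff_isZero_homology _ _).1
      (h'.of_iso (mappingCone.mapHomologicalComplexIso α (stkF x)))).of_iso
      ((DerivedCategory.homologyFunctorFactors _ i).app _)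
  have hPf : ∀ q, FlatMod.IsFinLocFree (P.X q) := fun q => by
    obtain ⟨n, ⟨i⟩⟩ := hfree q
    exact isFinLocFree_iso i.symm (isFinLocFree_freeMod n)
  haveI := DRingLib.isKProjective_of_vanishesAbove (P := Φ.obj P) (b := b)
    (fun q hq => (stkF x).map_isZero (hP q (Or.inr hq))) (fun q => projective_stalk_of_isFinLocFree (hPf q) x)
  obtain ⟨γ, hγ⟩ := Q_map_surjective (Φ.obj P) (Φ.obj F) (DerivedCategory.Q.map (Φ.map α) ≫ e.hom)
  obtain ⟨V, W, z, hz, β, hβ⟩ := exists_spread_cone hP hfree x γ (c - 1)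
    (hγ ▸ hα'.comp (mIso_of_isIso _ _))
  let C := mappingCone β
  have hC : ∀ l, DCoh.IsPseudoCoherentD l (DCoh.toD _ C) := fun l =>
    isPseudoCoherentD_obj₃ _ (DerivedCategory.mappingCone_triangle_distinguished β)
      (((isPerfect_iff_pc _).1 (isPerfect_of_perfOn (K := DerivedCategory.Q.obj ((resCx W.ι).obj ((resCx V.ι).obj P)))
        ⟨_, isStrictlyPerfect_restrict W.ι (isStrictlyPerfect_restrict V.ι ⟨⟨a, b, hP⟩, hPf⟩), ⟨Iso.refl _⟩⟩)).1 _)
      (isPseudoCoherentD_iso ((DCoh.restrictD W.ι).mapIso (restrictDQ V.ι F) ≪≫ restrictDQ W.ι _)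
        (isPseudoCoherentD_restrict W.ι (isPseudoCoherentD_restrict V.ι (hF l))))
  obtain ⟨N, hN⟩ : ∃ N : ℕ, AboveZero (c - 1 + N) (DCoh.toD _ C) := by
    refine ⟨(max b d + 1 - (c - 1)).toNat, fun i hi => ?_⟩
    refine (((HomologicalComplex.exactAt_iff_isZero_homology _ _).1 ?_)).of_iso
      ((DerivedCategory.homologyFunctorFactors _ i).app C)
    have hz0 : ∀ j, b < j → IsZero (((resCx W.ι).obj ((resCx V.ι).obj P)).homology j) := fun j hj =>
      (HomologicalComplex.exactAt_iff_isZero_homology _ _).1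
        (HomologicalComplex.ExactAt.of_isZero (isZero_resCx W.ι (isZero_resCx V.ι (hP j (Or.inr hj)))))
    have hz1 : ∀ j, d < j → IsZero (((resCx W.ι).obj ((resCx V.ι).obj F)).homology j) := fun j hj =>
      (HomologicalComplex.exactAt_iff_isZero_homology _ _).1
        (exactAt_resCx W.ι (exactAt_resCx V.ι ((CochainComplex.isLE_iff F d).1 inferInstance j hj)))
    exact exactAt_mappingCone β (max b d + 1)
      (fun j hj => (isIso_of_source_target_iso_zero _ (hz0 j (by omega)).isoZero (hz1 j (by omega)).isoZero))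
      ((hz1 _ (by omega)).epi _) i (by omega)
  obtain ⟨Z, j, hj, z', hz', hj0⟩ := exists_nhd_aboveZero N (DCoh.toD _ C) hC (c - 1) hN z fun i hi =>
    (hβ i hi).of_iso ((stkF z).mapIso ((DerivedCategory.homologyFunctorFactors _ i).app C))
  have hβ' : MIso (c - 1) ((DCoh.restrictD j).map (DerivedCategory.Q.map β)) :=
    ⟨_, _, _, (DCoh.restrictD j).map_distinguished _ (DerivedCategory.mappingCone_triangle_distinguished β), hj0⟩
  let res3 := fun K : CochainComplex X.Modules ℤ => (resCx j).obj ((resCx W.ι).obj ((resCx V.ι).obj K))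
  have hge : ∀ K : CochainComplex X.Modules ℤ, K.IsGE c → (res3 K).IsGE c := fun K hK =>
    (CochainComplex.isGE_iff _ _).2 fun i hi =>
      exactAt_resCx j (exactAt_resCx W.ι (exactAt_resCx V.ι ((CochainComplex.isGE_iff K c).1 hK i hi)))
  haveI := hge E inferInstance
  haveI := hge F inferInstance
  have hmF : MIso (c - 1) (DerivedCategory.Q.map ((resCx j).map β)) := by
    rw [show DerivedCategory.Q.map ((resCx j).map β) = (restrictDQ j _).inv ≫
      (DCoh.restrictD j).map (DerivedCategory.Q.map β) ≫ (restrictDQ j _).hom from ?_]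
    · exact (mIso_of_isIso _ _).comp (hβ'.comp (mIso_of_isIso _ _))
    · rw [Iso.eq_inv_comp]
      exact ((Scheme.Modules.restrictFunctor j).mapDerivedCategoryFactors.hom.naturality β).symm
  have hmE : MIso (c - 1) (DerivedCategory.Q.map ((resCx j).map ((resCx W.ι).map ((resCx V.ι).map α)))) := by
    refine ⟨_, _, _, DerivedCategory.mappingCone_triangle_distinguished _, fun i hi => ?_⟩
    have h := exactAt_mappingCone α (c - 1) (fun l hl => (map_homologyFunctor_Q _ l).1.1 (((mIso_iff _ _).1 hα).1 l hl))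
      ((map_homologyFunctor_Q _ _).2.1.1 ((mIso_iff _ _).1 hα).2) i hi
    exact ((HomologicalComplex.exactAt_iff_isZero_homology _ _).1
      ((((exactAt_resCx j (exactAt_resCx W.ι (exactAt_resCx V.ι h))).of_iso
        ((resCx j).mapIso ((resCx W.ι).mapIso (mappingCone.mapHomologicalComplexIso α _)))).of_iso
        ((resCx j).mapIso (mappingCone.mapHomologicalComplexIso _ _))).of_iso
        (mappingCone.mapHomologicalComplexIso _ _))).of_iso ((DerivedCategory.homologyFunctorFactors _ i).app _)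
  obtain ⟨eE⟩ := nonempty_truncGE_iso ((resCx j).map ((resCx W.ι).map ((resCx V.ι).map α))) c hmE
  obtain ⟨eF⟩ := nonempty_truncGE_iso ((resCx j).map β) c hmF
  let t := fun K : CochainComplex X.Modules ℤ =>
    (restrictDComp j (W.ι ≫ V.ι)).app (DCoh.toD X K) ≪≫
      (DCoh.restrictD j).mapIso ((restrictDComp W.ι V.ι).app (DCoh.toD X K) ≪≫
        (DCoh.restrictD W.ι).mapIso (restrictDQ V.ι K) ≪≫ restrictDQ W.ι _) ≪≫ restrictDQ j _
  refine ⟨Z, j ≫ W.ι ≫ V.ι, inferInstance, z', ?_, ⟨t E ≪≫ eE.symm ≪≫ eF ≪≫ (t F).symm⟩⟩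
  show V.ι.base (W.ι.base (j.base z')) = x
  rw [hz']
  exact hz

end Groth.Agent.RelPCLib
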