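import Groth.Agent.RelPCLib.TensorArb
import Groth.Agent.RelPCLib.PerfNhd
import Groth.Agent.SpreadPerfLib.Spread
import Groth.Agent.DerSchH7.StalkPerf
import Groth.Agent.PullbackMod.SuppClosed
import Groth.Agent.PullbackMod.OpenLocus

/-!
# Morphisms of stalk complexes extend to neighbourhoods
-/

set_option autoImplicit false
set_option backward.isDefEq.respectTransparency false
set_option linter.style.haveILetI false
set_option linter.unusedSectionVars false
set_option maxHeartbeats 1000000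

universe u

open CategoryTheory CategoryTheory.Limits AlgebraicGeometry TopologicalSpace CochainComplex Opposite

attribute [local instance] HasDerivedCategory.standard

noncomputable section

namespace Groth.Agent.RelPCLib

open Groth.Agent.DRingLib Groth.Agent.DCohLib Groth.Agent.DerSchH7 Groth.Agent.PullbackMod Groth.Agent.DegDevLib

variable {X : Scheme.{u}}

/-- A map out of a free module, from sections representing its stalk. -/
theorem exists_map_of_stalk {M N : X.Modules} {n : ℕ} (e : M ≅ FlatMod.freeMod X n) (U : X.Opens) {x : X}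
    (hx : x ∈ U) (φ : (stkF x).obj M ⟶ (stkF x).obj N) (s : Fin n → Γ(N, U))
    (hs : ∀ i, N.presheaf.germ U x hx (s i) = φ.hom (stalkLin e.inv x (stdGerm n x i))) :
    ∃ ψ : (Scheme.Modules.restrictFunctor U.ι).obj M ⟶ (Scheme.Modules.restrictFunctor U.ι).obj N,
      (DerSch.stalkOver U.ι (⟨x, hx⟩ : U)).map ψ ≫ (restrictStalkOverNatIso U.ι (⟨x, hx⟩ : U)).hom.app N =
        (restrictStalkOverNatIso U.ι (⟨x, hx⟩ : U)).hom.app M ≫ φ := by
  let F := Scheme.Modules.restrictFunctor U.ι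
  haveI : PreservesColimitsOfSize.{0, 0} F :=
    (Scheme.Modules.restrictAdjunction U.ι).leftAdjoint_preservesColimits
  let f : Fin n → X.Modules := fun _ => Coh.structureModule X
  let d := Sigma.desc (f := fun i => F.obj (f i)) fun i =>
    (restrictUnit U.ι).hom ≫ secHom (F.obj N) (N.presheaf.map (homOfLE U.ι_image_top.le).op (s i))
  let ψ : F.obj M ⟶ F.obj N := F.map e.hom ≫ (PreservesCoproduct.iso F f).hom ≫ d
  refine ⟨ψ, ?_⟩
  rw [← cancel_epi ((restrictStalkOverNatIso U.ι (⟨x, hx⟩ : U)).inv.app M), Iso.inv_hom_id_app_assoc]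
  refine ModuleCat.hom_ext (LinearMap.ext fun z => ?_)
  obtain ⟨w, hw⟩ : ∃ w, stalkLin e.inv x w = z := ⟨stalkLin e.hom x z, by
    rw [← LinearMap.comp_apply, ← stalkLin_comp, e.hom_inv_id, stalkLin_id]; rfl⟩
  obtain ⟨c, hc⟩ := (stdGerm_bijective n x).2 w
  rw [Fintype.linearCombination_apply] at hc
  subst hc
  subst hw
  rw [map_sum, map_sum, map_sum]
  refine Finset.sum_congr rfl fun i _ => ?_
  rw [map_smul, map_smul, map_smul]
  refine congrArg (c i • ·) ?_
  let m : Γ(M, ⊤) := e.inv.app ⊤ (S0938.e X n i)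
  have hm : stalkLin e.inv x (stdGerm n x i) = M.presheaf.germ ⊤ x trivial m := by
    rw [← SpreadPerfLib.germ_e, stalkLin_germ]
  let t : Γ(F.obj M, ⊤) := M.presheaf.map (homOfLE (le_top : U.ι ''ᵁ ⊤ ≤ ⊤)).op m
  let s' : Γ(F.obj N, ⊤) := N.presheaf.map (homOfLE U.ι_image_top.le).op (s i)
  have hgt : (restrictStalkOverNatIso U.ι (⟨x, hx⟩ : U)).hom.app M
      ((F.obj M).presheaf.germ ⊤ (⟨x, hx⟩ : U) trivial t) = M.presheaf.germ ⊤ x trivial m :=
    (ConcreteCategory.congr_hom (Scheme.Modules.germ_restrictStalkNatIso_hom_app U.ι (⟨x, hx⟩ : U) M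
      (show (⟨x, hx⟩ : U) ∈ (⊤ : (U : Scheme.{u}).Opens) from trivial)) t).trans
      (M.presheaf.germ_res_apply _ x _ m)
  have hψ : ψ.app ⊤ t = s' := by
    have h1 : (F.map e.hom).app ⊤ t = (F.map (Sigma.ι f i)).app ⊤ ((restrictUnit U.ι).inv.app ⊤ (1 : Γ(↑U, ⊤))) := by
      show e.hom.app (U.ι ''ᵁ ⊤) t =
        (Sigma.ι f i).app (U.ι ''ᵁ ⊤) ((restrictUnit U.ι).inv.app ⊤ (1 : Γ(↑U, ⊤)))
      rw [restrictUnit_inv_app_one, app_natural e.hom (le_top : U.ι ''ᵁ ⊤ ≤ ⊤),
        ← app_one_natural (Sigma.ι f i) (le_top : U.ι ''ᵁ ⊤ ≤ ⊤)]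
      refine congrArg _ ?_
      show (e.inv ≫ e.hom).app ⊤ (S0938.e X n i) = _
      rw [e.inv_hom_id]
      rfl
    have h2 : F.map (Sigma.ι f i) ≫ (PreservesCoproduct.iso F f).hom ≫ d =
        (restrictUnit U.ι).hom ≫ secHom (F.obj N) s' := by
      rw [← ι_comp_sigmaComparison, ← PreservesCoproduct.inv_hom, Category.assoc, Iso.inv_hom_id_assoc]
      exact Sigma.ι_desc _ _
    show ((PreservesCoproduct.iso F f).hom ≫ d).app ⊤ ((F.map e.hom).app ⊤ t) = _
    rw [h1]
    show (F.map (Sigma.ι f i) ≫ (PreservesCoproduct.iso F f).hom ≫ d).app ⊤ _ = _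
    rw [h2]
    show (secHom (F.obj N) s').app ⊤ (((restrictUnit U.ι).inv ≫ (restrictUnit U.ι).hom).app ⊤ (1 : Γ(↑U, ⊤))) = _
    rw [Iso.inv_hom_id]
    exact secHom_restrict_app_one _
  rw [hm]
  refine (congrArg (fun z => ((DerSch.stalkOver U.ι (⟨x, hx⟩ : U)).map ψ ≫
    (restrictStalkOverNatIso U.ι (⟨x, hx⟩ : U)).hom.app N) ((restrictStalkOverNatIso U.ι (⟨x, hx⟩ : U)).inv.app M z))
      hgt.symm).trans ?_
  refine Eq.trans ?_ (congrArg φ.hom hm)
  refine Eq.trans ?_ (hs i)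
  refine (congrArg (fun z => ((DerSch.stalkOver U.ι (⟨x, hx⟩ : U)).map ψ ≫
    (restrictStalkOverNatIso U.ι (⟨x, hx⟩ : U)).hom.app N) z)
      (ConcreteCategory.congr_hom ((restrictStalkOverNatIso U.ι (⟨x, hx⟩ : U)).hom_inv_id_app M) _)).trans ?_
  show (restrictStalkOverNatIso U.ι (⟨x, hx⟩ : U)).hom.app N
      (stalkLin ψ (⟨x, hx⟩ : U) ((F.obj M).presheaf.germ ⊤ (⟨x, hx⟩ : U) trivial t)) = _
  rw [stalkLin_germ, hψ]
  exact (ConcreteCategory.congr_hom (Scheme.Modules.germ_restrictStalkNatIso_hom_app U.ι (⟨x, hx⟩ : U) N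
      (show (⟨x, hx⟩ : U) ∈ (⊤ : (U : Scheme.{u}).Opens) from trivial)) s').trans
    (N.presheaf.germ_res_apply _ x _ (s i))

theorem exists_open_inf {I : Type*} (s : Finset I) {x : X} (U : I → X.Opens) (h : ∀ i ∈ s, x ∈ U i) :
    ∃ V : X.Opens, x ∈ V ∧ ∀ i ∈ s, V ≤ U i := by
  refine ⟨s.inf U, ?_, fun i hi => Finset.inf_le hi⟩
  show x ∈ ((s.inf U : X.Opens) : Set X)
  rw [TopologicalSpace.Opens.coe_finset_inf]
  simpa using h

/-- Maps out of a finite free module equal at a stalk are equal nearby. -/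
theorem exists_open_map_eq {M N : X.Modules} {n : ℕ} (e : M ≅ FlatMod.freeMod X n) (ψ ψ' : M ⟶ N) {x : X}
    (h : (stkF x).map ψ = (stkF x).map ψ') :
    ∃ W : X.Opens, x ∈ W ∧
      (Scheme.Modules.restrictFunctor W.ι).map ψ = (Scheme.Modules.restrictFunctor W.ι).map ψ' := by
  classical
  let d := ψ - ψ'
  let m : Fin n → Γ(M, ⊤) := fun i => e.inv.app ⊤ (S0938.e X n i)
  have h0 : ∀ i, N.presheaf.germ ⊤ x trivial (d.app ⊤ (m i)) = N.presheaf.germ ⊤ x trivial 0 := fun i => by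
    rw [map_zero, ← stalkLin_germ]
    show ((stkF x).map (ψ - ψ')).hom _ = 0
    rw [Functor.map_sub, h, sub_self]
    rfl
  choose W hW i₁ i₂ hWm using fun i => TopCat.Presheaf.germ_eq N.presheaf x (U := ⊤) (V := ⊤) trivial trivial _ _ (h0 i)
  obtain ⟨W', hxW', hW'⟩ := exists_open_inf (Finset.univ : Finset (Fin n)) W (fun i _ => hW i)
  refine ⟨W', hxW', ?_⟩
  rw [← sub_eq_zero, ← Functor.map_sub, eq_zero_iff_stalk]
  intro z
  refine LinearMap.ext fun w => ?_
  refine ((Scheme.Modules.restrictStalkNatIso W'.ι z).app N).addCommGroupIsoToAddEquiv.injective ?_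
  refine ((ConcreteCategory.congr_hom ((Scheme.Modules.restrictStalkNatIso W'.ι z).hom.naturality d) w).trans
    ?_).trans (map_zero _).symm
  suffices hd : stalkLin d (W'.ι.base z) = 0 from LinearMap.congr_fun hd _
  refine LinearMap.ext fun v => ?_
  obtain ⟨c, hc⟩ := (stdGerm_bijective n (W'.ι.base z)).2 (stalkLin e.hom _ v)
  rw [Fintype.linearCombination_apply] at hc
  have hv : v = stalkLin e.inv (W'.ι.base z) (stalkLin e.hom _ v) := by
    rw [← LinearMap.comp_apply, ← stalkLin_comp, e.hom_inv_id, stalkLin_id]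
    rfl
  rw [hv, ← hc, map_sum, map_sum]
  refine (Finset.sum_eq_zero fun i _ => ?_).trans rfl
  rw [map_smul, map_smul, ← SpreadPerfLib.germ_e, stalkLin_germ, stalkLin_germ,
    ← N.presheaf.germ_res_apply (i₁ i) (W'.ι.base z) (hW' i (Finset.mem_univ i) z.2) (d.app ⊤ (m i)), hWm i,
    map_zero, map_zero, smul_zero]

/-- A morphism out of the stalk of a bounded complex of finite free modules extends to a neighbourhood, with
the same stalk up to the restriction isomorphisms. -/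
theorem exists_spread_map {P G : CochainComplex X.Modules ℤ} {a b : ℤ}
    (hP : ∀ q, q < a ∨ b < q → IsZero (P.X q))
    (hfree : ∀ q, ∃ n : ℕ, Nonempty (P.X q ≅ FlatMod.freeMod X n)) (x : X)
    (γ : ((stkF x).mapHomologicalComplex (ComplexShape.up ℤ)).obj P ⟶
      ((stkF x).mapHomologicalComplex (ComplexShape.up ℤ)).obj G) :
    ∃ (V : X.Opens) (hx : x ∈ V) (W : (V : Scheme.{u}).Opens) (hW : (⟨x, hx⟩ : V) ∈ W)
      (β : (resCx W.ι).obj ((resCx V.ι).obj P) ⟶ (resCx W.ι).obj ((resCx V.ι).obj G)),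
      ∀ q, (ModuleCat.restrictScalars.{u} (V.ι.stalkMap (⟨x, hx⟩ : V)).hom).map
          ((DerSch.stalkOver W.ι (⟨⟨x, hx⟩, hW⟩ : W)).map (β.f q)) ≫
        (ModuleCat.restrictScalars.{u} (V.ι.stalkMap (⟨x, hx⟩ : V)).hom).map
          ((restrictStalkOverNatIso W.ι (⟨⟨x, hx⟩, hW⟩ : W)).hom.app _) ≫
          (restrictStalkOverNatIso V.ι (⟨x, hx⟩ : V)).hom.app (G.X q) =
        (ModuleCat.restrictScalars.{u} (V.ι.stalkMap (⟨x, hx⟩ : V)).hom).map
          ((restrictStalkOverNatIso W.ι (⟨⟨x, hx⟩, hW⟩ : W)).hom.app _) ≫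
          (restrictStalkOverNatIso V.ι (⟨x, hx⟩ : V)).hom.app (P.X q) ≫ γ.f q := by
  classical
  choose n hn using hfree
  let e := fun q => (hn q).some
  have hgerm : ∀ (q : ℤ) (i : Fin (n q)), ∃ (U : X.Opens) (hU : x ∈ U) (s : Γ(G.X q, U)),
      (G.X q).presheaf.germ U x hU s = (γ.f q).hom (stalkLin (e q).inv x (stdGerm (n q) x i)) :=
    fun q i => TopCat.Presheaf.exists_germ_eq _ _
  choose U hU s hs using hgerm
  obtain ⟨V, hxV, hV⟩ := exists_open_inf ((Finset.Icc a b).sigma fun q => (Finset.univ : Finset (Fin (n q))))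
    (fun p => U p.1 p.2) (fun p _ => hU p.1 p.2)
  let x' : V := ⟨x, hxV⟩
  let ρ := restrictStalkOverNatIso V.ι x'
  have hψ : ∀ q, ∃ ψ : ((resCx V.ι).obj P).X q ⟶ ((resCx V.ι).obj G).X q,
      (DerSch.stalkOver V.ι x').map ψ ≫ ρ.hom.app (G.X q) = ρ.hom.app (P.X q) ≫ γ.f q := fun q => by
    by_cases hq : q ∈ Finset.Icc a b
    · exact exists_map_of_stalk (e q) V hxV (γ.f q)
        (fun i => (G.X q).presheaf.map (homOfLE (hV ⟨q, i⟩ (by simp [hq]))).op (s q i))
        fun i => by rw [TopCat.Presheaf.germ_res_apply]; exact hs q i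
    · simp only [Finset.mem_Icc, not_and_or, not_le] at hq
      have h0 : γ.f q = 0 := ((stkF x).map_isZero (hP q hq)).eq_of_src _ _
      exact ⟨0, by rw [Functor.map_zero, zero_comp, h0, comp_zero]⟩
  choose ψ hψ using hψ
  let T := (resCx V.ι).obj P
  let K := (resCx V.ι).obj G
  have hcomm : ∀ q, ∃ W : (V : Scheme.{u}).Opens, x' ∈ W ∧
      (Scheme.Modules.restrictFunctor W.ι).map (ψ q ≫ K.d q (q + 1)) =
        (Scheme.Modules.restrictFunctor W.ι).map (T.d q (q + 1) ≫ ψ (q + 1)) := fun q => by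
    refine exists_open_map_eq ((Scheme.Modules.restrictFunctor V.ι).mapIso (e q) ≪≫ restrictFreeMod V.ι (n q)) _ _ ?_
    have hnat : ∀ {A B : X.Modules} (d : A ⟶ B),
        (DerSch.stalkOver V.ι x').map ((Scheme.Modules.restrictFunctor V.ι).map d) ≫ ρ.hom.app B =
          ρ.hom.app A ≫ (stkF x).map d := fun d => ρ.hom.naturality d
    have h : (DerSch.stalkOver V.ι x').map (ψ q ≫ K.d q (q + 1)) =
        (DerSch.stalkOver V.ι x').map (T.d q (q + 1) ≫ ψ (q + 1)) := by
      suffices h' : (DerSch.stalkOver V.ι x').map (ψ q ≫ K.d q (q + 1)) ≫ ρ.hom.app (G.X (q + 1)) =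
          (DerSch.stalkOver V.ι x').map (T.d q (q + 1) ≫ ψ (q + 1)) ≫ ρ.hom.app (G.X (q + 1)) from
        ((ρ.app (G.X (q + 1))).cancel_iso_hom_right _ _).1 h'
      have h1 : (DerSch.stalkOver V.ι x').map (ψ q) ≫ (DerSch.stalkOver V.ι x').map (K.d q (q + 1)) ≫
          ρ.hom.app (G.X (q + 1)) = ρ.hom.app (P.X q) ≫ γ.f q ≫ (stkF x).map (G.d q (q + 1)) :=
        (congrArg ((DerSch.stalkOver V.ι x').map (ψ q) ≫ ·) (hnat (G.d q (q + 1)))).trans
          (((Category.assoc _ _ _).symm.trans (congrArg (· ≫ (stkF x).map (G.d q (q + 1))) (hψ q))).trans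
            (Category.assoc _ _ _))
      have h2 : (DerSch.stalkOver V.ι x').map (T.d q (q + 1)) ≫ (DerSch.stalkOver V.ι x').map (ψ (q + 1)) ≫
          ρ.hom.app (G.X (q + 1)) = ρ.hom.app (P.X q) ≫ (stkF x).map (P.d q (q + 1)) ≫ γ.f (q + 1) :=
        (congrArg ((DerSch.stalkOver V.ι x').map (T.d q (q + 1)) ≫ ·) (hψ (q + 1))).trans
          (((Category.assoc _ _ _).symm.trans (congrArg (· ≫ γ.f (q + 1)) (hnat (P.d q (q + 1))))).trans
            (Category.assoc _ _ _))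
      rw [Functor.map_comp, Functor.map_comp, Category.assoc, Category.assoc]
      exact (h1.trans (congrArg (ρ.hom.app (P.X q) ≫ ·) (γ.comm q (q + 1)))).trans h2.symm
    exact ModuleCat.hom_ext (LinearMap.ext fun z => congrArg (fun g => g.hom z) h)
  choose W hW hWeq using hcomm
  obtain ⟨W', hxW', hW'⟩ := exists_open_inf (Finset.Icc a b) (x := x') W (fun q _ => hW q)
  let F := Scheme.Modules.restrictFunctor W'.ι
  have hcomm' : ∀ q, F.map (ψ q ≫ K.d q (q + 1)) = F.map (T.d q (q + 1) ≫ ψ (q + 1)) := fun q => by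
    by_cases hq : q ∈ Finset.Icc a b
    · have hle := hW' q hq
      let r := Scheme.Modules.restrictFunctorCongr ((V : Scheme.{u}).homOfLE_ι hle).symm ≪≫
        Scheme.Modules.restrictFunctorComp ((V : Scheme.{u}).homOfLE hle) (W q).ι
      rw [← cancel_mono (r.hom.app _), r.hom.naturality, r.hom.naturality]
      exact congrArg (fun g => r.hom.app _ ≫ (Scheme.Modules.restrictFunctor ((V : Scheme.{u}).homOfLE hle)).map g)
        (hWeq q)
    · simp only [Finset.mem_Icc, not_and_or, not_le] at hq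
      exact ((F.map_isZero (isZero_resCx V.ι (hP q hq))).eq_of_src _ _)
  let β : (resCx W'.ι).obj T ⟶ (resCx W'.ι).obj K :=
    { f := fun q => F.map (ψ q)
      comm' := fun q q' hqq => by
        obtain rfl : q + 1 = q' := hqq
        show F.map (ψ q) ≫ F.map (K.d q (q + 1)) = F.map (T.d q (q + 1)) ≫ F.map (ψ (q + 1))
        rw [← Functor.map_comp, hcomm', Functor.map_comp] }
  refine ⟨V, hxV, W', hxW', β, fun q => ?_⟩
  rw [← Functor.map_comp_assoc]
  have h1 : (DerSch.stalkOver W'.ι (⟨x', hxW'⟩ : W')).map (β.f q) ≫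
      (restrictStalkOverNatIso W'.ι (⟨x', hxW'⟩ : W')).hom.app (K.X q) =
        (restrictStalkOverNatIso W'.ι (⟨x', hxW'⟩ : W')).hom.app (T.X q) ≫ (stkF x').map (ψ q) :=
    (restrictStalkOverNatIso W'.ι (⟨x', hxW'⟩ : W')).hom.naturality (ψ q)
  rw [h1, Functor.map_comp_assoc]
  exact congrArg _ (hψ q)

end Groth.Agent.RelPCLib
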