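import Groth.Agent.DRingLib.TensorPerfect
import Groth.Agent.DTenLib.Base
import Groth.Agent.DCohLib.BettiExact

/-!
# The derived tensor product over a local ring, on modules, computed by a K-flat complex
-/

set_option autoImplicit false
set_option backward.isDefEq.respectTransparency false
set_option linter.style.haveILetI false

universe u

open CategoryTheory CategoryTheory.Limits AlgebraicGeometry MonoidalCategory

attribute [local instance] HasDerivedCategory.standard

noncomputable section

namespace Groth.Agent.RelPCLib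

open Groth.Agent.DCohLib

section Ring

open Groth.Agent.DTenLib

variable {A : Type u} [CommRing A]

/-- `M ↦ (M ⊗ Pⁿ)`. -/
def tlA (P : DRing.Cx A) : ModuleCat.{u} A ⥤ DRing.Cx A where
  obj M := ((tensorLeft M).mapHomologicalComplex (ComplexShape.up ℤ)).obj P
  map f := (NatTrans.mapHomologicalComplex ((curriedTensor (ModuleCat.{u} A)).map f) (ComplexShape.up ℤ)).app P
  map_id M := by ext n : 1; simp
  map_comp f g := by ext n : 1; simp

/-- A module in degree zero. -/
abbrev sglA : ModuleCat.{u} A ⥤ DRing.Cx A := HomologicalComplex.single (ModuleCat.{u} A) (ComplexShape.up ℤ) 0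

/-- Tensoring with a module in degree zero, naturally in the module. -/
def tlAIso (P : DRing.Cx A) : tlA P ≅ sglA ⋙ tensorRight P :=
  NatIso.ofComponents
    (fun M => (singleTotRIso M ≪≫
      (KFlat.totRIso (curriedTensor (ModuleCat.{u} A)).flip (sglA.obj M)).symm).app P)
    fun {M N} f => by
      ext n : 1
      show f ▷ P.X n ≫ _ = _
      simp [singleTotRIso, KFlat.singleι, KFlat.totRIso]
      erw [HomologicalComplex.ι_mapBifunctorMap]
      simp only [HomologicalComplex.id_f, CategoryTheory.Functor.map_id]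
      erw [Category.id_comp, ← comp_whiskerRight_assoc, ← comp_whiskerRight_assoc,
        HomologicalComplex.single_map_f_self, Iso.inv_hom_id_assoc]

/-- The derived tensor product with `K` computed by a K-flat `P` quasi-isomorphic to `K`. -/
def lTensorCxIsoQA (K : DRing.Cx A) [DRing.HasLTensorCx A K] (P : DRing.Cx A) (π : P ⟶ K) (hπ : QuasiIso π)
    (hP : DRing.IsKFlat A P) :
    DerivedCategory.Q ⋙ DRing.LTensorCx A K ≅ tensorRight P ⋙ DerivedCategory.Q :=
  haveI : ∀ X : DRing.Cx A, IsIso (DerivedCategory.Q.map ((resAπ A).app X)) := fun X =>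
    isIso_Q_of_quasiIso _ (quasiIso_resAπ X)
  haveI : ∀ X : DRing.Cx A, IsIso (DerivedCategory.Q.map ((resAπ A).app X ▷ P)) := fun X =>
    isIso_Q_of_quasiIso _ (quasiIso_whiskerRight _ hP)
  haveI : ∀ X : DRing.Cx A, IsIso (DerivedCategory.Q.map ((resA A).obj X ◁ π)) := fun X => by
    haveI := hπ
    haveI := quasiIso_whiskerRight π (isKFlat_resA X)
    refine isIso_Q_of_quasiIso _ ((quasiIso_iff_of_arrow_mk_iso ((resA A).obj X ◁ π) (π ▷ (resA A).obj X) (Arrow.isoMk
      (DTen.braidCx ((resA A).obj X) P) (DTen.braidCx ((resA A).obj X) K) ?_)).2 inferInstance)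
    have := DTen.braidCx_naturality (𝟙 ((resA A).obj X)) π
    rw [tensorHom_id, id_tensorHom] at this
    exact this.symm
  let e₁ : DerivedCategory.Q ⋙ DRing.LTensorCx A K ≅ resA A ⋙ DerivedCategory.Q ⋙ DRing.LTensorCx A K :=
    (show resA A ⋙ DerivedCategory.Q ⋙ DRing.LTensorCx A K ≅ DerivedCategory.Q ⋙ DRing.LTensorCx A K from
      NatIso.ofComponents (fun X => (DRing.LTensorCx A K).mapIso (asIso (DerivedCategory.Q.map ((resAπ A).app X))))
      fun {X Y} f => by
        dsimp
        rw [← Functor.map_comp, ← Functor.map_comp, ← Functor.map_comp, ← Functor.map_comp]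
        exact congrArg (fun g => (DRing.LTensorCx A K).map (DerivedCategory.Q.map g)) ((resAπ A).naturality f)).symm
  let c := (DRing.tensorCxQ A K).totalLeftDerivedCounit DerivedCategory.Q
    (HomologicalComplex.quasiIso (ModuleCat.{u} A) (ComplexShape.up ℤ))
  have hc : ∀ X, IsIso (c.app ((resA A).obj X)) := fun X =>
    (DRingLib.adaptedTensorCx K).isIso_app DerivedCategory.Q (DRing.LTensorCx A K) c _
      (isIso_Q_of_quasiIso _ (DRingLib.quasiIso_whiskerRight_of_isKFlat K _ (quasiIso_resAπ _)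
        (isKFlat_resA _) (isKFlat_resA X)))
  let e₂ : resA A ⋙ DerivedCategory.Q ⋙ DRing.LTensorCx A K ≅ resA A ⋙ DRing.tensorCxQ A K :=
    NatIso.ofComponents (fun X => @asIso _ _ _ _ _ (hc X)) fun {X Y} f => c.naturality ((resA A).map f)
  let e₃ : resA A ⋙ DRing.tensorCxQ A K ≅ resA A ⋙ tensorRight P ⋙ DerivedCategory.Q :=
    (show resA A ⋙ tensorRight P ⋙ DerivedCategory.Q ≅ resA A ⋙ DRing.tensorCxQ A K from NatIso.ofComponents
      (fun X => asIso (DerivedCategory.Q.map ((resA A).obj X ◁ π)))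
      fun {X Y} f => by
        dsimp
        rw [← Functor.map_comp, ← Functor.map_comp]
        exact congrArg DerivedCategory.Q.map (whisker_exchange ((resA A).map f) π).symm).symm
  let e₄ : resA A ⋙ tensorRight P ⋙ DerivedCategory.Q ≅ tensorRight P ⋙ DerivedCategory.Q :=
    NatIso.ofComponents (fun X => asIso (DerivedCategory.Q.map ((resAπ A).app X ▷ P)))
      fun {X Y} f => by
        show DerivedCategory.Q.map ((resA A).map f ▷ P) ≫ DerivedCategory.Q.map ((resAπ A).app Y ▷ P) =
          DerivedCategory.Q.map ((resAπ A).app X ▷ P) ≫ DerivedCategory.Q.map (f ▷ P)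
        rw [← Functor.map_comp, ← Functor.map_comp, ← comp_whiskerRight, ← comp_whiskerRight]
        exact congrArg (fun g => DerivedCategory.Q.map (g ▷ P)) ((resAπ A).naturality f)
  e₁ ≪≫ e₂ ≪≫ e₃ ≪≫ e₄

/-- `M ↦ Hᵖ(M ⊗^L K)` on modules. -/
def homologyTensorIsoA (K : DRing.Cx A) [DRing.HasLTensorCx A K] (P : DRing.Cx A) (π : P ⟶ K) (hπ : QuasiIso π)
    (hP : DRing.IsKFlat A P) (p : ℤ) :
    DerivedCategory.singleFunctor (ModuleCat.{u} A) 0 ⋙ DRing.LTensorCx A K ⋙
        DerivedCategory.homologyFunctor (ModuleCat.{u} A) p ≅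
      tlA P ⋙ HomologicalComplex.homologyFunctor (ModuleCat.{u} A) (ComplexShape.up ℤ) p :=
  Functor.isoWhiskerRight (DerivedCategory.singleFunctorIsoCompQ (ModuleCat.{u} A) 0)
      (DRing.LTensorCx A K ⋙ DerivedCategory.homologyFunctor (ModuleCat.{u} A) p) ≪≫
    Functor.associator _ _ _ ≪≫
    Functor.isoWhiskerLeft sglA (Functor.isoWhiskerRight (lTensorCxIsoQA K P π hπ hP)
        (DerivedCategory.homologyFunctor (ModuleCat.{u} A) p) ≪≫
      Functor.associator _ _ _ ≪≫
      Functor.isoWhiskerLeft _ (DerivedCategory.homologyFunctorFactors (ModuleCat.{u} A) p)) ≪≫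
    (Functor.associator _ _ _).symm ≪≫
    Functor.isoWhiskerRight (tlAIso P).symm _

end Ring

section Stalk

variable {X : Scheme.{u}}

/-- Stalks commute with `M ↦ (M ⊗ Pⁿ)`. -/
def stkTlIso (x : X) (P : CochainComplex X.Modules ℤ) :
    tlF P ⋙ (stkF x).mapHomologicalComplex (ComplexShape.up ℤ) ≅
      stkF x ⋙ tlA (((stkF x).mapHomologicalComplex (ComplexShape.up ℤ)).obj P) :=
  NatIso.ofComponents
    (fun M => HomologicalComplex.Hom.isoOfComponents (fun n => stkT x M (P.X n))
      fun n n' _ => (stkT_natural_right x M (P.d n n')).symm)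
    fun {M M'} f => HomologicalComplex.hom_ext _ _ fun n => stkT_natural_left x f (P.X n)

/-- Stalks commute with `M ↦ Hᵖ(M ⊗ P)`. -/
def stkHTIso (x : X) (P : CochainComplex X.Modules ℤ) (p : ℤ) :
    hT P p ⋙ stkF x ≅ stkF x ⋙ tlA (((stkF x).mapHomologicalComplex (ComplexShape.up ℤ)).obj P) ⋙
      HomologicalComplex.homologyFunctor (ModuleCat.{u} (X.presheaf.stalk x)) (ComplexShape.up ℤ) p :=
  Functor.associator _ _ _ ≪≫
    Functor.isoWhiskerLeft (tlF P) (mapHomologyNatIso (stkF x) p).symm ≪≫
    (Functor.associator _ _ _).symm ≪≫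
    Functor.isoWhiskerRight (stkTlIso x P) _ ≪≫ Functor.associator _ _ _

/-- `M ↦ Hᵖ(M ⊗^L F_x)` at the stalks of sheaves of modules, through a K-flat resolution of `F`. -/
def stkLTensorIso (x : X) (F : CochainComplex X.Modules ℤ) (p : ℤ)
    [DRing.HasLTensorCx (X.presheaf.stalk x) (((stkF x).mapHomologicalComplex (ComplexShape.up ℤ)).obj F)] :
    hT ((resX X).obj F) p ⋙ stkF x ≅ stkF x ⋙
      DerivedCategory.singleFunctor (ModuleCat.{u} (X.presheaf.stalk x)) 0 ⋙
        DRing.LTensorCx (X.presheaf.stalk x) (((stkF x).mapHomologicalComplex (ComplexShape.up ℤ)).obj F) ⋙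
          DerivedCategory.homologyFunctor (ModuleCat.{u} (X.presheaf.stalk x)) p :=
  stkHTIso x ((resX X).obj F) p ≪≫ Functor.isoWhiskerLeft (stkF x)
    (homologyTensorIsoA (((stkF x).mapHomologicalComplex (ComplexShape.up ℤ)).obj F)
      (((stkF x).mapHomologicalComplex (ComplexShape.up ℤ)).obj ((resX X).obj F))
      (((stkF x).mapHomologicalComplex (ComplexShape.up ℤ)).map ((resXπ X).app F))
      (by haveI := quasiIso_resXπ (X := X) F; infer_instance)
      ((isKFlat_iff_stalk _).1 (isKFlat_resX F) x) p).symm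

end Stalk

end Groth.Agent.RelPCLib
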