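import Groth.Agent.DCohLib.BettiConverse
import Groth.Agent.DCohLib.FreeLocus
import Groth.Agent.RelPCLib.StalkTens
import Groth.Agent.DerSchH7.Local

/-!
# Left exactness of `M ↦ Hᵖ(M ⊗^L F)` at a point spreads to a neighbourhood
-/

set_option autoImplicit false
set_option backward.isDefEq.respectTransparency false
set_option linter.style.haveILetI false

universe u

open CategoryTheory CategoryTheory.Limits AlgebraicGeometry MonoidalCategory TensorProduct

attribute [local instance] HasDerivedCategory.standard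

noncomputable section

namespace Groth.Agent.RelPCLib

open Groth.Agent.DCohLib

variable {X U : Scheme.{u}}

theorem free_stalk_coker_of_test_stalk {G : CochainComplex U.Modules ℤ}
    (hG : ∀ n, FlatMod.IsFinLocFree (G.X n)) {S : ShortComplex U.Modules} {w : U} (hS : IsTest S w) {j : ℤ}
    (h : Epi ((stkF w).map ((hT G j).map S.g))) :
    Module.Free (U.presheaf.stalk w) ((cokernel (G.d j (j + 1))).presheaf.stalk w) := by
  have hj := free_finite_stalk_of_flf (hG j) w
  have hj' := free_finite_stalk_of_flf (hG (j + 1)) w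
  haveI : Module.Finite (U.presheaf.stalk w) ((stkF w).obj (G.X j)) := hj.2
  haveI : Module.Free (U.presheaf.stalk w) ((stkF w).obj (G.X (j + 1))) := hj'.1
  haveI : Module.Finite (U.presheaf.stalk w) ((stkF w).obj (G.X (j + 1))) := hj'.2
  let d := ((stkF w).map (G.d j (j + 1))).hom
  have hex : Function.Exact d ((stkF w).map (cokernel.π (G.d j (j + 1)))).hom :=
    (ShortComplex.ShortExact.moduleCat_exact_iff_function_exact _).1
      ((ShortComplex.exact_of_g_is_cokernel (ShortComplex.mk _ _ (cokernel.condition (G.d j (j + 1))))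
        (cokernelIsCokernel _)).map (stkF w))
  refine free_coker_of_lift (A := U.presheaf.stalk w) (M := (stkF w).obj (G.X j))
    (N := (stkF w).obj (G.X (j + 1))) (P := (stkF w).obj (cokernel (G.d j (j + 1)))) d _
    ((ModuleCat.epi_iff_surjective _).1 inferInstance) hex fun v hv => ?_
  obtain ⟨e, he⟩ := hS.gen
  let Φ := (stkF w).mapHomologicalComplex (ComplexShape.up ℤ)
  let g := Φ.map ((tlF G).map S.g)
  haveI : Epi (HomologicalComplex.homologyMap g j) := by
    have hn := (mapHomologyNatIso (stkF w) j).hom.naturality ((tlF G).map S.g)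
    exact ((MorphismProperty.epimorphisms _).arrow_mk_iso_iff
      (Arrow.isoMk ((mapHomologyNatIso (stkF w) j).app _) ((mapHomologyNatIso (stkF w) j).app _) hn.symm)).2
      h
  haveI : Epi (g.f (j - 1)) :=
    ((shortExact_tlF_map (fun n => isFlat_of_flf (hG n)) hS.shortExact).map_of_exact
      (HomologicalComplex.eval U.Modules (ComplexShape.up ℤ) (j - 1) ⋙ stkF w)).epi_g
  let q := ((stkF w).map S.g).hom
  have hq : Function.Surjective q :=
    haveI := hS.shortExact.epi_g
    (ModuleCat.epi_iff_surjective _).1 inferInstance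
  have hkill : ∀ {M : Type u} [AddCommGroup M] [Module (U.presheaf.stalk w) M] (m : M),
      m ∈ IsLocalRing.maximalIdeal (U.presheaf.stalk w) • (⊤ : Submodule (U.presheaf.stalk w) M) →
      q e ⊗ₜ[U.presheaf.stalk w] m = 0 := by
    intro M _ _ m hm
    induction hm using Submodule.smul_induction_on' with
    | smul a ha n _ => rw [← smul_tmul, hS.kills a ha, zero_tmul]
    | add x _ y _ hx hy => rw [tmul_add, hx, hy, add_zero]
  let t : (Φ.obj ((tlF G).obj S.X₃)).X j := (stkT w S.X₃ (G.X j)).inv (q e ⊗ₜ v)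
  have hdd : ∀ (N : U.Modules) (s : ((stkF w).obj N ⊗ (stkF w).obj (G.X j) : ModuleCat (U.presheaf.stalk w))),
      (Φ.obj ((tlF G).obj N)).d j (j + 1) ((stkT w N (G.X j)).inv s) =
        (stkT w N (G.X (j + 1))).inv (((stkF w).obj N ◁ (stkF w).map (G.d j (j + 1))) s) := fun N s => by
    show ((stkT w N (G.X j)).inv ≫ (stkF w).map (((DCoh.tensorBi (X := U)).obj N).map (G.d j (j + 1)))) s =
      (((stkF w).obj N ◁ (stkF w).map (G.d j (j + 1))) ≫ (stkT w N (G.X (j + 1))).inv) s
    refine ConcreteCategory.congr_hom ?_ s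
    rw [Iso.inv_comp_eq, ← Category.assoc, Iso.eq_comp_inv]
    exact stkT_natural_right w N (G.d j (j + 1))
  have ht : (Φ.obj ((tlF G).obj S.X₃)).d j (j + 1) t = 0 := by
    rw [hdd]
    refine (congrArg (stkT w S.X₃ (G.X (j + 1))).inv ?_).trans (map_zero _)
    show q e ⊗ₜ[U.presheaf.stalk w] d v = 0
    exact hkill _ hv
  obtain ⟨c, hc, hct⟩ := exists_cycle_lift g j inferInstance inferInstance t ht
  obtain ⟨s, rfl⟩ := (ConcreteCategory.bijective_of_isIso (stkT w S.X₂ (G.X j)).inv).2 c
  let lE : U.presheaf.stalk w ≃ₗ[U.presheaf.stalk w] (stkF w).obj S.X₂ :=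
    LinearEquiv.ofBijective (LinearMap.toSpanSingleton _ _ e) he
  have hgen : ∀ s : TensorProduct (U.presheaf.stalk w) ((stkF w).obj S.X₂) ((stkF w).obj (G.X j)),
      ∃ v', e ⊗ₜ v' = s := fun s => by
    induction s using TensorProduct.induction_on with
    | zero => exact ⟨0, tmul_zero _ _⟩
    | tmul a b => exact ⟨lE.symm a • b, by
        rw [← smul_tmul]
        exact congrArg (· ⊗ₜ b) (lE.apply_symm_apply a)⟩
    | add x y hx hy =>
      obtain ⟨a, ha⟩ := hx; obtain ⟨b, hb⟩ := hy
      exact ⟨a + b, by rw [tmul_add, ha, hb]⟩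
  obtain ⟨v', rfl⟩ := hgen s
  refine ⟨v', ?_, ?_⟩
  · rw [hdd] at hc
    have h1 : e ⊗ₜ[U.presheaf.stalk w] d v' = 0 :=
      (ConcreteCategory.bijective_of_isIso (stkT w S.X₂ (G.X (j + 1))).inv).1 (hc.trans (map_zero _).symm)
    have h2 := congrArg (LinearEquiv.rTensor ((stkF w).obj (G.X (j + 1))) lE.symm ≪≫ₗ
      TensorProduct.lid (U.presheaf.stalk w) ((stkF w).obj (G.X (j + 1)))) h1
    rw [map_zero] at h2
    rw [show e = lE 1 by simp [lE]] at h2
    simpa using h2
  · have h1 : q e ⊗ₜ[U.presheaf.stalk w] v' = q e ⊗ₜ v := by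
      apply (ConcreteCategory.bijective_of_isIso (stkT w S.X₃ (G.X j)).inv).1
      refine Eq.trans ?_ hct
      show _ = ((stkT w S.X₂ (G.X j)).inv ≫ (stkF w).map (((DCoh.tensorBi (X := U)).map S.g).app (G.X j))) _
      rw [show (stkT w S.X₂ (G.X j)).inv ≫ (stkF w).map (((DCoh.tensorBi (X := U)).map S.g).app (G.X j)) =
        ((stkF w).map S.g ▷ (stkF w).obj (G.X j)) ≫ (stkT w S.X₃ (G.X j)).inv by
          rw [Iso.inv_comp_eq, ← Category.assoc, Iso.eq_comp_inv]
          exact stkT_natural_left w S.g (G.X j)]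
      rfl
    let k := IsLocalRing.ResidueField (U.presheaf.stalk w)
    let l : k →ₗ[U.presheaf.stalk w] (stkF w).obj S.X₃ :=
      (IsLocalRing.maximalIdeal (U.presheaf.stalk w)).liftQ (LinearMap.toSpanSingleton _ _ (q e))
        fun a ha => hS.kills a ha _
    have hl1 : l 1 = q e := one_smul (U.presheaf.stalk w) (q e)
    have hl : Function.Bijective l := by
      refine ⟨?_, fun t => ?_⟩
      · haveI := hS.nontrivial
        rw [injective_iff_map_eq_zero]
        intro z hz
        obtain ⟨a, rfl⟩ := Submodule.Quotient.mk_surjective _ z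
        by_contra ha
        have hu : IsUnit a := by
          by_contra hn
          exact ha ((Submodule.Quotient.mk_eq_zero _).2 hn)
        have hqe : q e = 0 := by
          rw [← one_smul (U.presheaf.stalk w) (q e), ← hu.val_inv_mul, mul_smul]
          exact (congrArg _ hz).trans (smul_zero _)
        obtain ⟨y, hy⟩ := exists_ne (0 : (stkF w).obj S.X₃)
        obtain ⟨x, rfl⟩ := hq y
        obtain ⟨b, rfl⟩ := he.2 x
        exact hy (by rw [map_smul, hqe, smul_zero])
      · obtain ⟨x, rfl⟩ := hq t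
        obtain ⟨b, rfl⟩ := he.2 x
        exact ⟨Submodule.Quotient.mk b, (map_smul q b e).symm⟩
    rw [← hl1, show ∀ y, l 1 ⊗ₜ[U.presheaf.stalk w] y =
      LinearEquiv.rTensor ((stkF w).obj (G.X j)) (LinearEquiv.ofBijective l hl) ((1 : k) ⊗ₜ y) from fun y => rfl,
      show ∀ y, l 1 ⊗ₜ[U.presheaf.stalk w] y =
      LinearEquiv.rTensor ((stkF w).obj (G.X j)) (LinearEquiv.ofBijective l hl) ((1 : k) ⊗ₜ y) from fun y => rfl] at h1
    have h2 := (LinearEquiv.rTensor ((stkF w).obj (G.X j)) (LinearEquiv.ofBijective l hl)).injective h1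
    rw [← LinearMap.ker_tensorProductMk, LinearMap.mem_ker, map_sub, sub_eq_zero]
    exact h2.symm

/-- A natural isomorphism identifies the monomorphisms in the images. -/
theorem mono_map_congr {C D : Type*} [Category C] [Category D] {F G : C ⥤ D} (e : F ≅ G) {A B : C} (f : A ⟶ B)
    (h : Mono (F.map f)) : Mono (G.map f) :=
  ((MorphismProperty.monomorphisms D).arrow_mk_iso_iff
    (Arrow.isoMk (e.app A) (e.app B) (e.hom.naturality f).symm)).1 h

/-- A natural isomorphism identifies the epimorphisms in the images. -/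
theorem epi_map_congr {C D : Type*} [Category C] [Category D] {F G : C ⥤ D} (e : F ≅ G) {A B : C} (f : A ⟶ B)
    (h : Epi (F.map f)) : Epi (G.map f) :=
  ((MorphismProperty.epimorphisms D).arrow_mk_iso_iff
    (Arrow.isoMk (e.app A) (e.app B) (e.hom.naturality f).symm)).1 h

/-- For a flat complex, surjectivity at a stalk in one degree is injectivity in the next. -/
theorem epi_stalk_hT_iff {G : CochainComplex U.Modules ℤ} (hG : ∀ n, FlatMod.IsFlat (G.X n))
    {S : ShortComplex U.Modules} (hS : S.ShortExact) (w : U) (p q : ℤ) (hpq : p + 1 = q) :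
    Epi ((stkF w).map ((hT G p).map S.g)) ↔ Mono ((stkF w).map ((hT G q).map S.f)) := by
  have hG' := shortExact_tlF_map hG hS
  have hp : (ComplexShape.up ℤ).Rel p q := hpq
  have hQ := (hG'.homology_exact₁ p q hp).map (stkF w)
  have hP := (hG'.homology_exact₃ p q hp).map (stkF w)
  constructor <;> intro h
  · have hδ : (stkF w).map (hG'.δ p q hp) = 0 := by
      haveI : Epi ((stkF w).map (HomologicalComplex.homologyMap (S.map (tlF G)).g p)) := h
      rw [← cancel_epi ((stkF w).map (HomologicalComplex.homologyMap (S.map (tlF G)).g p)), ← Functor.map_comp,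
        hG'.comp_δ, Functor.map_zero, comp_zero]
    exact hQ.mono_g hδ
  · have hδ : (stkF w).map (hG'.δ p q hp) = 0 := by
      haveI : Mono ((stkF w).map (HomologicalComplex.homologyMap (S.map (tlF G)).f q)) := h
      rw [← cancel_mono ((stkF w).map (HomologicalComplex.homologyMap (S.map (tlF G)).f q)), ← Functor.map_comp,
        hG'.δ_comp, Functor.map_zero, zero_comp]
    exact hP.epi_f hδ

/-- Injectivity at a stalk is unchanged by restriction to an open. -/
theorem mono_stalk_restrict (j : U ⟶ X) [IsOpenImmersion j] (y : U) {M N : X.Modules} (φ : M ⟶ N)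
    (h : Mono ((stkF (j.base y)).map φ)) :
    Mono ((stkF y).map ((Scheme.Modules.restrictFunctor j).map φ)) := by
  have hm : Mono ((DerSch.stalkOver j y).map ((Scheme.Modules.restrictFunctor j).map φ)) :=
    mono_map_congr (DerSchH7.restrictStalkOverNatIso j y).symm φ h
  exact (ModuleCat.restrictScalars.{u} (j.stalkMap y).hom).mono_of_mono_map
    (f := (stkF y).map ((Scheme.Modules.restrictFunctor j).map φ)) hm

theorem mono_of_surjective_restrict (k : U ⟶ X) [IsOpenImmersion k] (hk : Function.Surjective k.base)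
    {M N : X.Modules} (φ : M ⟶ N) (h : Mono ((Scheme.Modules.restrictFunctor k).map φ)) : Mono φ :=
  Preadditive.mono_of_isZero_kernel _ (isZero_of_local fun x => by
    obtain ⟨y, hy⟩ := hk x
    haveI := h
    exact ⟨U, k, inferInstance, y, hy, (isZero_kernel_of_mono ((Scheme.Modules.restrictFunctor k).map φ)).of_iso
      (PreservesKernel.iso (Scheme.Modules.restrictFunctor k) φ)⟩)

/-- Left exactness of `Hᵖ(- ⊗ R)` when an approximation has locally free cokernel. -/
theorem mono_hT_of_approx {G R : CochainComplex U.Modules ℤ} (β : G ⟶ R) (hG : DCoh.IsStrictlyPerfect G)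
    (hR : DCoh.IsKFlat R) (q : ℤ) (hβ : MIso (q - 1) (DerivedCategory.Q.map β))
    (hc : FlatMod.IsFinLocFree (cokernel (G.d (q - 1) q))) {S : ShortComplex U.Modules} (hS : S.ShortExact) :
    Mono ((hT R q).map S.f) := by
  have hflat : ∀ n, FlatMod.IsFlat (G.X n) := fun n => isFlat_of_flf (hG.2 n)
  refine mono_map_congr (hTIso β hG hR hβ (show q - 1 < q by omega)) S.f ?_
  refine (PullbackMod.mono_iff_stalk _).2 fun z =>
    (ModuleCat.mono_iff_injective ((stkF z).map ((hT G q).map S.f))).1 ?_
  refine (epi_stalk_hT_iff hflat hS z (q - 1) q (by omega)).1 ?_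
  exact epi_map_congr (mapHomologyNatIso (stkF z) (q - 1)) ((tlF G).map S.g)
    (epi_homologyMap_stalk hflat z (splitAt_of_flf hG.2 (by omega) hc z) hS)



/-- Injectivity on the testing sequence at a point gives left exactness nearby. -/
theorem exists_nhd_mono_hT (F : CochainComplex X.Modules ℤ) (q : ℤ)
    (hK : DCoh.IsPseudoCoherentD (q - 1) (DCoh.toD X F)) (x : X)
    (h : Mono ((stkF x).map ((hT ((resX X).obj F) q).map (testSC x).f))) :
    ∃ V : X.Opens, x ∈ V ∧ ∀ S : ShortComplex (V : Scheme.{u}).Modules, S.ShortExact →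
      Mono ((hT ((resCx V.ι).obj ((resX X).obj F)) q).map S.f) := by
  let P := (resX X).obj F
  let eK : DerivedCategory.Q.obj P ≅ DCoh.toD X F := @asIso _ _ _ _ _ (isIso_Q_resXπ F)
  obtain ⟨W, j, hj, y, rfl, G, β, β₂, hG, hβ, -⟩ := exists_approx_pair F eK q hK x
  have hPj : DCoh.IsKFlat ((resCx j).obj P) := (isKFlat_resCx_resX j F).1
  let T := (testSC (j y)).map (Scheme.Modules.restrictFunctor j)
  have hT' := (isTest_testSC (j y)).restrict j
  have hflat : ∀ n, FlatMod.IsFlat (G.X n) := fun n => isFlat_of_flf (hG.2 n)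
  have hm : Mono ((stkF y).map ((hT G q).map T.f)) := by
    let θ := restrictHTIso j P q ≪≫
      Functor.isoWhiskerLeft _ (hTIso β hG hPj hβ (show q - 1 < q by omega)).symm
    have h1 := mono_stalk_restrict j y ((hT P q).map (testSC (j y)).f) h
    have hn := θ.hom.naturality (testSC (j y)).f
    have hn' := congrArg (stkF y).map hn
    rw [Functor.map_comp, Functor.map_comp] at hn'
    exact ((MorphismProperty.monomorphisms _).arrow_mk_iso_iff
      (Arrow.isoMk ((stkF y).mapIso (θ.app _)) ((stkF y).mapIso (θ.app _)) hn'.symm)).1 h1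
  have hfree := free_stalk_coker_of_test_stalk hG.2 hT' (j := q - 1)
    ((epi_stalk_hT_iff hflat hT'.shortExact y (q - 1) q (by omega)).2 hm)
  rw [sub_add_cancel] at hfree
  obtain ⟨N, hyN, hN⟩ := exists_nhd_flf_coker hG.2 y q hfree
  let V : X.Opens := (N.ι ≫ j).opensRange
  let k : (N : Scheme.{u}) ⟶ (V : Scheme.{u}) := IsOpenImmersion.lift V.ι (N.ι ≫ j) (by
    rw [Scheme.Opens.range_ι]
    exact le_refl _)
  have hk : k ≫ V.ι = N.ι ≫ j := IsOpenImmersion.lift_fac _ _ _
  haveI : IsOpenImmersion k := by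
    haveI : IsOpenImmersion (k ≫ V.ι) := by rw [hk]; infer_instance
    exact IsOpenImmersion.of_comp k V.ι
  have hks : Function.Surjective k.base := fun v => by
    obtain ⟨n, hn⟩ := v.2
    refine ⟨n, V.ι.isOpenEmbedding.injective ?_⟩
    show (k ≫ V.ι).base n = _
    rw [hk]
    exact hn
  refine ⟨V, ⟨⟨y, hyN⟩, rfl⟩, fun S hS => ?_⟩
  let R := (resCx k).obj ((resCx V.ι).obj P)
  let i : (resCx N.ι).obj ((resCx j).obj P) ≅ R :=
    (resCxComp N.ι j).symm.app P ≪≫ (resCxCongr hk.symm).app P ≪≫ (resCxComp k V.ι).app P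
  let βN : (resCx N.ι).obj G ⟶ R := (resCx N.ι).map β ≫ i.hom
  have hβN : MIso (q - 1) (DerivedCategory.Q.map βN) := by
    have h2 : DerivedCategory.Q.map ((resCx N.ι).map β) = (restrictDQ N.ι G).inv ≫
        (DCoh.restrictD N.ι).map (DerivedCategory.Q.map β) ≫ (restrictDQ N.ι _).hom := by
      rw [Iso.eq_inv_comp]
      exact ((Scheme.Modules.restrictFunctor N.ι).mapDerivedCategoryFactors.hom.naturality β).symm
    rw [Functor.map_comp, h2]
    exact ((mIso_of_isIso _ _).comp ((hβ.restrict N.ι).comp (mIso_of_isIso _ _))).comp (mIso_of_isIso _ _)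
  have hR : DCoh.IsKFlat R :=
    isKFlat_of_iso (((resCxComp N.ι j).app P) ≪≫ i) (isKFlat_resCx_resX (N.ι ≫ j) F).1
  let θ := restrictHTIso k ((resCx V.ι).obj P) q
  have h1 := mono_hT_of_approx βN (isStrictlyPerfect_restrict N.ι hG) hR q hβN
    (isFinLocFree_iso (PreservesCokernel.iso (Scheme.Modules.restrictFunctor N.ι) (G.d (q - 1) q)) hN)
    (hS.map_of_exact (Scheme.Modules.restrictFunctor k))
  exact mono_of_surjective_restrict k hks _ (((MorphismProperty.monomorphisms _).arrow_mk_iso_iff
    (Arrow.isoMk (θ.app S.X₁) (θ.app S.X₂) (θ.hom.naturality S.f).symm)).2 h1)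

end Groth.Agent.RelPCLib
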