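import Groth.Agent.RelPCLib.TensorScheme
import Groth.Agent.RelPCLib.ExtTensor
import Groth.Agent.RelPCLib.FlatBC
import Groth.Agent.RelPCLib.Comp
import Groth.Agent.TensorCohLib.Basic
import Groth.Agent.DCohMore.PCClosedPush
import Groth.Agent.DCohMore.ProjLoc
import Groth.Agent.DCohMore.BCGeneral

/-!
# Relative pseudo-coherence of derived tensor products, for arbitrary complexes of modules
-/

set_option autoImplicit false
set_option backward.isDefEq.respectTransparency false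
set_option linter.style.haveILetI false
set_option linter.unusedSectionVars false
set_option maxHeartbeats 1000000

universe u

open CategoryTheory CategoryTheory.Limits AlgebraicGeometry TopologicalSpace
open CategoryTheory.Pretriangulated
open Groth.Agent.KFlat (tot)

attribute [local instance] HasDerivedCategory.standard

noncomputable section

namespace Groth.Agent.RelPCLib

open Groth.Agent.DCohLib Groth.Agent.DRingLib Groth.Agent.PCHomLib

variable {X Y Z Q : Scheme.{u}}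

/-- Approximations by complexes of finite free modules in the range of the cohomology. -/
theorem exists_free_approx {m b : ℤ} (hmb : m ≤ b) {K : DCoh.D Z} (hK : DCoh.IsPseudoCoherentD m K)
    (hb : AboveZero (b + 1) K) (z : Z) :
    ∃ (W : Z.Opens) (_ : z ∈ W) (P : CochainComplex (W : Scheme.{u}).Modules ℤ)
      (α : DerivedCategory.Q.obj P ⟶ (DCoh.restrictD W.ι).obj K),
      (∀ q, q < m ∨ b < q → IsZero (P.X q)) ∧
        (∀ q, ∃ n : ℕ, Nonempty (P.X q ≅ FlatMod.freeMod (W : Scheme.{u}) n)) ∧ MIso m α := by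
  obtain ⟨V₀, hz, h⟩ := (isPseudoCoherentD_iff m K).1 hK z
  obtain ⟨E, α, hE, hlow, hα⟩ := PCOn.exists_brutal h
  have hex : ∀ i, b < i → E.ExactAt i := fun i hi => exactAt_of_mIso hα (by omega)
    ((hb.restrict V₀.ι) i (by omega))
  haveI : E.IsLE b := (CochainComplex.isLE_iff _ _).2 hex
  haveI : QuasiIso (E.ιTruncLE b) := (CochainComplex.quasiIso_ιTruncLE_iff E b).2 inferInstance
  haveI : IsIso (DerivedCategory.Q.map (E.ιTruncLE b)) :=
    (DerivedCategory.isIso_Q_map_iff_quasiIso (C := (V₀ : Scheme.{u}).Modules) _).2 ‹_›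
  let S := E.truncLE b
  have hSz : ∀ q, q < m ∨ b < q → IsZero (S.X q) := fun q hq => by
    rcases hq with hq | hq
    · exact (hlow q hq).of_iso (E.truncLEXIso b q (by omega))
    · exact CochainComplex.isZero_of_isStrictlyLE S b q hq
  have hSf : ∀ q, FlatMod.IsFinLocFree (S.X q) := fun q => by
    rcases lt_trichotomy q b with hq | rfl | hq
    · exact isFinLocFree_iso (E.truncLEXIso b q hq).symm (hE.2 q)
    · exact isFinLocFree_iso (E.truncLEXIsoCycles q).symm (exists_cycles_flf hE hex)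
    · exact isFinLocFree_of_isZero (hSz q (Or.inr hq))
  obtain ⟨W', hW', hfree⟩ := exists_open_free_finset hSf ⟨z, hz⟩ (Finset.Icc m b)
  let r := (V₀.ι.isoImage W').inv
  have hr : r ≫ W'.ι ≫ V₀.ι = (V₀.ι ''ᵁ W').ι := Scheme.Hom.isoImage_inv_ι V₀.ι W'
  let P := (resCx r).obj ((resCx W'.ι).obj S)
  refine ⟨V₀.ι ''ᵁ W', ⟨⟨z, hz⟩, hW', rfl⟩, P,
    (restrictDQ r _).inv ≫ (DCoh.restrictD r).map ((restrictDQ W'.ι S).inv ≫
      (DCoh.restrictD W'.ι).map (DerivedCategory.Q.map (E.ιTruncLE b) ≫ α)) ≫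
        ((restrictDCongr hr.symm ≪≫ restrictDComp r (W'.ι ≫ V₀.ι)).app K ≪≫
          (DCoh.restrictD r).mapIso ((restrictDComp W'.ι V₀.ι).app K)).inv,
    fun q hq => isZero_resCx r (isZero_resCx W'.ι (hSz q hq)), fun q => ?_,
    (mIso_of_isIso _ _).comp ((((mIso_of_isIso _ _).comp
      (((mIso_of_isIso _ _).comp hα).restrict W'.ι)).restrict r).comp (mIso_of_isIso _ _))⟩
  by_cases hq : q ∈ Finset.Icc m b
  · obtain ⟨n, ⟨e⟩⟩ := hfree q hq
    exact ⟨n, ⟨(Scheme.Modules.restrictFunctor r).mapIso e ≪≫ restrictFreeMod r n⟩⟩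
  · simp only [Finset.mem_Icc, not_and_or, not_le] at hq
    exact ⟨0, ⟨(isZero_resCx r (isZero_resCx W'.ι (hSz q hq))).iso
      ((IsZero.iff_id_eq_zero _).2 (Sigma.hom_ext _ _ fun i => i.elim0))⟩⟩

section Closed

variable (i : Z ⟶ Q) [IsClosedImmersion i]

/-- Tensoring with a complex of finite free modules before a direct image. -/
theorem freeClosed_push_tensor {c : ℤ} (N : CochainComplex Z.Modules ℤ)
    (hN : DCoh.IsPseudoCoherentD c ((pushD i).obj (DerivedCategory.Q.obj N))) :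
    FreeClosed (fun P : CochainComplex Z.Modules ℤ => ∀ q : ℤ, (∀ r, q < r → IsZero (P.X r)) →
      DCoh.IsPseudoCoherentD (q + c) ((pushD i).obj (DerivedCategory.Q.obj ((DCoh.tensorCx.obj N).obj P)))) where
  iso {P P'} e h q hq := isPseudoCoherentD_iso
    ((pushD i).mapIso (DerivedCategory.Q.mapIso ((DCoh.tensorCx.obj N).mapIso e)))
    (h q fun r hr => (hq r hr).of_iso ((HomologicalComplex.eval _ _ r).mapIso e))
  zero P hP q _ := pc_zero (aboveZero_zero _ ((pushD i).map_isZero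
    (DerivedCategory.Q.map_isZero ((DCoh.tensorCx.obj N).map_isZero (isZero_of_X hP)))))
  unit a q hq := by
    by_cases ha : a ≤ q
    · let t : (DCoh.tensorCx.obj N).obj (shiftUnitCx Z a) ≅ N⟦-a⟧ :=
        (tot (DCoh.tensorBi (X := Z)) N).mapIso
            (((CochainComplex.singleFunctors Z.Modules).shiftIso (-a) a 0 (by omega)).app (Coh.structureModule Z)).symm ≪≫
          CochainComplex.mapBifunctorShift₂Iso N _ (DCoh.tensorBi (X := Z)) (-a) ≪≫
          (shiftFunctor (CochainComplex Z.Modules ℤ) (-a)).mapIso (tensorUnitCxIso.app N)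
      exact isPseudoCoherentD_iso
        ((pushD i).mapIso (DerivedCategory.Q.mapIso t ≪≫ (DerivedCategory.Q.commShiftIso (-a)).app N) ≪≫
          ((pushD i).commShiftIso (-a)).app _).symm
        (isPseudoCoherentD_shift hN (-a) (by omega))
    · have hX : ∀ r, IsZero ((shiftUnitCx Z a).X r) := fun r => by
        rcases eq_or_ne r a with rfl | hr
        · exact hq r (by omega)
        · exact HomologicalComplex.isZero_single_obj_X _ _ _ _ hr
      exact pc_zero (aboveZero_zero _ ((pushD i).map_isZero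
        (DerivedCategory.Q.map_isZero ((DCoh.tensorCx.obj N).map_isZero (isZero_of_X hX)))))
  split S σ h1 h3 q hq :=
    isPseudoCoherentD_obj₂ _ ((pushD i).map_distinguished _ (DerivedCategory.triangleOfSES_distinguished
      (DCohMore.shortExact_tensor_split N S fun r => ⟨σ r⟩)))
      (h1 q fun r hr => by
        haveI : Mono (S.f.f r) := (σ r).mono_f
        exact IsZero.of_mono (S.f.f r) (hq r hr))
      (h3 q fun r hr => by
        haveI : Epi (S.g.f r) := (σ r).epi_g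
        exact IsZero.of_epi (S.g.f r) (hq r hr))

/-- Derived tensor products before a direct image. -/
theorem pc_pushD_lTensor {a b c d : ℤ} (N : CochainComplex Z.Modules ℤ)
    (hN : DCoh.IsPseudoCoherentD c ((pushD i).obj (DerivedCategory.Q.obj N)))
    (hNd : AboveZero (d + 1) (DCoh.toD Z N)) {E : DCoh.D Z} (hE : DCoh.IsPseudoCoherentD a E)
    (hEb : AboveZero (b + 1) E) :
    DCoh.IsPseudoCoherentD (max (a + d) (b + c)) ((pushD i).obj ((DCoh.LTensorCx N).obj E)) := by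
  haveI : (DCoh.toD Z N).IsLE d := (DerivedCategory.isLE_iff _ _).2 fun q hq => hNd q (by omega)
  rcases lt_or_ge b a with hba | hab
  · haveI : E.IsLE b := (DerivedCategory.isLE_iff _ _).2 fun q hq => hEb q (by omega)
    haveI hT := DCohMore.isLE_lTensorCx N d E b
    exact pc_zero (aboveZero_pushD i fun q hq => (DerivedCategory.isLE_iff _ _).1 hT q (by omega))
  refine isPseudoCoherentD_of_local fun x => ?_
  by_cases hx : x ∈ Set.range i
  · obtain ⟨z, rfl⟩ := hx
    obtain ⟨W, hzW, P, α, hPz, hPf, hα⟩ := exists_free_approx hab hE hEb z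
    obtain ⟨V, hV⟩ := (Topology.IsInducing.isOpen_iff i.isClosedEmbedding.isInducing).1 W.2
    obtain ⟨V', hV'⟩ : ∃ V' : Q.Opens, i ⁻¹ᵁ V' = W := ⟨⟨V, hV.1⟩, TopologicalSpace.Opens.ext hV.2⟩
    subst hV'
    refine ⟨V', V'.ι, inferInstance, ⟨i.base z, hzW⟩, rfl, ?_⟩
    let j := (i ⁻¹ᵁ V').ι
    let N' := (resCx j).obj ((resX Z).obj N)
    have hN'k : DCoh.IsKFlat N' := (isKFlat_resCx_resX j N).1
    let eN : DerivedCategory.Q.obj N' ≅ (DCoh.restrictD j).obj (DCoh.toD Z N) :=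
      (restrictDQ j _).symm ≪≫ (DCoh.restrictD j).mapIso (@asIso _ _ _ _ _ (isIso_Q_resXπ N))
    have hN' : DCoh.IsPseudoCoherentD c ((pushD (i ∣_ V')).obj (DerivedCategory.Q.obj N')) := by
      obtain ⟨e⟩ := nonempty_restrict_pushD i V' (DCoh.toD Z N)
      exact isPseudoCoherentD_iso (e ≪≫ (pushD (i ∣_ V')).mapIso eN.symm) (isPseudoCoherentD_restrict V'.ι hN)
    haveI : (DCoh.toD (i ⁻¹ᵁ V' : Scheme.{u}) N').IsLE d := (DerivedCategory.isLE_iff _ _).2 fun q hq =>
      ((hNd.restrict j) q (by omega)).of_iso ((DerivedCategory.homologyFunctor _ q).mapIso eN)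
    obtain ⟨e0⟩ := nonempty_restrict_pushD i V' ((DCoh.LTensorCx N).obj E)
    let A := DerivedCategory.Q.objPreimage E
    let eA := DerivedCategory.Q.objObjPreimageIso E
    obtain ⟨e1⟩ := TensorCohLib.nonempty_restrict_lTensor j N A
    let e2 : (DCoh.restrictD j).obj ((DCoh.LTensorCx N).obj E) ≅ (DCoh.LTensorCx N').obj ((DCoh.restrictD j).obj E) :=
      (DCoh.restrictD j).mapIso ((DCoh.LTensorCx N).mapIso eA.symm) ≪≫ e1 ≪≫
        (DCoh.LTensorCx N').mapIso ((restrictDQ j A).symm ≪≫ (DCoh.restrictD j).mapIso eA)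
    refine isPseudoCoherentD_iso ((pushD (i ∣_ V')).mapIso e2.symm ≪≫ e0.symm) ?_
    obtain ⟨C, g, k, hT, hC⟩ := hα
    haveI : C.IsLE (a - 1) := (DerivedCategory.isLE_iff _ _).2 fun q hq => hC q (by omega)
    haveI hLC := DCohMore.isLE_lTensorCx N' d C (a - 1)
    obtain ⟨T', hT', ⟨e₁⟩, ⟨e₂⟩, ⟨e₃⟩⟩ := DCohMore.exists_lTensorCx_triangle N' _ hT
    refine isPseudoCoherentD_iso ((pushD (i ∣_ V')).mapIso e₁) ?_
    have h₂ : DCoh.IsPseudoCoherentD (max (a + d) (b + c)) ((pushD (i ∣_ V')).obj T'.obj₂) :=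
      isPseudoCoherentD_iso ((pushD (i ∣_ V')).mapIso e₂.symm)
        (pc_zero (aboveZero_pushD _ fun q hq => (DerivedCategory.isLE_iff _ _).1 hLC q (by omega)))
    have hP1 := (freeClosed_push_tensor (i ∣_ V') N' hN').of_free (E := P⟦(1 : ℤ)⟧) (a := a - 1) (b := b - 1)
      (fun q hq => hPz (q + 1) (by omega)) (fun q => hPf (q + 1)) (b - 1)
      (fun r hr => hPz (r + 1) (Or.inr (by omega)))
    have h₃ : DCoh.IsPseudoCoherentD (max (a + d) (b + c) - 1) ((pushD (i ∣_ V')).obj T'.obj₃) := by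
      obtain ⟨s⟩ := nonempty_symCxSch N' (P⟦(1 : ℤ)⟧)
      refine isPseudoCoherentD_iso ((pushD (i ∣_ V')).mapIso (DerivedCategory.Q.mapIso s ≪≫
        ((lTensorCxIsoQ N' N' (𝟙 _) inferInstance hN'k).app (P⟦(1 : ℤ)⟧)).symm ≪≫
        (DCoh.LTensorCx N').mapIso ((DerivedCategory.Q.commShiftIso (1 : ℤ)).app P) ≪≫ e₃.symm))
        (isPseudoCoherentD_mono (by omega) hP1)
    have := isPseudoCoherentD_obj₁ _ ((pushD (i ∣_ V')).map_distinguished _ hT')
      (m := max (a + d) (b + c) - 1) (by rw [sub_add_cancel]; exact h₂) h₃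
    rwa [sub_add_cancel] at this
  · let V : Q.Opens := ⟨(Set.range i)ᶜ, i.isClosedEmbedding.isClosed_range.isOpen_compl⟩
    exact ⟨V, V.ι, inferInstance, ⟨x, hx⟩, rfl, isPC_restrict_off i V disjoint_compl_left _ _⟩

end Closed

/-- Polynomials in two groups of variables. -/
theorem exists_sum_vars (R : Type u) [CommRing R] (k n : ℕ) :
    ∃ r : MvPolynomial (Fin (k + n)) R →+* MvPolynomial (Fin k) (MvPolynomial (Fin n) R),
      Function.Bijective r ∧ ∀ s : R, r (MvPolynomial.C s) = MvPolynomial.C (MvPolynomial.C s) :=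
  ⟨((MvPolynomial.renameEquiv R finSumFinEquiv.symm).trans
    (MvPolynomial.sumAlgEquiv R (Fin k) (Fin n))).toRingEquiv.toRingHom,
    ((MvPolynomial.renameEquiv R finSumFinEquiv.symm).trans
      (MvPolynomial.sumAlgEquiv R (Fin k) (Fin n))).bijective, fun s => by simp⟩

attribute [local instance] MvPolynomial.algebraMvPolynomial in
/-- Affine spaces commute with closed immersions of the base. -/
theorem isPullback_polynomial {P A : Type u} [CommRing P] [CommRing A] (φ : P →+* A) (k : ℕ) :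
    IsPullback (Spec.map (CommRingCat.ofHom (MvPolynomial.C : A →+* MvPolynomial (Fin k) A)))
      (Spec.map (CommRingCat.ofHom (MvPolynomial.map φ : MvPolynomial (Fin k) P →+* MvPolynomial (Fin k) A)))
      (Spec.map (CommRingCat.ofHom φ))
      (Spec.map (CommRingCat.ofHom (MvPolynomial.C : P →+* MvPolynomial (Fin k) P))) := by
  letI := φ.toAlgebra
  haveI : Algebra.IsPushout P (MvPolynomial (Fin k) P) A (MvPolynomial (Fin k) A) := inferInstance
  exact (isPullback_SpecMap_of_isPushout _ _ _ _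
    (CommRingCat.isPushout_of_isPushout P (MvPolynomial (Fin k) P) A (MvPolynomial (Fin k) A))).flip

/-- Affine spaces are flat over the base. -/
theorem flat_polynomial (A : Type u) [CommRing A] (k : ℕ) :
    Flat (Spec.map (CommRingCat.ofHom (MvPolynomial.C : A →+* MvPolynomial (Fin k) A))) :=
  (HasRingHomProperty.Spec_iff (P := @Flat)).2
    ((RingHom.flat_algebraMap_iff (R := A) (S := MvPolynomial (Fin k) A)).2 inferInstance)

/-- The test for the derived tensor product with a derived inverse image. -/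
theorem test_lTensor_lpull (f : X ⟶ Y) (g : Y ⟶ Z) [LocallyOfFiniteType f] [LocallyOfFiniteType g] {a b c d : ℤ}
    (E : CochainComplex X.Modules ℤ) [DCoh.HasLTensorCx E] [DCoh.HasLpull f] (F : DCoh.D Y) {U : X.Opens}
    {V : Y.Opens} {W : Z.Opens} (hU : IsAffineOpen U) (hV : IsAffineOpen V) (hW : IsAffineOpen W)
    (h₁ : U ≤ f ⁻¹ᵁ V) (h₂ : V ≤ g ⁻¹ᵁ W) (h₃ : U ≤ (f ≫ g) ⁻¹ᵁ W)
    (hE : DerSch.IsPseudoCoherentRel f a (DCoh.toD X E))
    (hEb : AboveZero (b + 1) ((DCoh.restrictD U.ι).obj (DCoh.toD X E)))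
    (hF : DerSch.IsPseudoCoherentRel g c F) (hFd : AboveZero (d + 1) ((DCoh.restrictD V.ι).obj F)) :
    Test (f ≫ g) (max (a + d) (b + c)) ((DCoh.LTensorCx E).obj ((DCoh.Lpull f).obj F)) U W h₃ := by
  let R := Γ(Z, W)
  let A := Γ(Y, V)
  let B := Γ(X, U)
  obtain ⟨n, φ, hφ⟩ := exists_chart g h₂ (g.finiteType_appLE hW hV h₂)
  obtain ⟨k, ψ, hψ⟩ := exists_chart f h₁ (f.finiteType_appLE hV hU h₁)
  let P := MvPolynomial (Fin n) R
  let P' := MvPolynomial (Fin k) P
  let A' := MvPolynomial (Fin k) A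
  let θ : P' →+* A' := MvPolynomial.map φ
  have hθ : Function.Surjective θ := MvPolynomial.map_surjective φ hφ.1
  obtain ⟨r, hr, hrC⟩ := exists_sum_vars R k n
  let Φ : MvPolynomial (Fin (k + n)) R →+* B := (ψ.comp θ).comp r
  have hΦ : DerSch.IsChart (f ≫ g) U W h₃ Φ := by
    refine ⟨(hψ.1.comp hθ).comp hr.2, ?_⟩
    rw [← Scheme.Hom.appLE_comp_appLE f g W V U h₂ h₁, CommRingCat.hom_comp, ← hψ.2, ← hφ.2]
    refine RingHom.ext fun s => ?_
    show ψ (MvPolynomial.map φ (r (MvPolynomial.C s))) = ψ (MvPolynomial.C (φ (MvPolynomial.C s)))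
    rw [hrC, MvPolynomial.map_C]
  rw [test_iff_of_chart (f ≫ g) hU hΦ]
  refine (cpc_comp hU (φ := ψ.comp θ) (hψ.1.comp hθ) hr.2 (pcMap_of_bijective r hr)).2 ?_
  haveI := isClosedImmersion_emb hU (φ := ψ.comp θ) (hψ.1.comp hθ)
  haveI := isClosedImmersion_emb hU hψ.1
  haveI := isClosedImmersion_emb hV hφ.1
  rw [cpc_iff]
  let φS : Spec (CommRingCat.of A) ⟶ Spec (CommRingCat.of P) := Spec.map (CommRingCat.ofHom φ)
  let θS : Spec (CommRingCat.of A') ⟶ Spec (CommRingCat.of P') := Spec.map (CommRingCat.ofHom θ)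
  let qA : Spec (CommRingCat.of A') ⟶ Spec (CommRingCat.of A) := Spec.map (CommRingCat.ofHom (MvPolynomial.C : A →+* A'))
  let qP : Spec (CommRingCat.of P') ⟶ Spec (CommRingCat.of P) := Spec.map (CommRingCat.ofHom (MvPolynomial.C : P →+* P'))
  haveI : IsClosedImmersion φS := IsClosedImmersion.spec_of_surjective _ hφ.1
  haveI : IsClosedImmersion θS := IsClosedImmersion.spec_of_surjective _ hθ
  haveI : Flat qA := flat_polynomial A k
  haveI : Flat qP := flat_polynomial P k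
  have hc : IsPullback qA θS φS qP := isPullback_polynomial φ k
  let χ := emb U ψ
  haveI : IsClosedImmersion hV.isoSpec.hom := inferInstance
  -- the complex on the affine space over `V`
  let F' := (pushD hV.isoSpec.hom).obj ((DCoh.restrictD V.ι).obj F)
  haveI : F'.IsLE d := (DerivedCategory.isLE_iff _ _).2 fun q hq => (aboveZero_pushD _ hFd) q (by omega)
  let G := (pullD qA).obj F'
  obtain ⟨eG⟩ := nonempty_lpull_pullD qA F'
  haveI : G.IsLE d := by
    haveI h := isLE_lpull qA F' d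
    exact (DerivedCategory.isLE_iff _ _).2 fun q hq =>
      ((DerivedCategory.isLE_iff _ _).1 h q hq).of_iso ((DerivedCategory.homologyFunctor _ q).mapIso eG.symm)
  let P₀ := (resX _).obj (DerivedCategory.Q.objPreimage G)
  have hP₀ : DCoh.IsKFlat P₀ := isKFlat_resX _
  let eP₀ : DerivedCategory.Q.obj P₀ ≅ G := resXIso G
  have hG : DCoh.IsPseudoCoherentD c ((pushD θS).obj (DerivedCategory.Q.obj P₀)) := by
    obtain ⟨e1⟩ := nonempty_pushD_comp hV.isoSpec.hom φS (emb V φ)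
      (by rw [emb, ← hV.isoSpec_hom]) ((DCoh.restrictD V.ι).obj F)
    obtain ⟨e2⟩ := nonempty_pullD_pushD hc F'
    exact isPseudoCoherentD_iso (e2 ≪≫ (pushD θS).mapIso eP₀.symm) (pc_pullD qP (isPseudoCoherentD_iso e1.symm
      ((cpc_iff _ _ _).1 ((test_iff_of_chart g hV hφ).1 (test_of_rel g hF hV hW h₂)))))
  have hP₀d : AboveZero (d + 1) (DCoh.toD _ P₀) := fun q hq =>
    ((DerivedCategory.isLE_iff G d).1 inferInstance q (by omega)).of_iso
      ((DerivedCategory.homologyFunctor _ q).mapIso eP₀)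
  -- the restriction to `U`
  let EU := (resCx U.ι).obj ((resX X).obj E)
  let eE : DerivedCategory.Q.obj EU ≅ (DCoh.restrictD U.ι).obj (DCoh.toD X E) :=
    (restrictDQ U.ι _).symm ≪≫ (DCoh.restrictD U.ι).mapIso (@asIso _ _ _ _ _ (isIso_Q_resXπ E))
  let L := (DCoh.Lpull f).obj F
  let N₀ := (pullCx χ).obj P₀
  have hχ : χ ≫ qA ≫ hV.fromSpec = U.ι ≫ f := by
    rw [← Category.assoc, emb_comp, show ψ.comp (MvPolynomial.C : A →+* A') = (f.appLE V U h₁).hom from hψ.2, emb,
      CommRingCat.ofHom_hom, Scheme.Opens.toSpecΓ_SpecMap_appLE, Category.assoc, IsAffineOpen.toSpecΓ_fromSpec,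
      Scheme.Hom.resLE_comp_ι]
  obtain ⟨c1⟩ := nonempty_chart_lpull hV F
  obtain ⟨c2⟩ := nonempty_lpullCompIso qA hV.fromSpec
  obtain ⟨c3⟩ := nonempty_lpullCompIso χ (qA ≫ hV.fromSpec)
  obtain ⟨c4⟩ := nonempty_lpullCompIso U.ι f
  obtain ⟨c5⟩ := nonempty_restrictD_lpull U.ι L
  let eN : DerivedCategory.Q.obj N₀ ≅ (DCoh.restrictD U.ι).obj L :=
    (lpullIsoK χ P₀ hP₀).symm ≪≫ (DCoh.Lpull χ).mapIso (eP₀ ≪≫ eG.symm ≪≫ (DCoh.Lpull qA).mapIso c1 ≪≫ c2.app F) ≪≫
      c3.app F ≪≫ eqToIso (by rw [hχ]) ≪≫ (c4.app F).symm ≪≫ c5.symm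
  let A₀ := DerivedCategory.Q.objPreimage L
  let eL := DerivedCategory.Q.objObjPreimageIso L
  obtain ⟨t1⟩ := TensorCohLib.nonempty_restrict_lTensor U.ι E A₀
  obtain ⟨t2⟩ := nonempty_lTensor_symm N₀ EU
  haveI := DCohMore.BC.hasRpush χ
  obtain ⟨t3⟩ := nonempty_projection_closedImmersion χ P₀ hP₀ (DerivedCategory.Q.obj EU)
  obtain ⟨r1⟩ := DCohMore.ClosedPush.nonempty_pushD_rpush χ (DerivedCategory.Q.obj EU)
  obtain ⟨r2⟩ := DCohMore.ClosedPush.nonempty_pushD_rpush χ ((DCoh.LTensorCx N₀).obj (DerivedCategory.Q.obj EU))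
  let eK : (DCoh.restrictD U.ι).obj ((DCoh.LTensorCx E).obj L) ≅
      (DCoh.LTensorCx N₀).obj (DerivedCategory.Q.obj EU) :=
    (DCoh.restrictD U.ι).mapIso ((DCoh.LTensorCx E).mapIso eL.symm) ≪≫ t1 ≪≫
      (DCoh.LTensorCx EU).mapIso ((restrictDQ U.ι A₀).symm ≪≫ (DCoh.restrictD U.ι).mapIso eL ≪≫ eN.symm) ≪≫ t2.symm
  obtain ⟨p⟩ := nonempty_pushD_comp χ θS (emb U (ψ.comp θ)) (emb_comp ψ θ)
    ((DCoh.LTensorCx N₀).obj (DerivedCategory.Q.obj EU))
  refine isPseudoCoherentD_iso ((pushD θS).mapIso ((DCoh.LTensorCx P₀).mapIso r1 ≪≫ t3 ≪≫ r2.symm) ≪≫ p ≪≫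
    (pushD (emb U (ψ.comp θ))).mapIso eK.symm) ?_
  exact pc_pushD_lTensor θS P₀ hG hP₀d
    (isPseudoCoherentD_iso ((pushD χ).mapIso eE.symm)
      ((cpc_iff _ _ _).1 ((test_iff_of_chart f hU hψ).1 (test_of_rel f hE hU hV h₁))))
    (aboveZero_pushD χ fun q hq => (hEb q hq).of_iso ((DerivedCategory.homologyFunctor _ q).mapIso eE))

end Groth.Agent.RelPCLib
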