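import Groth.Agent.RelPCLib.TorProd
import Groth.Agent.DerSchH7.Vanish
import Groth.Agent.DRingLib.TensorPerfect

/-!
# Cohomological bounds of tensor products with objects of bounded tor amplitude
-/

set_option autoImplicit false
set_option backward.isDefEq.respectTransparency false
set_option linter.style.haveILetI false
set_option linter.unusedSectionVars false
set_option maxHeartbeats 1000000

universe u

open CategoryTheory CategoryTheory.Limits CategoryTheory.MonoidalCategory AlgebraicGeometry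
attribute [local instance] HasDerivedCategory.standard

noncomputable section

namespace Groth.Agent.RelPCLib

open Groth.Agent.DCohLib Groth.Agent.DRingLib Groth.Agent.DerSchH7 Groth.Agent.DTenLib

/-- A tensor product with a bounded complex is exact outside the sum of the bounds. -/
theorem exactAt_tensor_of_amp_bounded {A : Type u} [CommRing A] (F G G₀ : DRing.Cx A) (hG : DRing.IsKFlat A G)
    (eG : DRing.toD G ≅ DRing.toD G₀) {a b c d : ℤ} (hG₀ : DRing.VanishesOutside G₀ c d)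
    (hF : DRing.HasTorAmplitudeIn A a b (DRing.toD F)) (i : ℤ) (hi : i < a + c ∨ b + d < i) :
    (F ⊗ G : DRing.Cx A).ExactAt i := by
  haveI := DRingLib.hasLTen A
  obtain ⟨X, hX, hXf, ⟨eX⟩⟩ := hF
  have hXk : DRing.IsKFlat A X :=
    DRingLib.isKFlat_of_vanishesAbove (b := b) (fun j hj => hX j (Or.inr hj)) hXf
  haveI := isIso_ε_right F G hG
  haveI := isIso_ε_right X G hG
  haveI := isIso_ε_left X G hXk
  haveI := isIso_ε_left X G₀ hXk
  let e : DRing.toD (F ⊗ G : DRing.Cx A) ≅ DRing.toD (X ⊗ G₀ : DRing.Cx A) :=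
    (asIso ((DTen.ε A).app (F, G))).symm ≪≫
      (DTen.LTen₂ A).mapIso (Iso.prod eX.symm eG) ≪≫ asIso ((DTen.ε A).app (X, G₀))
  have h1 : IsZero ((X ⊗ G₀ : DRing.Cx A).homology i) :=
    (HomologicalComplex.exactAt_iff_isZero_homology _ _).1
      (ShortComplex.exact_of_isZero_X₂ _ (isZero_tensor_X fun p q hpq => by
        by_cases hp : p < a ∨ b < p
        · exact Or.inl (hX p hp)
        · exact Or.inr (hG₀ q (by omega))))
  exact (HomologicalComplex.exactAt_iff_isZero_homology _ _).2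
    (h1.of_iso (((DerivedCategory.homologyFunctorFactors _ i).app _).symm ≪≫
      (DerivedCategory.homologyFunctor _ i).mapIso e ≪≫ (DerivedCategory.homologyFunctorFactors _ i).app _))

variable {X Y : Scheme.{u}}

/-- Strict representatives of bounded objects. -/
theorem exists_strict_bounded (K : DCoh.D Y) (c d : ℤ) [K.IsGE c] [K.IsLE d] :
    ∃ G : CochainComplex Y.Modules ℤ, (∀ i, i < c ∨ d < i → IsZero (G.X i)) ∧ Nonempty (DCoh.toD Y G ≅ K) := by
  let F := DerivedCategory.Q.objPreimage K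
  let e : DCoh.toD Y F ≅ K := DerivedCategory.Q.objObjPreimageIso K
  have hex : ∀ i, i < c ∨ d < i → IsZero (F.homology i) := fun i hi => by
    refine IsZero.of_iso ?_ (((DerivedCategory.homologyFunctorFactors _ i).app F).symm ≪≫
      (DerivedCategory.homologyFunctor _ i).mapIso e)
    rcases hi with hi | hi
    · exact DerivedCategory.isZero_of_isGE K c i hi
    · exact DerivedCategory.isZero_of_isLE K d i hi
  haveI : F.IsLE d := (CochainComplex.isLE_iff _ _).2 fun i hi =>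
    (HomologicalComplex.exactAt_iff_isZero_homology _ _).2 (hex i (Or.inr hi))
  haveI : IsIso (DerivedCategory.Q.map (F.ιTruncLE d)) :=
    (DerivedCategory.isIso_Q_map_iff_quasiIso (C := Y.Modules) _).2 inferInstance
  haveI : CochainComplex.IsGE (F.truncLE d) c := (CochainComplex.isGE_iff _ _).2 fun i hi => by
    rw [HomologicalComplex.exactAt_iff_isZero_homology]
    exact (hex i (Or.inl hi)).of_iso (((DerivedCategory.homologyFunctorFactors _ i).app _).symm ≪≫
      (DerivedCategory.homologyFunctor _ i).mapIso (asIso (DerivedCategory.Q.map (F.ιTruncLE d))) ≪≫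
      (DerivedCategory.homologyFunctorFactors _ i).app F)
  haveI : IsIso (DerivedCategory.Q.map (CochainComplex.πTruncGE (F.truncLE d) c)) :=
    (DerivedCategory.isIso_Q_map_iff_quasiIso (C := Y.Modules) _).2 inferInstance
  refine ⟨CochainComplex.truncGE (F.truncLE d) c, fun i hi => ?_,
    ⟨(asIso (DerivedCategory.Q.map (CochainComplex.πTruncGE (F.truncLE d) c))).symm ≪≫
      asIso (DerivedCategory.Q.map (F.ιTruncLE d)) ≪≫ e⟩⟩
  rcases hi with hi | hi
  · exact CochainComplex.isZero_of_isStrictlyGE _ c i hi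
  · exact CochainComplex.isZero_of_isStrictlyLE _ d i hi

/-- Cohomology of `F ⊗ g^*K` for `F` of bounded tor amplitude over the base and `K` bounded. -/
theorem isZero_HD_lTensor_lpull_bounded (g : X ⟶ Y) (F : CochainComplex X.Modules ℤ) {a b c d : ℤ}
    (hF : DerSch.HasTorAmplitude g a b F) (K : DCoh.D Y) [K.IsGE c] [K.IsLE d] [DCoh.HasLpull g]
    [DCoh.HasLTensorCx F] (i : ℤ) (hi : i < a + c ∨ b + d < i) :
    IsZero (DCoh.HD ((DCoh.LTensorCx F).obj ((DCoh.Lpull g).obj K)) i) := by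
  obtain ⟨G, hG, ⟨eG₀⟩⟩ := exists_strict_bounded K c d
  let P := (resX Y).obj G
  haveI := quasiIso_resXπ G
  haveI : IsIso (DerivedCategory.Q.map ((resXπ Y).app G)) :=
    (DerivedCategory.isIso_Q_map_iff_quasiIso (C := Y.Modules) _).2 inferInstance
  let eP : DCoh.toD Y P ≅ K := asIso (DerivedCategory.Q.map ((resXπ Y).app G)) ≪≫ eG₀
  let fP := ((Scheme.Modules.pullback g).mapHomologicalComplex (ComplexShape.up ℤ)).obj P
  haveI := isIso_lTensorCounit_app F fP (isKFlat_pullback g (isKFlat_resX G))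
  let T := (DCoh.tensorCx.obj fP).obj F
  let eT : DCoh.toD X T ≅ (DCoh.LTensorCx F).obj ((DCoh.Lpull g).obj K) :=
    (asIso ((lTensorCounit F).app fP)).symm ≪≫
      (DCoh.LTensorCx F).mapIso ((lpullIso g _ (isKFlat_resX G) (isFlat_resX G)).symm ≪≫
        (DCoh.Lpull g).mapIso eP)
  have hT : IsZero (T.homology i) := isZero_of_stalks fun x => by
    let A := Y.presheaf.stalk (g.base x)
    let G' : DRing.Cx A := ((stkF (g.base x)).mapHomologicalComplex (ComplexShape.up ℤ)).obj P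
    let G₀ : DRing.Cx A := ((stkF (g.base x)).mapHomologicalComplex (ComplexShape.up ℤ)).obj G
    let eG : DRing.toD G' ≅ DRing.toD G₀ :=
      ((stkF (g.base x)).mapDerivedCategoryFactors.app P).symm ≪≫
        (stkF (g.base x)).mapDerivedCategory.mapIso (asIso (DerivedCategory.Q.map ((resXπ Y).app G))) ≪≫
        (stkF (g.base x)).mapDerivedCategoryFactors.app G
    have h1 := exactAt_tensor_of_amp_bounded ((DerSch.stalkCxOver g x).obj F) G' G₀
      ((isKFlat_iff_stalk P).1 (isKFlat_resX G) (g.base x)) eG (c := c) (d := d)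
      (fun j hj => (stkF (g.base x)).map_isZero (hG j hj)) (hF x) i hi
    have h2 : ((DerSch.stalkCxOver g x).obj T).ExactAt i := h1.of_iso (stalkTensorPullIso g x P F).symm
    have h3 : IsZero ((DerSch.stalkOver g x).obj (T.homology i)) :=
      ((HomologicalComplex.exactAt_iff_isZero_homology _ _).1 h2).of_iso
        ((T.sc i).mapHomologyIso (DerSch.stalkOver g x)).symm
    exact ModuleCat.subsingleton_of_isZero h3
  exact hT.of_iso ((DerivedCategory.homologyFunctor X.Modules i).mapIso eT.symm ≪≫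
    (DerivedCategory.homologyFunctorFactors X.Modules i).app T)

variable {S X₁ Y₁ X₂ Y₂ : Scheme.{u}} (f₁ : X₁ ⟶ Y₁) (q₁ : Y₁ ⟶ S) [Flat q₁] [Flat (f₁ ≫ q₁)] (p₂ : X₂ ⟶ S)
  {pX₁ : X ⟶ X₁} {pX₂ : X ⟶ X₂}

/-- External tensor products are bounded when the first factor has bounded tor amplitude over a flat base. -/
theorem externalTensor_bounded (hX : IsPullback pX₁ pX₂ (f₁ ≫ q₁) p₂)
    (E₁ : CochainComplex X₁.Modules ℤ) {a₁ b₁ : ℤ} (h₁ : DerSch.HasTorAmplitude f₁ a₁ b₁ E₁)
    (E₂ : CochainComplex X₂.Modules ℤ) {a₂ b₂ : ℤ} [(DCoh.toD X₂ E₂).IsGE a₂] [(DCoh.toD X₂ E₂).IsLE b₂]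
    [DCoh.HasLpull pX₁] [DCoh.HasLpull pX₂] (K₂ : CochainComplex X.Modules ℤ) [DCoh.HasLTensorCx K₂]
    (e₂ : DCoh.toD X K₂ ≅ (DCoh.Lpull pX₂).obj (DCoh.toD X₂ E₂)) :
    ((DCoh.LTensorCx K₂).obj ((DCoh.Lpull pX₁).obj (DCoh.toD X₁ E₁))).IsGE (a₁ + a₂) ∧
      ((DCoh.LTensorCx K₂).obj ((DCoh.Lpull pX₁).obj (DCoh.toD X₁ E₁))).IsLE (b₁ + b₂) := by
  obtain ⟨F, -, ⟨eF⟩⟩ := exists_kflat_rep ((DCoh.Lpull pX₁).obj (DCoh.toD X₁ E₁))
  haveI : DCoh.HasLTensorCx F := hasLTensorCx F
  have h0 : DerSch.HasTorAmplitude (f₁ ≫ q₁) a₁ b₁ E₁ := by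
    have := hasTorAmplitude_comp f₁ q₁ (hasTorDimLE_zero_of_flat q₁) E₁ h₁
    simpa using this
  haveI : Flat ((f₁ ≫ q₁) ≫ 𝟙 S) := by rw [Category.comp_id]; infer_instance
  have hF : DerSch.HasTorAmplitude pX₂ a₁ b₁ F :=
    hasTorAmplitudeD_lpull_torIndep (q := 𝟙 S) (q' := 𝟙 X₂) (u₀ := p₂) (IsPullback.of_vert_isIso ⟨by simp⟩)
      hX E₁ h0 F ⟨eF⟩
  obtain ⟨es⟩ := nonempty_lTensor_symm K₂ F
  let e : (DCoh.LTensorCx F).obj ((DCoh.Lpull pX₂).obj (DCoh.toD X₂ E₂)) ≅
      (DCoh.LTensorCx K₂).obj ((DCoh.Lpull pX₁).obj (DCoh.toD X₁ E₁)) :=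
    (DCoh.LTensorCx F).mapIso e₂.symm ≪≫ es.symm ≪≫ (DCoh.LTensorCx K₂).mapIso eF
  exact ⟨(DerivedCategory.isGE_iff _ _).2 fun i hi =>
      (isZero_HD_lTensor_lpull_bounded pX₂ F hF (DCoh.toD X₂ E₂) (c := a₂) (d := b₂) i (Or.inl hi)).of_iso
        ((DerivedCategory.homologyFunctor _ i).mapIso e.symm),
    (DerivedCategory.isLE_iff _ _).2 fun i hi =>
      (isZero_HD_lTensor_lpull_bounded pX₂ F hF (DCoh.toD X₂ E₂) (c := a₂) (d := b₂) i (Or.inr hi)).of_iso
        ((DerivedCategory.homologyFunctor _ i).mapIso e.symm)⟩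

end Groth.Agent.RelPCLib
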