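import Groth.Agent.RelPCLib.Ascend
import Groth.Agent.DTenLib.BaseFlat
import Groth.Agent.DTenLib.Exact
import Groth.Agent.DRingLib.TensorPerfect
import Groth.Agent.DRingLib.Finite
import Groth.Agent.DRingLib.Complex
import Groth.Agent.DRingLib.RestrictAmp
import Mathlib.Algebra.Homology.BifunctorShift
import Mathlib.Algebra.Homology.SingleHomology

/-!
# Pseudo-coherence over a deeper base of derived tensor products
-/

set_option autoImplicit false
set_option backward.isDefEq.respectTransparency false
set_option linter.style.haveILetI false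
set_option linter.unusedSectionVars false
set_option maxHeartbeats 1000000

universe u

open CategoryTheory CategoryTheory.Limits CategoryTheory.MonoidalCategory CategoryTheory.Pretriangulated
open scoped TensorProduct
attribute [local instance] HasDerivedCategory.standard

noncomputable section

namespace Groth.Agent.RelPCLib

open Groth.Agent.DRingLib Groth.Agent.DCohLib Groth.Agent.DTenLib

variable {C P : Type u} [CommRing C] [CommRing P] (ψ : P →+* C) (N : DRing.Cx C)

/-- A complex tensored with `N`, over the deeper base. -/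
abbrev resTensor (X : DRing.Cx C) : Dual.D P := (DRing.restrictD ψ).obj (DRing.toD (X ⊗ N : DRing.Cx C))

theorem nonempty_resTensor_congr (hk : DRing.IsKFlat C N) {X Y : DRing.Cx C} (e : DRing.toD X ≅ DRing.toD Y) :
    Nonempty (resTensor ψ N X ≅ resTensor ψ N Y) := by
  haveI := hasLTen C
  haveI := isIso_ε_right X N hk
  haveI := isIso_ε_right Y N hk
  exact ⟨(DRing.restrictD ψ).mapIso ((asIso ((DTen.ε C).app (X, N))).symm ≪≫
    (DTen.LTen₂ C).mapIso (Iso.prod e (Iso.refl _)) ≪≫ asIso ((DTen.ε C).app (Y, N)))⟩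

theorem nonempty_biprod_cone (L K : DRing.Cx C) :
    Nonempty (DRing.toD (L ⊞ CochainComplex.mappingCone (𝟙 K)) ≅ DRing.toD L) := by
  have hz : IsZero (DRing.toD (CochainComplex.mappingCone (𝟙 K))) :=
    Triangle.isZero₃_of_isIso₁ _ (DerivedCategory.mappingCone_triangle_distinguished (𝟙 K))
      (inferInstanceAs (IsIso (DerivedCategory.Q.map (𝟙 K))))
  refine ⟨⟨DerivedCategory.Q.map biprod.fst, DerivedCategory.Q.map biprod.inl, ?_, ?_⟩⟩
  · have h := congrArg DerivedCategory.Q.map (biprod.total (X := L) (Y := CochainComplex.mappingCone (𝟙 K)))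
    rw [Functor.map_add, Functor.map_comp, Functor.map_comp,
      hz.eq_of_tgt (DerivedCategory.Q.map biprod.snd) 0, zero_comp, add_zero, CategoryTheory.Functor.map_id] at h
    exact h
  · rw [← Functor.map_comp, biprod.inl_fst, CategoryTheory.Functor.map_id]

theorem exists_triangle_resTensor (hk : DRing.IsKFlat C N) {K L : DRing.Cx C} (f : K ⟶ L) :
    ∃ T : Triangle (Dual.D P), T ∈ distTriang _ ∧ Nonempty (T.obj₁ ≅ resTensor ψ N K) ∧
      Nonempty (T.obj₂ ≅ resTensor ψ N L) ∧
      Nonempty (T.obj₃ ≅ resTensor ψ N (CochainComplex.mappingCone f)) := by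
  let W := KFlat.totR (curriedTensor (ModuleCat.{u} C)) N
  have hS : ((KFlat.cylSeq f).map W).ShortExact :=
    KFlat.shortExact_totR_of_splitting (curriedTensor (ModuleCat.{u} C)) N _ (KFlat.cylSplitting f)
  obtain ⟨e⟩ := nonempty_biprod_cone L K
  obtain ⟨e'⟩ := nonempty_resTensor_congr ψ N hk e
  exact ⟨(DRing.restrictD ψ).mapTriangle.obj (DerivedCategory.triangleOfSES hS),
    (DRing.restrictD ψ).map_distinguished _ (DerivedCategory.triangleOfSES_distinguished hS),
    ⟨Iso.refl _⟩, ⟨e'⟩, ⟨Iso.refl _⟩⟩

variable {c : ℤ} (hN : DRing.TermwiseFlat N) (h : PC FFree c ((DRing.restrictD ψ).obj (DRing.toD N)))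

include hN h in
/-- The tensor product with a finite free module in one degree. -/
theorem pc_resTensor_single (n : ℤ) (r : ℕ) :
    PC FFree (c + n) (resTensor ψ N
      ((HomologicalComplex.single (ModuleCat.{u} C) (ComplexShape.up ℤ) n).obj (ModuleCat.of C (Fin r → C)))) := by
  let M := ModuleCat.of C (Fin r → C)
  have h0 : PC FFree c (resTensor ψ N (single₀ M)) :=
    (pc_tens_fin ψ hN h r).of_iso ((DRing.restrictD ψ).mapIso (DerivedCategory.Q.mapIso (singleTensorIso M N)))
  let s : ((single₀ M)⟦-n⟧ : DRing.Cx C) ≅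
      (HomologicalComplex.single (ModuleCat.{u} C) (ComplexShape.up ℤ) n).obj M :=
    ((CochainComplex.singleFunctors (ModuleCat.{u} C)).shiftIso (-n) n 0 (by omega)).app M
  let t : ((single₀ M)⟦-n⟧ ⊗ N : DRing.Cx C) ≅ ((single₀ M ⊗ N : DRing.Cx C))⟦-n⟧ :=
    CochainComplex.mapBifunctorShift₁Iso (single₀ M) N (curriedTensor (ModuleCat.{u} C)) (-n)
  refine (h0.shift' (-n) (m' := c + n) (by omega)).of_iso ?_
  exact ((DRing.restrictD ψ).commShiftIso (-n)).symm.app _ ≪≫ (DRing.restrictD ψ).mapIso
    (((DerivedCategory.Q.commShiftIso (-n)).symm.app _) ≪≫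
      DerivedCategory.Q.mapIso (t.symm ≪≫ whiskerRightIso s N))

include hN h in
/-- Tensoring with an approximated object keeps relative pseudo-coherence. -/
theorem pc_resTensor_aux {d : ℤ} (hd : DRing.VanishesAbove N d) {a b : ℤ} :
    ∀ (k : ℕ) (X : DRing.Cx C), a + k ≤ b + 1 → AboveZero (a + k) (DRing.toD X) → PC FFree a (DRing.toD X) →
      PC FFree (max (a + d) (b + c)) (resTensor ψ N X) := by
  have hk : DRing.IsKFlat C N := isKFlat_of_vanishesAbove hd hN
  intro k
  induction k with
  | zero =>
    intro X _ hX _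
    obtain ⟨X', hX', -, ⟨eX⟩⟩ := exists_proj_representative (K := DRing.toD X) (n := a - 1)
      (by simpa using hX)
    obtain ⟨e⟩ := nonempty_resTensor_congr ψ N hk eX
    refine (pc_of_aboveZero projClass_fFree (aboveZero_restrict ψ fun i hi => ?_)).of_iso e
    refine (exactAt_iff_isZero_homologyFunctor _ i).1 (ShortComplex.exact_of_isZero_X₂ _
      (isZero_tensor_X fun p q hpq => ?_))
    have := le_max_left (a + d) (b + c)
    by_cases hp : a - 1 < p
    · exact Or.inl (hX' p hp)
    · exact Or.inr (hd q (by omega))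
  | succ k ih =>
    intro X hb hX hpc
    obtain ⟨n, hn⟩ : ∃ n : ℤ, n = a + k := ⟨_, rfl⟩
    have hX' : AboveZero (n + 1) (DRing.toD X) := by
      rw [hn]; convert hX using 1; push_cast; ring
    haveI h1 : Module.Finite C (Dual.HD C (DRing.toD X) n) := finite_HD (hpc.mono (by omega)) hX'
    haveI : Module.Finite C (X.homology n) :=
      haveI : Module.Finite C ((DerivedCategory.Q ⋙ DerivedCategory.homologyFunctor (ModuleCat C) n).obj X) := h1
      Module.Finite.equiv ((DerivedCategory.homologyFunctorFactors _ n).app X).toLinearEquiv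
    obtain ⟨r, g, hg⟩ := Module.Finite.exists_fin' C (X.homology n)
    let F := ModuleCat.of C (Fin r → C)
    haveI : Projective F := ModuleCat.projective_of_free (Pi.basisFun C (Fin r))
    let f₀ : F ⟶ X.cycles n := Projective.factorThru (ModuleCat.ofHom g) (X.homologyπ n)
    have hf₀ : f₀ ≫ X.homologyπ n = ModuleCat.ofHom g := Projective.factorThru_comp _ _
    let f : (HomologicalComplex.single (ModuleCat.{u} C) (ComplexShape.up ℤ) n).obj F ⟶ X :=
      HomologicalComplex.mkHomFromSingle (f₀ ≫ X.iCycles n) fun j _ => by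
        rw [Category.assoc, X.iCycles_d, comp_zero]
    have hcyc : (HomologicalComplex.singleObjCyclesSelfIso (ComplexShape.up ℤ) n F).inv ≫
        HomologicalComplex.cyclesMap f n = f₀ := by
      rw [← cancel_mono (X.iCycles n), Category.assoc, HomologicalComplex.cyclesMap_i,
        HomologicalComplex.singleObjCyclesSelfIso_inv_iCycles_assoc, HomologicalComplex.mkHomFromSingle_f,
        Iso.inv_hom_id_assoc]
    have hepi : Epi (HomologicalComplex.homologyMap f n) := by
      haveI : Epi (ModuleCat.ofHom g) := (ModuleCat.epi_iff_surjective _).2 hg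
      refine epi_of_epi_fac (f := (HomologicalComplex.singleObjCyclesSelfIso (ComplexShape.up ℤ) n F).inv ≫
        HomologicalComplex.homologyπ _ n) (h := ModuleCat.ofHom g) ?_
      rw [Category.assoc, HomologicalComplex.homologyπ_naturality, ← Category.assoc, hcyc, hf₀]
    have hiso : ∀ i, n < i → IsIso (HomologicalComplex.homologyMap f i) := fun i hi => by
      have z1 : IsZero (X.homology i) := (hX' i (by omega)).of_iso
        ((DerivedCategory.homologyFunctorFactors _ i).app X).symm
      have z2 : IsZero (((HomologicalComplex.single (ModuleCat.{u} C) (ComplexShape.up ℤ) n).obj F).homology i) :=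
        (HomologicalComplex.exactAt_iff_isZero_homology _ _).1 (ShortComplex.exact_of_isZero_X₂ _
          (HomologicalComplex.isZero_single_obj_X (ComplexShape.up ℤ) n F i (by omega)))
      exact z2.isIso z1 _
    have hcone := (mIso_Q_map f n hiso hepi).cone _ (DerivedCategory.mappingCone_triangle_distinguished f)
    have hpc' : PC FFree a (DRing.toD (CochainComplex.mappingCone f)) :=
      PC.obj₃ projClass_fFree _ (DerivedCategory.mappingCone_triangle_distinguished f)
        ((perf_singleQ projClass_fFree n (M := F) ⟨inferInstance, inferInstance⟩).pc _) hpc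
    obtain ⟨T, hT, ⟨e1⟩, ⟨e2⟩, ⟨e3⟩⟩ := exists_triangle_resTensor ψ N hk f
    have := le_max_right (a + d) (b + c)
    refine (PC.obj₂ projClass_fFree T hT (((pc_resTensor_single ψ N hN h n r).mono (by push_cast at hb; omega)).of_iso e1.symm)
      ((ih _ (by push_cast at hb; omega) (by rw [← hn]; exact hcone) hpc').of_iso e3.symm)).of_iso e2

include hN h in
/-- Tensoring with an approximated object keeps relative pseudo-coherence. -/
theorem pc_resTensor {d : ℤ} (hd : DRing.VanishesAbove N d) {a b : ℤ} (X : DRing.Cx C)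
    (hb : AboveZero (b + 1) (DRing.toD X)) (hX : PC FFree a (DRing.toD X)) :
    PC FFree (max (a + d) (b + c)) (resTensor ψ N X) := by
  by_cases hab : a ≤ b + 1
  · obtain ⟨k, hk⟩ := Int.eq_ofNat_of_zero_le (show 0 ≤ b + 1 - a by omega)
    exact pc_resTensor_aux ψ N hN h hd k X (by omega) (hb.mono (by omega)) hX
  · obtain ⟨X', hX', -, ⟨eX⟩⟩ := exists_proj_representative (K := DRing.toD X) (n := b) hb
    obtain ⟨e'⟩ := nonempty_resTensor_congr ψ N (isKFlat_of_vanishesAbove hd hN) eX
    refine (pc_of_aboveZero projClass_fFree (aboveZero_restrict ψ fun i hi => ?_)).of_iso e'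
    refine (exactAt_iff_isZero_homologyFunctor _ i).1 (ShortComplex.exact_of_isZero_X₂ _
      (isZero_tensor_X fun p q hpq => ?_))
    have := le_max_left (a + d) (b + c)
    by_cases hp : b < p
    · exact Or.inl (hX' p hp)
    · exact Or.inr (hd q (by omega))

open Groth.Agent.PCHomLib in
attribute [local instance] MvPolynomial.algebraMvPolynomial in
/-- Relative pseudo-coherence of a derived tensor product with a derived base change: `M` is relative to `A → B`
and `N` (a complex of projectives) relative to `R → A`. -/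
theorem rel_tensor_ext {R A B : Type u} [CommRing R] [CommRing A] [CommRing B] [Algebra R A] [Algebra A B]
    [Algebra R B] [IsScalarTower R A B] [Algebra.FiniteType R A] [Algebra.FiniteType A B] {a b c d : ℤ}
    (M : DRing.Cx B) (hM : DerCA.IsRelPseudoCoherent A B a (DRing.toD M))
    (hMb : AboveZero (b + 1) (DRing.toD M)) (N : DRing.Cx A) (hNd : DRing.VanishesAbove N d)
    (hNp : ∀ i, Module.Projective A (N.X i)) (hN : DerCA.IsRelPseudoCoherent R A c (DRing.toD N)) :
    DerCA.IsRelPseudoCoherent R B (max (a + d) (b + c))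
      (DRing.toD (M ⊗ (DTen.extCx (algebraMap A B)).obj N : DRing.Cx B)) := by
  obtain ⟨n, φ, hφ, hc⟩ := exists_presentation (A := R) (B := A)
  have hK := (rel_iff φ hφ hc c _).1 hN
  obtain ⟨k, χ, hχ, hχc⟩ := exists_presentation (A := A) (B := B)
  have hM' := (rel_iff χ hχ hχc a _).1 hM
  let P := MvPolynomial (Fin n) R
  let A' := MvPolynomial (Fin k) A
  let P' := MvPolynomial (Fin k) P
  letI : Algebra P A := φ.toAlgebra
  haveI : Algebra.IsPushout P P' A A' := inferInstance
  haveI := DRingLib.hasLBaseChange (algebraMap P P')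
  obtain ⟨e⟩ := nonempty_lbc_restrict P P' A A' N
  let N' := (DTen.extCx (algebraMap A A')).obj N
  have hN' : PC FFree c ((DRing.restrictD (algebraMap P' A')).obj (DRing.toD N')) :=
    (pc_lbc (algebraMap P P') hK).of_iso e
  have hfl : DRing.TermwiseFlat N' := fun i => by
    haveI := hNp i
    haveI : Module.Flat A (N.X i) := inferInstance
    exact Module.Flat.of_linearEquiv (extendScalarsTensorEquiv A A' (N.X i))
  have hvan : DRing.VanishesAbove N' d := fun i hi =>
    (ModuleCat.extendScalars.{u, u, u} (algebraMap A A')).map_isZero (hNd i hi)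
  let X := (DTen.resCx χ).obj M
  let eX := (DTen.resFactors χ).app M
  have hXb : AboveZero (b + 1) (DRing.toD X) := (aboveZero_restrict χ hMb).of_iso eX.symm
  have h0 := pc_resTensor (algebraMap P' A') N' hfl hN' hvan X hXb (hM'.of_iso eX)
  have hcomp : χ.comp (algebraMap A A') = algebraMap A B := hχc
  let cB : ((X ⊗ N' : DRing.Cx A')) ≅
      (DTen.resCx χ).obj (M ⊗ (DTen.extCx (algebraMap A B)).obj N : DRing.Cx B) :=
    (KFlat.mapTotIso (cancelBiIso χ) M N').symm ≪≫ (DTen.resCx χ).mapIso (whiskerLeftIso M
      ((extCompIso (algebraMap A A') χ N).symm ≪≫ eqToIso (by rw [hcomp])))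
  let T : Dual.D B := DRing.toD (M ⊗ (DTen.extCx (algebraMap A B)).obj N : DRing.Cx B)
  have h1 : PC FFree (max (a + d) (b + c)) ((DRing.restrictD (algebraMap P' A')).obj ((DRing.restrictD χ).obj T)) :=
    h0.of_iso ((DRing.restrictD (algebraMap P' A')).mapIso
      (DerivedCategory.Q.mapIso cB ≪≫ ((DTen.resFactors χ).app _).symm))
  obtain ⟨e2⟩ := nonempty_restrictD_comp (algebraMap P' A') χ T
  let r := ((MvPolynomial.renameEquiv R finSumFinEquiv.symm).trans
    (MvPolynomial.sumAlgEquiv R (Fin k) (Fin n))).toRingEquiv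
  let Φ := (χ.comp (algebraMap P' A')).comp r.toRingHom
  have h2 := (pc_restrict_comp (pcMap_of_bijective r.toRingHom r.bijective) (χ.comp (algebraMap P' A')) T).1
    (h1.of_iso e2)
  refine (rel_iff Φ ((hχ.comp (MvPolynomial.map_surjective φ hφ)).comp r.surjective) ?_ _ T).2 h2
  refine RingHom.ext fun a => ?_
  rw [IsScalarTower.algebraMap_apply R A B, ← hχc, ← hc]
  simp [Φ, r, P', P]
  exact congrArg χ (MvPolynomial.map_C φ _)

end Groth.Agent.RelPCLib
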