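import Groth.Agent.RelPCLib.Lpull
import Groth.Agent.RelPCLib.TensorPC
import Groth.Agent.RelPCLib.TildeTensor
import Groth.Agent.DCohLib.LpullTensor
import Groth.Agent.DCohLib.TensorEval
import Groth.Agent.TildeD.TensorQCoh

/-!
# Relative pseudo-coherence of derived tensor products
-/

set_option autoImplicit false
set_option backward.isDefEq.respectTransparency false
set_option linter.style.haveILetI false
set_option linter.unusedSectionVars false
set_option maxHeartbeats 1000000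

universe u

open CategoryTheory CategoryTheory.Limits CategoryTheory.MonoidalCategory AlgebraicGeometry TopologicalSpace

attribute [local instance] HasDerivedCategory.standard

noncomputable section

namespace Groth.Agent.RelPCLib

open Groth.Agent.DCohLib Groth.Agent.PCHomLib Groth.Agent.DRingLib Groth.Agent.DTenLib

local instance preservesFiniteLimits_tilde''' (R : CommRingCat.{u}) : PreservesFiniteLimits (tilde.functor R) :=
  TildeD.preservesFiniteLimits_tilde

variable {X Y Z : Scheme.{u}}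

/-- Cohomological bounds pass to module models. -/
theorem aboveZero_of_model {U : X.Opens} {hU : IsAffineOpen U} {K : DCoh.D X} {M : Dual.D Γ(X, U)}
    (hM : Model hU K M) {b : ℤ} [K.IsLE b] : AboveZero (b + 1) M := fun i hi => by
  obtain ⟨e⟩ := hM
  haveI : IsClosedImmersion hU.isoSpec.symm.inv := inferInstance
  obtain ⟨e1⟩ := nonempty_restrictD_pushInv hU.isoSpec.symm ((DCoh.restrictD U.ι).obj K)
  have z0 : IsZero (DCoh.HD ((DCoh.restrictD U.ι).obj K) i) :=
    ((Scheme.Modules.restrictFunctor U.ι).map_isZero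
      (DerivedCategory.isZero_of_isLE K b i (by omega))).of_iso (TildeD.restrictHDIso U.ι i K)
  have z1 : IsZero (DCoh.HD ((DCoh.restrictD hU.isoSpec.inv).obj ((DCoh.restrictD U.ι).obj K)) i) :=
    ((Scheme.Modules.restrictFunctor hU.isoSpec.inv).map_isZero z0).of_iso (TildeD.restrictHDIso _ i _)
  let F := tilde.functor (X.presheaf.obj (Opposite.op U))
  have z2 : IsZero (F.obj ((DerivedCategory.homologyFunctor _ i).obj M)) :=
    z1.of_iso (((TildeD.nu F i).app M).symm ≪≫ (DerivedCategory.homologyFunctor _ i).mapIso (e ≪≫ e1.symm))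
  rw [IsZero.iff_id_eq_zero]
  exact F.map_injective (z2.eq_of_src _ _)

/-- Module models of derived tensor products. -/
theorem model_lTensor {U : X.Opens} (hU : IsAffineOpen U) (E : CochainComplex X.Modules ℤ) [DCoh.HasLTensorCx E]
    (L : DCoh.D X) (M N : DRing.Cx Γ(X, U)) (hN : DRing.IsKFlat Γ(X, U) N)
    (hM : Model hU (DCoh.toD X E) (DRing.toD M)) (hL : Model hU L (DRing.toD N)) :
    Model hU ((DCoh.LTensorCx E).obj L) (DRing.toD (M ⊗ N : DRing.Cx Γ(X, U))) := by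
  obtain ⟨eM⟩ := hM
  obtain ⟨eN⟩ := hL
  let A := X.presheaf.obj (Opposite.op U)
  let j := hU.fromSpec
  obtain ⟨cT⟩ := nonempty_chart_lpull hU ((DCoh.LTensorCx E).obj L)
  obtain ⟨cE⟩ := nonempty_chart_lpull hU (DCoh.toD X E)
  obtain ⟨cL⟩ := nonempty_chart_lpull hU L
  let P := (resX X).obj (DerivedCategory.Q.objPreimage L)
  let R := (resX X).obj E
  let eR : DCoh.toD X R ≅ DCoh.toD X E := @asIso _ _ _ _ _ (isIso_Q_resXπ E)
  let eT : DerivedCategory.Q.obj ((DCoh.tensorCx.obj P).obj R) ≅ (DCoh.LTensorCx E).obj L :=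
    ((lTensorCxIsoQ E R ((resXπ X).app E) (quasiIso_resXπ E) (isKFlat_resX E)).app P).symm ≪≫
      (DCoh.LTensorCx E).mapIso (resXIso L)
  let Pj := (pullCx j).obj P
  let Rj := (pullCx j).obj R
  have hPj : DCoh.IsKFlat Pj := isKFlat_pullback j (isKFlat_resX _)
  have hRj : DCoh.IsKFlat Rj := isKFlat_pullback j (isKFlat_resX _)
  let M' := (TildeLpull.resM Γ(X, U)).obj M
  let N' := (TildeLpull.resM Γ(X, U)).obj N
  let eM' : DRing.toD M' ≅ DRing.toD M := (TildeLpull.resQIso (A := Γ(X, U))).app M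
  let eN' : DRing.toD N' ≅ DRing.toD N := (TildeLpull.resQIso (A := Γ(X, U))).app N
  let tN := (TildeLpull.tilCx A).obj N'
  let tM := (TildeLpull.tilCx A).obj M'
  have htN : DCoh.IsKFlat tN := TildeLpull.isKFlat_tilCx N' (TildeLpull.isKFlat_resM _ _)
  let aP : DerivedCategory.Q.obj Pj ≅ DerivedCategory.Q.obj tN :=
    (lpullIsoK j P (isKFlat_resX _)).symm ≪≫ (DCoh.Lpull j).mapIso (resXIso L) ≪≫ cL.symm ≪≫ eN.symm ≪≫
      (DCoh.tildeD A).mapIso eN'.symm ≪≫ (TildeLpull.tildeDFactors A).app N'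
  let aR : DerivedCategory.Q.obj Rj ≅ DerivedCategory.Q.obj tM :=
    (lpullIsoK j R (isKFlat_resX _)).symm ≪≫ (DCoh.Lpull j).mapIso eR ≪≫ cE.symm ≪≫ eM.symm ≪≫
      (DCoh.tildeD A).mapIso eM'.symm ≪≫ (TildeLpull.tildeDFactors A).app M'
  have key : ∀ (F C C' : CochainComplex (Spec A).Modules ℤ), DCoh.IsKFlat F →
      (DerivedCategory.Q.obj C ≅ DerivedCategory.Q.obj C') →
      Nonempty (DerivedCategory.Q.obj ((DCoh.tensorCx.obj C).obj F) ≅
        DerivedCategory.Q.obj ((DCoh.tensorCx.obj C').obj F)) := fun F C C' hF e =>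
    haveI : DCoh.HasLTensorCx F := hasLTensorCx F
    ⟨(@asIso _ _ _ _ _ (isIso_lTensorCounit_app_of_isKFlat F hF C)).symm ≪≫
      (DCoh.LTensorCx F).mapIso e ≪≫ @asIso _ _ _ _ _ (isIso_lTensorCounit_app_of_isKFlat F hF C')⟩
  obtain ⟨k1⟩ := key Rj Pj tN hRj aP
  obtain ⟨k2⟩ := key tN Rj tM htN aR
  obtain ⟨t⟩ := nonempty_tilCx_tensor M' N'
  haveI := DRingLib.hasLTen Γ(X, U)
  haveI := isIso_ε_right M N hN
  haveI := isIso_ε_right M' N' ((DTenLib.isKFlat_iff _).2 (TildeLpull.isKFlat_resM Γ(X, U) N))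
  let eMN : DRing.toD (M ⊗ N : DRing.Cx Γ(X, U)) ≅ DRing.toD (M' ⊗ N' : DRing.Cx Γ(X, U)) :=
    (asIso ((DTen.ε Γ(X, U)).app (M, N))).symm ≪≫ (DTen.LTen₂ Γ(X, U)).mapIso (Iso.prod eM'.symm eN'.symm) ≪≫
      asIso ((DTen.ε Γ(X, U)).app (M', N'))
  exact ⟨(DCoh.tildeD A).mapIso eMN ≪≫ (TildeLpull.tildeDFactors A).app (M' ⊗ N' : DRing.Cx Γ(X, U)) ≪≫
    DerivedCategory.Q.mapIso t ≪≫ k2.symm ≪≫ DerivedCategory.Q.mapIso (TildeD.tensorCxSymm Rj tN) ≪≫ k1.symm ≪≫
    DerivedCategory.Q.mapIso (pullTensorCxIso j P R).symm ≪≫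
    (lpullIsoK j _ (isKFlat_tensorCx (isKFlat_resX _) (isKFlat_resX _))).symm ≪≫
    (DCoh.Lpull j).mapIso eT ≪≫ cT.symm⟩

/-- Relative pseudo-coherence of a derived tensor product with a derived inverse image, for objects with
quasi-coherent cohomology. -/
theorem rel_lTensor_lpull (f : X ⟶ Y) (g : Y ⟶ Z) [LocallyOfFiniteType f] [LocallyOfFiniteType g] {a b c d : ℤ}
    (E : CochainComplex X.Modules ℤ) [DCoh.HasLTensorCx E] (hqE : DCoh.IsQCohD (DCoh.toD X E))
    (hE : DerSch.IsPseudoCoherentRel f a (DCoh.toD X E)) [(DCoh.toD X E).IsLE b]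
    (F : DCoh.D Y) (hqF : DCoh.IsQCohD F) (hF : DerSch.IsPseudoCoherentRel g c F) [F.IsLE d] [DCoh.HasLpull f] :
    DerSch.IsPseudoCoherentRel (f ≫ g) (max (a + d) (b + c))
      ((DCoh.LTensorCx E).obj ((DCoh.Lpull f).obj F)) := by
  refine rel_of_test (f ≫ g) fun x => ?_
  obtain ⟨U, V, W, hU, hV, hW, hx, hUV, hVW⟩ := exists_affine_triple g f x
  have h₃ : U ≤ (f ≫ g) ⁻¹ᵁ W := hUV.trans (f.preimage_mono hVW)
  refine ⟨U, W, h₃, hU, hW, hx, ?_⟩
  let R := Γ(Z, W)
  let A := Γ(Y, V)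
  let B := Γ(X, U)
  letI : Algebra R A := (g.appLE W V hVW).hom.toAlgebra
  letI : Algebra A B := (f.appLE V U hUV).hom.toAlgebra
  letI : Algebra R B := ((f ≫ g).appLE W U h₃).hom.toAlgebra
  haveI : IsScalarTower R A B := .of_algebraMap_eq' (by
    show ((f ≫ g).appLE W U h₃).hom = (f.appLE V U hUV).hom.comp (g.appLE W V hVW).hom
    rw [← CommRingCat.hom_comp, Scheme.Hom.appLE_comp_appLE])
  haveI : Algebra.FiniteType R A := g.finiteType_appLE hW hV hVW
  haveI : Algebra.FiniteType A B := f.finiteType_appLE hV hU hUV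
  haveI : DRing.HasLBaseChange (f.appLE V U hUV).hom := DRingLib.hasLBaseChange _
  obtain ⟨M₀, hM₀⟩ := exists_model hqE hU
  obtain ⟨K₀, hK₀⟩ := exists_model hqF hV
  let M := DerivedCategory.Q.objPreimage M₀
  let eM : DRing.toD M ≅ M₀ := DerivedCategory.Q.objObjPreimageIso M₀
  have hKb : AboveZero (d + 1) K₀ := aboveZero_of_model hK₀
  obtain ⟨N, hNd, hNp, ⟨eN⟩⟩ := exists_proj_representative hKb
  have hM : Model hU (DCoh.toD X E) (DRing.toD M) := ⟨(DCoh.tildeD _).mapIso eM ≪≫ hM₀.some⟩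
  have hK : Model hV F (DRing.toD N) := ⟨(DCoh.tildeD _).mapIso eN ≪≫ hK₀.some⟩
  have hNk : DRing.IsKFlat A N := isKFlat_of_projective hNd hNp
  let N₁ : DRing.Cx B := (DTen.extCx (algebraMap A B)).obj N
  have hL : Model hU ((DCoh.Lpull f).obj F) (DRing.toD N₁) :=
    ⟨(DCoh.tildeD _).mapIso (lbcIso (f.appLE V U hUV).hom N hNk).symm ≪≫ (model_lpull f hV hU hUV hK).some⟩
  have hN₁ : DRing.IsKFlat B N₁ := by
    refine DRingLib.isKFlat_of_vanishesAbove (b := d)
      (fun i hi => (ModuleCat.extendScalars.{u, u, u} (algebraMap A B)).map_isZero (hNd i hi)) fun i => ?_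
    haveI := hNp i
    haveI : Module.Flat A (N.X i) := inferInstance
    exact Module.Flat.of_linearEquiv (extendScalarsTensorEquiv A B (N.X i))
  exact (test_iff_rel (f ≫ g) hU hW h₃ (model_lTensor hU E _ M N₁ hN₁ hM hL) rfl).2
    (rel_tensor_ext M ((test_iff_rel f hU hV hUV hM rfl).1 (test_of_rel f hE hU hV hUV)) (aboveZero_of_model hM)
      N hNd hNp ((test_iff_rel g hV hW hVW hK rfl).1 (test_of_rel g hF hV hW hVW)))

end Groth.Agent.RelPCLib
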