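import Groth.Agent.RelPCLib.TorRing
import Groth.Agent.RelPCLib.FlatBC
import Groth.Agent.DerSchH7.TensorPull
import Groth.Agent.DerSchH7.Amp
import Groth.Agent.DCohMore.TildeStalkAmp
import Groth.Agent.PullbackMod.Flat
import Groth.Agent.PCHomLib.Rel

/-!
# Relative tor amplitude under flat base change
-/

set_option autoImplicit false
set_option backward.isDefEq.respectTransparency false
set_option linter.style.haveILetI false
set_option linter.unusedSectionVars false
set_option maxHeartbeats 1000000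

universe u

open CategoryTheory CategoryTheory.Limits AlgebraicGeometry MonoidalCategory
open scoped TensorProduct
attribute [local instance] HasDerivedCategory.standard

noncomputable section

namespace Groth.Agent.RelPCLib

open Groth.Agent.DRingLib Groth.Agent.DCohLib Groth.Agent.DerSchH7 Groth.Agent.PCHomLib

/-- The two models of extension of scalars. -/
def extBcIso (A B : Type u) [CommRing A] [CommRing B] [Algebra A B] :
    ModuleCat.extendScalars.{u, u, u} (algebraMap A B) ≅ bcF A B :=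
  NatIso.ofComponents (fun M => (extendScalarsTensorEquiv A B M).toModuleIso) fun {M N} g => by
    refine ModuleCat.hom_ext (LinearMap.ext fun x => ?_)
    refine TensorProduct.induction_on x ?_ (fun b m => ?_) (fun a b ha hb => ?_)
    · exact (map_zero _).trans (map_zero _).symm
    · rfl
    · exact (map_add _ _ _).trans ((congrArg₂ (· + ·) ha hb).trans (map_add _ _ _).symm)

variable {X Y Y' X' : Scheme.{u}} {g : X' ⟶ X} {f' : X' ⟶ Y'} {f : X ⟶ Y} {h : Y' ⟶ Y}

/-- Relative tor amplitude at a point of the inverse image along a base change which is exact on the complex. -/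
theorem hasTorAmplitudeAt_pull_aux (hc : IsPullback g f' f h) (F : CochainComplex X.Modules ℤ) {a b : ℤ} (x' : X')
    (hF : DerSch.HasTorAmplitudeAt f a b F (g x')) {V : Y.Opens} {W : X.Opens} {V' : Y'.Opens} (hV : IsAffineOpen V)
    (hW : IsAffineOpen W) (hV' : IsAffineOpen V') (e : W ≤ f ⁻¹ᵁ V) (e' : V' ≤ h ⁻¹ᵁ V) (hxW : g x' ∈ W)
    (hxV' : f' x' ∈ V')
    (hbc : ∀ [DRing.HasLBaseChange (h.appLE V V' e').hom],
      Nonempty ((DRing.LBaseChange (h.appLE V V' e').hom).obj
          (DRing.toD ((DTen.resCx ((f.stalkMap (g x')).hom.comp (Y.presheaf.germ V (f (g x')) (e hxW)).hom)).obj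
            (((stkF (g x')).mapHomologicalComplex (ComplexShape.up ℤ)).obj F))) ≅
        DRing.toD ((DTen.extCx (h.appLE V V' e').hom).obj
          ((DTen.resCx ((f.stalkMap (g x')).hom.comp (Y.presheaf.germ V (f (g x')) (e hxW)).hom)).obj
            (((stkF (g x')).mapHomologicalComplex (ComplexShape.up ℤ)).obj F))))) :
    DerSch.HasTorAmplitudeAt f' a b
      (((Scheme.Modules.pullback g).mapHomologicalComplex (ComplexShape.up ℤ)).obj F) x' := by
  obtain ⟨hW', hpo⟩ := PullbackMod.isPushout_appLE hc hV hW hV' e e'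
  have hfx : f (g x') ∈ V := e hxW
  let W' := g ⁻¹ᵁ W ⊓ f' ⁻¹ᵁ V'
  have hx' : x' ∈ W' := ⟨hxW, hxV'⟩
  let A₀ := Γ(Y, V)
  let A₁ := Γ(Y', V')
  let B₀ := Γ(X, W)
  let B₁ := Γ(X', W')
  let A := Y.presheaf.stalk (f (g x'))
  let A' := Y'.presheaf.stalk (f' x')
  let B := X.presheaf.stalk (g x')
  let B' := X'.presheaf.stalk x'
  letI : Algebra A₀ B₀ := (f.appLE V W e).hom.toAlgebra
  letI : Algebra A₀ A₁ := (h.appLE V V' e').hom.toAlgebra
  letI : Algebra B₀ B₁ := (g.appLE W W' inf_le_left).hom.toAlgebra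
  letI : Algebra A₁ B₁ := (f'.appLE V' W' inf_le_right).hom.toAlgebra
  letI : Algebra A₀ B₁ := ((g.appLE W W' inf_le_left).hom.comp (f.appLE V W e).hom).toAlgebra
  haveI : IsScalarTower A₀ B₀ B₁ := .of_algebraMap_eq fun _ => rfl
  haveI : IsScalarTower A₀ A₁ B₁ := .of_algebraMap_eq' (by
      show ((f.appLE V W e) ≫ g.appLE W _ inf_le_left).hom =
        ((h.appLE V V' e') ≫ f'.appLE V' _ inf_le_right).hom
      simp only [Scheme.Hom.appLE_comp_appLE, hc.w])
  haveI : Algebra.IsPushout A₀ A₁ B₀ B₁ := hpo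
  haveI := DRingLib.hasLBaseChange (algebraMap A₀ A₁)
  letI : Algebra B₀ B := (X.presheaf.germ W (g x') hxW).hom.toAlgebra
  letI : Algebra B₁ B' := (X'.presheaf.germ W' x' hx').hom.toAlgebra
  letI : Algebra B B' := (g.stalkMap x').hom.toAlgebra
  letI : Algebra B₀ B' := ((g.stalkMap x').hom.comp (X.presheaf.germ W (g x') hxW).hom).toAlgebra
  haveI : IsScalarTower B₀ B B' := .of_algebraMap_eq fun _ => rfl
  haveI : IsScalarTower B₀ B₁ B' := .of_algebraMap_eq' (by
      show (X.presheaf.germ W (g x') hxW ≫ g.stalkMap x').hom =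
        (g.appLE W W' inf_le_left ≫ X'.presheaf.germ W' x' hx').hom
      rw [Scheme.Hom.germ_stalkMap, Scheme.Hom.appLE, Category.assoc, TopCat.Presheaf.germ_res])
  haveI hT : IsLocalization (hW.primeIdealOf ⟨g x', hxW⟩).asIdeal.primeCompl B :=
    hW.isLocalization_stalk ⟨g x', hxW⟩
  haveI hT' : IsLocalization (hW'.primeIdealOf ⟨x', hx'⟩).asIdeal.primeCompl B' :=
    hW'.isLocalization_stalk ⟨x', hx'⟩
  haveI : Module.Flat B₁ B' := IsLocalization.flat B' (hW'.primeIdealOf ⟨x', hx'⟩).asIdeal.primeCompl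
  letI : Algebra A₀ A := (Y.presheaf.germ V (f (g x')) hfx).hom.toAlgebra
  have hA : (algebraMap A₀ A).Flat := by
    haveI := hV.isLocalization_stalk ⟨f (g x'), hfx⟩
    exact RingHom.flat_algebraMap_iff.2
      (IsLocalization.flat A (hV.primeIdealOf ⟨f (g x'), hfx⟩).asIdeal.primeCompl)
  letI : Algebra A₁ A' := (Y'.presheaf.germ V' (f' x') hxV').hom.toAlgebra
  haveI hA' : IsLocalization (hV'.primeIdealOf ⟨f' x', hxV'⟩).asIdeal.primeCompl A' :=
    hV'.isLocalization_stalk ⟨f' x', hxV'⟩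
  haveI : Algebra.WeaklyEtale A₁ A' :=
    DCohMore.weaklyEtale_of_isLocalization (hV'.primeIdealOf ⟨f' x', hxV'⟩).asIdeal.primeCompl
  letI : Algebra A₀ B := ((f.stalkMap (g x')).hom.comp (algebraMap A₀ A)).toAlgebra
  haveI : IsScalarTower A₀ B₀ B := .of_algebraMap_eq' (by
    show (Y.presheaf.germ V (f (g x')) hfx ≫ f.stalkMap (g x')).hom =
      (f.appLE V W e ≫ X.presheaf.germ W (g x') hxW).hom
    rw [Scheme.Hom.germ_stalkMap, Scheme.Hom.appLE, Category.assoc, TopCat.Presheaf.germ_res])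
  letI : Algebra A₁ B' := ((f'.stalkMap x').hom.comp (algebraMap A₁ A')).toAlgebra
  haveI : IsScalarTower A₁ B₁ B' := .of_algebraMap_eq' (by
      show (Y'.presheaf.germ V' (f' x') hxV' ≫ f'.stalkMap x').hom =
        (f'.appLE V' W' inf_le_right ≫ X'.presheaf.germ W' x' hx').hom
      rw [Scheme.Hom.germ_stalkMap, Scheme.Hom.appLE, Category.assoc, TopCat.Presheaf.germ_res])
  let G : DRing.Cx B := ((stkF (g x')).mapHomologicalComplex (ComplexShape.up ℤ)).obj F
  -- amplitude over the sections of the base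
  have h0 : DRing.HasTorAmplitudeIn A₀ a b ((DRing.restrictD (algebraMap A₀ B)).obj (DRing.toD G)) := by
    obtain ⟨e1⟩ := nonempty_restrictD_comp (algebraMap A₀ A) (f.stalkMap (g x')).hom (DRing.toD G)
    refine amp_of_iso e1 (amp_restrict_of_flat _ hA (amp_of_iso ?_ hF))
    exact DerivedCategory.Q.mapIso (stalkCxOverResIso f (g x') F) ≪≫
      ((DTen.resFactors (f.stalkMap (g x')).hom).app G).symm
  have h1 := amp_tensor_local' (A₀ := A₀) (A₁ := A₁) (B₀ := B₀) (B₁ := B₁) (B := B) (B' := B')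
    (hW.primeIdealOf ⟨g x', hxW⟩).asIdeal.primeCompl G a b
    (@hbc (DRingLib.hasLBaseChange (algebraMap A₀ A₁))) h0
  -- the stalk of the inverse image
  let eS : (DTen.extCx (algebraMap B B')).obj G ≅ ((stkF x').mapHomologicalComplex (ComplexShape.up ℤ)).obj
      (((Scheme.Modules.pullback g).mapHomologicalComplex (ComplexShape.up ℤ)).obj F) :=
    (NatIso.mapHomologicalComplex (extBcIso B B') (ComplexShape.up ℤ)).app G ≪≫
      (mapCxSquareIso (Scheme.Modules.pullback g) (stkF x') (stkF (g x')) (bcF B B') (pullStalkNatIso g x') F).symm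
  obtain ⟨e2⟩ := nonempty_restrictD_comp (algebraMap A₁ A') (f'.stalkMap x').hom
    (DRing.toD (((stkF x').mapHomologicalComplex (ComplexShape.up ℤ)).obj
      (((Scheme.Modules.pullback g).mapHomologicalComplex (ComplexShape.up ℤ)).obj F)))
  have h2 := amp_of_restrict_weaklyEtale (A := A₁) (B := A')
    (amp_of_iso ((DRing.restrictD (algebraMap A₁ B')).mapIso (DerivedCategory.Q.mapIso eS) ≪≫ e2.symm) h1)
  exact amp_of_iso ((DTen.resFactors (f'.stalkMap x').hom).app _ ≪≫
    DerivedCategory.Q.mapIso (stalkCxOverResIso f' x'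
      (((Scheme.Modules.pullback g).mapHomologicalComplex (ComplexShape.up ℤ)).obj F)).symm) h2

/-- Relative tor amplitude of inverse images along flat base changes. -/
theorem hasTorAmplitude_pull_baseChange [Flat h] (hc : IsPullback g f' f h) (F : CochainComplex X.Modules ℤ)
    {a b : ℤ} (hF : DerSch.HasTorAmplitude f a b F) :
    DerSch.HasTorAmplitude f' a b (((Scheme.Modules.pullback g).mapHomologicalComplex (ComplexShape.up ℤ)).obj F) := by
  intro x'
  obtain ⟨V, W, V', hV, hW, hV', e, e', hxW, hxV'⟩ := PullbackMod.exists_affines hc x'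
  refine hasTorAmplitudeAt_pull_aux hc F x' (hF (g x')) hV hW hV' e e' hxW hxV' ?_
  letI : Algebra Γ(Y, V) Γ(Y', V') := (h.appLE V V' e').hom.toAlgebra
  haveI : Module.Flat Γ(Y, V) Γ(Y', V') := h.flat_appLE hV hV' e'
  intro _
  exact ⟨lbcIsoOfFlat (algebraMap Γ(Y, V) Γ(Y', V')) (flat_baseMod _ _) _⟩

variable {S S' : Scheme.{u}} {q : Y ⟶ S} {q' : Y' ⟶ S'} {u₀ : S' ⟶ S}

/-- Relative tor amplitude of inverse images of K-flat complexes along tor-independent base changes: both the
source and the base of `f` are flat over `S` and the base change comes from `S' ⟶ S`. -/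
theorem hasTorAmplitude_pull_torIndep (hS : IsPullback h q' q u₀) [Flat q] [Flat (f ≫ q)]
    (hc : IsPullback g f' f h) (F : CochainComplex X.Modules ℤ) (hk : DCoh.IsKFlat F)
    {a b : ℤ} (hF : DerSch.HasTorAmplitude f a b F) :
    DerSch.HasTorAmplitude f' a b (((Scheme.Modules.pullback g).mapHomologicalComplex (ComplexShape.up ℤ)).obj F) := by
  intro x'
  obtain ⟨T, V, T', hT, hV, hT', eT, eT', hxV, hxT'⟩ := PullbackMod.exists_affines hS (f' x')
  obtain ⟨hV', hpo⟩ := PullbackMod.isPushout_appLE hS hT hV hT' eT eT'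
  let V' := h ⁻¹ᵁ V ⊓ q' ⁻¹ᵁ T'
  have hxf : g x' ∈ f ⁻¹ᵁ V := by
    show f (g x') ∈ V
    rw [← Scheme.Hom.comp_apply, hc.w]
    exact hxV
  obtain ⟨_, ⟨W : X.Opens, hW, rfl⟩, hxW, hWV⟩ :=
    X.isBasis_affineOpens.exists_subset_of_mem_open (a := g x') (u := ↑(f ⁻¹ᵁ V)) hxf (f ⁻¹ᵁ V).2
  have e : W ≤ f ⁻¹ᵁ V := hWV
  refine hasTorAmplitudeAt_pull_aux hc F x' (hF (g x')) hV hW hV' e inf_le_left hxW ⟨hxV, hxT'⟩ ?_
  intro _
  let R := Γ(S, T)
  let R' := Γ(S', T')
  let A₀ := Γ(Y, V)
  let A₁ := Γ(Y', V')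
  let B := X.presheaf.stalk (g x')
  letI : Algebra R A₀ := (q.appLE T V eT).hom.toAlgebra
  letI : Algebra R R' := (u₀.appLE T T' eT').hom.toAlgebra
  letI : Algebra A₀ A₁ := (h.appLE V V' inf_le_left).hom.toAlgebra
  letI : Algebra R' A₁ := (q'.appLE T' V' inf_le_right).hom.toAlgebra
  letI : Algebra R A₁ := ((h.appLE V V' inf_le_left).hom.comp (q.appLE T V eT).hom).toAlgebra
  haveI : IsScalarTower R A₀ A₁ := .of_algebraMap_eq fun _ => rfl
  haveI : IsScalarTower R R' A₁ := .of_algebraMap_eq' (by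
      show ((q.appLE T V eT) ≫ h.appLE V V' inf_le_left).hom =
        ((u₀.appLE T T' eT') ≫ q'.appLE T' V' inf_le_right).hom
      simp only [Scheme.Hom.appLE_comp_appLE, hS.w])
  haveI : Algebra.IsPushout R R' A₀ A₁ := hpo
  haveI : Module.Flat R A₀ := q.flat_appLE hT hV eT
  have hfx : f (g x') ∈ V := e hxW
  letI : Algebra A₀ B := ((f.stalkMap (g x')).hom.comp (Y.presheaf.germ V (f (g x')) hfx).hom).toAlgebra
  have eW : W ≤ (f ≫ q) ⁻¹ᵁ T := e.trans (f.preimage_mono eT)
  letI : Algebra R Γ(X, W) := ((f ≫ q).appLE T W eW).hom.toAlgebra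
  letI : Algebra Γ(X, W) B := (X.presheaf.germ W (g x') hxW).hom.toAlgebra
  letI : Algebra R B := ((X.presheaf.germ W (g x') hxW).hom.comp ((f ≫ q).appLE T W eW).hom).toAlgebra
  haveI : IsScalarTower R Γ(X, W) B := .of_algebraMap_eq fun _ => rfl
  haveI : Module.Flat R Γ(X, W) := (f ≫ q).flat_appLE hT hW eW
  haveI : Module.Flat Γ(X, W) B := by
    haveI : IsLocalization (hW.primeIdealOf ⟨g x', hxW⟩).asIdeal.primeCompl B := hW.isLocalization_stalk ⟨g x', hxW⟩
    exact IsLocalization.flat B (hW.primeIdealOf ⟨g x', hxW⟩).asIdeal.primeCompl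
  haveI : Module.Flat R B := Module.Flat.trans R Γ(X, W) B
  haveI : IsScalarTower R A₀ B := .of_algebraMap_eq' (by
    show ((f ≫ q).appLE T W eW ≫ X.presheaf.germ W (g x') hxW).hom =
      (q.appLE T V eT ≫ Y.presheaf.germ V (f (g x')) hfx ≫ f.stalkMap (g x')).hom
    have h1 : Y.presheaf.germ V (f (g x')) hfx ≫ f.stalkMap (g x') =
        f.appLE V W e ≫ X.presheaf.germ W (g x') hxW := by
      rw [Scheme.Hom.germ_stalkMap, Scheme.Hom.appLE, Category.assoc, TopCat.Presheaf.germ_res]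
    rw [h1, ← Category.assoc, Scheme.Hom.appLE_comp_appLE])
  exact nonempty_lbc_resCx_of_kflat (R := R) (R' := R') (A₀ := A₀) (A₁ := A₁) (B := B) _
    ((isKFlat_iff_stalk F).1 hk (g x'))

/-- Relative tor amplitude of derived inverse images along flat base changes. -/
theorem hasTorAmplitudeD_lpull_baseChange [Flat h] (hc : IsPullback g f' f h) [DCoh.HasLpull g]
    (F : CochainComplex X.Modules ℤ) {a b : ℤ} (hF : DerSch.HasTorAmplitude f a b F) :
    DerSch.HasTorAmplitudeD f' a b ((DCoh.Lpull g).obj (DCoh.toD X F)) := by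
  haveI : Flat g := MorphismProperty.of_isPullback hc.flip inferInstance
  rintro G ⟨eG⟩ x'
  obtain ⟨e⟩ := nonempty_lpull_flat g F
  exact hasTorAmplitudeAt_congr f' (e.symm ≪≫ eG.symm) (hasTorAmplitude_pull_baseChange hc F hF x')

/-- Relative tor amplitude of derived inverse images along tor-independent base changes. -/
theorem hasTorAmplitudeD_lpull_torIndep (hS : IsPullback h q' q u₀) [Flat q] [Flat (f ≫ q)]
    (hc : IsPullback g f' f h) [DCoh.HasLpull g] (F : CochainComplex X.Modules ℤ)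
    {a b : ℤ} (hF : DerSch.HasTorAmplitude f a b F) :
    DerSch.HasTorAmplitudeD f' a b ((DCoh.Lpull g).obj (DCoh.toD X F)) := by
  rintro G ⟨eG⟩ x'
  let P := (resX X).obj F
  haveI := quasiIso_resXπ F
  haveI : IsIso (DerivedCategory.Q.map ((resXπ X).app F)) :=
    Localization.inverts DerivedCategory.Q (HomologicalComplex.quasiIso X.Modules (ComplexShape.up ℤ)) _
      ((HomologicalComplex.mem_quasiIso_iff _).2 inferInstance)
  let eP : DCoh.toD X P ≅ DCoh.toD X F := asIso (DerivedCategory.Q.map ((resXπ X).app F))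
  have hP : DerSch.HasTorAmplitude f a b P := fun x => hasTorAmplitudeAt_congr f eP.symm (hF x)
  exact hasTorAmplitudeAt_congr f'
    ((lpullIsoK g P (isKFlat_resX F)).symm ≪≫ (DCoh.Lpull g).mapIso eP ≪≫ eG.symm)
    (hasTorAmplitude_pull_torIndep hS hc P (isKFlat_resX F) hP x')

end Groth.Agent.RelPCLib
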