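import Groth.Agent.PCHomLib.RelLocal
import Groth.Agent.DRingLib.WeaklyEtaleAmp
import Groth.Agent.PCHomLib.Descend

/-!
# Base change of pseudo-coherent ring maps between flat algebras
-/

set_option autoImplicit false
set_option backward.isDefEq.respectTransparency false
set_option linter.style.haveILetI false
set_option linter.unusedSectionVars false
set_option maxHeartbeats 1000000

universe u

open CategoryTheory CategoryTheory.Limits
open scoped TensorProduct
attribute [local instance] HasDerivedCategory.standard

noncomputable section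

namespace Groth.Agent.RelPCLib

open Groth.Agent.DRingLib Groth.Agent.DTenLib Groth.Agent.PCHomLib

section Square

variable (R R' P P' : Type u) [CommRing R] [CommRing R'] [CommRing P] [CommRing P'] [Algebra R R'] [Algebra R P]
  [Algebra P P'] [Algebra R' P'] [Algebra R P'] [IsScalarTower R R' P'] [IsScalarTower R P P']
  [Algebra.IsPushout R R' P P']

include R'

/-- Extension of scalars keeps quasi-isomorphisms between complexes K-flat over the base. -/
theorem quasiIso_ext_of_kflat {F G : DRing.Cx P} (π : F ⟶ G) (hπ : QuasiIso π)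
    (hF : DRing.IsKFlat R ((DTen.resCx (algebraMap R P)).obj F))
    (hG : DRing.IsKFlat R ((DTen.resCx (algebraMap R P)).obj G)) :
    QuasiIso ((DTen.extCx (algebraMap P P')).map π) := by
  haveI := hπ
  haveI h0 : QuasiIso ((DTen.resCx (algebraMap R P)).map π) := inferInstance
  have h1 := quasiIso_extCx_map (algebraMap R R') _ h0 hF hG
  rw [← HomologicalComplex.quasiIso_map_iff_of_preservesHomology _ (ModuleCat.restrictScalars.{u} (algebraMap R' P'))]
  exact (quasiIso_iff_of_arrow_mk_iso _ _ (((Functor.mapArrowFunctor _ _).mapIso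
    (NatIso.mapHomologicalComplex (pushoutExtendIso R R' P P') (ComplexShape.up ℤ))).app (Arrow.mk π))).1 h1

/-- Derived base change of a module flat over the base. -/
theorem nonempty_lbc_inD_of_flat [Module.Flat R P] [DRing.HasLBaseChange (algebraMap P P')] (M : ModuleCat.{u} P)
    (hM : Module.Flat R ((ModuleCat.restrictScalars.{u} (algebraMap R P)).obj M)) :
    Nonempty ((DRing.LBaseChange (algebraMap P P')).obj (Dual.inD P M) ≅
      Dual.inD P' ((ModuleCat.extendScalars.{u, u, u} (algebraMap P P')).obj M)) := by
  let φ := algebraMap P P'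
  let c := ComplexShape.up ℤ
  let G := (HomologicalComplex.single (ModuleCat.{u} P) c 0).obj M
  let F := (resA P).obj G
  haveI : QuasiIso ((resAπ P).app G) := quasiIso_resAπ G
  let eF : DRing.toD F ≅ DRing.toD G := asIso (DerivedCategory.Q.map ((resAπ P).app G))
  have hG : DRing.IsKFlat R ((DTen.resCx (algebraMap R P)).obj G) := by
    refine isKFlat_of_vanishesAbove (b := 0) (fun i hi => ?_) fun i => ?_
    · exact (ModuleCat.restrictScalars.{u} (algebraMap R P)).map_isZero
        (HomologicalComplex.isZero_single_obj_X c 0 M i (by omega))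
    · by_cases hi : i = 0
      · subst hi
        exact Module.Flat.of_linearEquiv ((ModuleCat.restrictScalars.{u} (algebraMap R P)).mapIso
          (HomologicalComplex.singleObjXSelf c 0 M)).toLinearEquiv
      · haveI : Subsingleton (((DTen.resCx (algebraMap R P)).obj G).X i) :=
          ModuleCat.subsingleton_of_isZero ((ModuleCat.restrictScalars.{u} (algebraMap R P)).map_isZero
            (HomologicalComplex.isZero_single_obj_X c 0 M i hi))
        haveI : Module.Free R (((DTen.resCx (algebraMap R P)).obj G).X i) := Module.Free.of_subsingleton R _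
        exact Module.Flat.of_free
  have hq := quasiIso_ext_of_kflat R R' P P' ((resAπ P).app G) ‹_›
    (isKFlat_resCx (algebraMap R P) (flat_baseMod R P) (isKFlat_resA G)) hG
  haveI : IsIso (DerivedCategory.Q.map ((DTen.extCx φ).map ((resAπ P).app G))) :=
    isIso_Q_map _ hq
  exact ⟨(DRing.LBaseChange φ).mapIso ((singleQZeroIso M).symm ≪≫ eF.symm) ≪≫
    lbcIso φ F (isKFlat_resA G) ≪≫ asIso (DerivedCategory.Q.map ((DTen.extCx φ).map ((resAπ P).app G))) ≪≫
    DerivedCategory.Q.mapIso ((HomologicalComplex.singleMapHomologicalComplex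
      (ModuleCat.extendScalars.{u, u, u} φ) c 0).app M) ≪≫ singleQZeroIso _⟩

end Square

attribute [local instance] MvPolynomial.algebraMvPolynomial in
/-- Base change of a pseudo-coherent map between flat algebras. -/
theorem pcHom_of_isPushout_flat {R R' B B' C C' : Type u} [CommRing R] [CommRing R'] [CommRing B] [CommRing B']
    [CommRing C] [CommRing C'] [Algebra R R'] [Algebra R B] [Algebra R C] [Algebra R B'] [Algebra R C']
    [Algebra R' B'] [Algebra B B'] [Algebra B C] [Algebra B C'] [Algebra C C'] [Algebra B' C']
    [IsScalarTower R R' B'] [IsScalarTower R B B'] [IsScalarTower R B C] [IsScalarTower B B' C']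
    [IsScalarTower B C C'] [Algebra.IsPushout R R' B B'] [Algebra.IsPushout B B' C C'] [Module.Flat R B]
    [Module.Flat R C] (h : PCHom (algebraMap B C)) : PCHom (algebraMap B' C') := by
  obtain ⟨n, φ, hφ, hc, hp⟩ := h
  let P := MvPolynomial (Fin n) B
  let P' := MvPolynomial (Fin n) B'
  let φ' : P' →+* C' :=
    MvPolynomial.eval₂Hom (algebraMap B' C') fun i => algebraMap C C' (φ (MvPolynomial.X i))
  have hmap : φ'.comp (MvPolynomial.map (algebraMap B B')) = (algebraMap C C').comp φ := by
    refine MvPolynomial.ringHom_ext (fun b => ?_) fun i => by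
      rw [RingHom.comp_apply, RingHom.comp_apply, MvPolynomial.map_X]
      exact MvPolynomial.eval₂Hom_X' _ _ i
    rw [RingHom.comp_apply, RingHom.comp_apply, MvPolynomial.map_C,
      show φ (MvPolynomial.C b) = algebraMap B C b from RingHom.congr_fun hc b,
      ← IsScalarTower.algebraMap_apply B C C', IsScalarTower.algebraMap_apply B B' C']
    exact MvPolynomial.eval₂Hom_C _ _ _
  letI : Algebra P C := φ.toAlgebra
  letI : Algebra P' C' := φ'.toAlgebra
  letI : Algebra P C' := ((algebraMap C C').comp φ).toAlgebra
  letI : Algebra R' P' := ((MvPolynomial.C : B' →+* P').comp (algebraMap R' B')).toAlgebra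
  haveI : IsScalarTower R' B' P' := .of_algebraMap_eq fun _ => rfl
  haveI : IsScalarTower B P C := .of_algebraMap_eq fun b => (RingHom.congr_fun hc b).symm
  haveI : IsScalarTower B' P' C' := .of_algebraMap_eq fun b => (MvPolynomial.eval₂Hom_C _ _ b).symm
  haveI : IsScalarTower P C C' := .of_algebraMap_eq fun _ => rfl
  haveI : IsScalarTower P P' C' := .of_algebraMap_eq fun p => (RingHom.congr_fun hmap p).symm
  haveI : IsScalarTower B P C' := .of_algebraMap_eq fun b => by
    rw [IsScalarTower.algebraMap_apply P C C', ← IsScalarTower.algebraMap_apply B P C,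
      ← IsScalarTower.algebraMap_apply B C C']
  haveI : IsScalarTower R P C := .of_algebraMap_eq fun r => by
    rw [IsScalarTower.algebraMap_apply R B P, ← IsScalarTower.algebraMap_apply B P C,
      ← IsScalarTower.algebraMap_apply R B C]
  haveI : IsScalarTower R R' P' := .of_algebraMap_eq fun r => by
    show algebraMap R P' r = MvPolynomial.C (algebraMap R' B' (algebraMap R R' r))
    rw [← IsScalarTower.algebraMap_apply R R' B']
    rfl
  haveI : IsScalarTower R P P' := .of_algebraMap_eq fun r => by
    rw [IsScalarTower.algebraMap_apply R B P, IsScalarTower.algebraMap_apply R B' P',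
      IsScalarTower.algebraMap_apply R B B']
    exact (MvPolynomial.map_C (algebraMap B B') _).symm
  haveI : IsScalarTower B P P' := inferInstance
  haveI : IsScalarTower B P' C' := .of_algebraMap_eq fun b => by
    rw [IsScalarTower.algebraMap_apply B B' P', ← IsScalarTower.algebraMap_apply B' P' C',
      ← IsScalarTower.algebraMap_apply B B' C']
  haveI : Algebra.IsPushout B B' P P' := inferInstance
  haveI hPR : Algebra.IsPushout R R' P P' := by
    haveI : Algebra.IsPushout R B R' B' := Algebra.IsPushout.symm inferInstance
    haveI : Algebra.IsPushout B P B' P' := Algebra.IsPushout.symm inferInstance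
    exact ((Algebra.IsPushout.comp_iff (R := R) (S := B) (T := P) (R' := R') (S' := B') (T' := P')).mpr
      inferInstance).symm
  haveI hPC : Algebra.IsPushout P P' C C' := by
    haveI : Algebra.IsPushout B C B' C' := Algebra.IsPushout.symm inferInstance
    haveI : Algebra.IsPushout B P B' P' := Algebra.IsPushout.symm inferInstance
    exact ((Algebra.IsPushout.comp_iff (R := B) (S := P) (T := C) (R' := B') (S' := P') (T' := C')).mp
      inferInstance).symm
  haveI : Module.Flat R P := Module.Flat.trans R B P
  haveI := DRingLib.hasLBaseChange (algebraMap P P')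
  refine ⟨n, φ', fun y => ?_, MvPolynomial.eval₂Hom_comp_C _ _, ?_⟩
  · refine hPC.out.inductionOn y (motive := fun y => ∃ p, φ' p = y) ⟨0, map_zero _⟩ (fun s => ?_)
      (fun a s ha => ?_) fun a b ha hb => ?_
    · obtain ⟨p, rfl⟩ := hφ s
      exact ⟨MvPolynomial.map (algebraMap B B') p, RingHom.congr_fun hmap p⟩
    · obtain ⟨p, rfl⟩ := ha
      exact ⟨a * p, by rw [Algebra.smul_def, map_mul]; rfl⟩
    · obtain ⟨p, rfl⟩ := ha
      obtain ⟨q, rfl⟩ := hb
      exact ⟨p + q, map_add _ _ _⟩
  refine pcMap_algebraMap_iff.mpr ((isPseudoCoherent'_iff _).mpr fun m => ?_)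
  have hm : PC FFree m (Dual.inD P C) := (isPseudoCoherent'_iff _).mp (pcMap_algebraMap_iff.mp hp) m
  have hflC : Module.Flat R ((ModuleCat.restrictScalars.{u} (algebraMap R P)).obj (ModuleCat.of P C)) :=
    Module.Flat.of_linearEquiv (M := C)
      { toFun := id, invFun := id, map_add' := fun _ _ => rfl,
        map_smul' := fun r (x : C) => by
          show (algebraMap R P r) • x = r • x
          rw [algebraMap_smul]
        left_inv := fun _ => rfl, right_inv := fun _ => rfl }
  obtain ⟨e⟩ := nonempty_lbc_inD_of_flat R R' P P' (ModuleCat.of P C) hflC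
  exact pc_inD_congr ((extendScalarsTensorEquiv P P' C).trans hPC.out.equiv)
    ((pc_lbc (algebraMap P P') hm).of_iso e)

end Groth.Agent.RelPCLib
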