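import Groth.Agent.PCHomLib.RelLocal
import Groth.Agent.RelPCLib.TorIndep
import Groth.Agent.DCohLib.PullKFlat
import Groth.Agent.DRingLib.RestrictAmp2
import Groth.Agent.DRingLib.WeaklyEtaleAmp
import Groth.Agent.DRingLib.Misc
import Mathlib.RingTheory.Localization.BaseChange

/-!
# Tor amplitude over the base under flat base change and localisation
-/

set_option autoImplicit false
set_option backward.isDefEq.respectTransparency false
set_option linter.style.haveILetI false
set_option linter.unusedSectionVars false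
set_option maxHeartbeats 1000000

universe u

open CategoryTheory CategoryTheory.Limits MonoidalCategory
open scoped TensorProduct
attribute [local instance] HasDerivedCategory.standard

noncomputable section

namespace Groth.Agent.RelPCLib

open Groth.Agent.DRingLib Groth.Agent.DTenLib Groth.Agent.PCHomLib

/-- Tor amplitude over the source is kept by flat extensions of the target. -/
theorem amp_restrict_ext_flat {R A B : Type u} [CommRing R] [CommRing A] [CommRing B] (φ : R →+* A) (χ : A →+* B)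
    (hχ : Module.Flat A (baseMod χ)) (P : DRing.Cx A) (a b : ℤ)
    (h : DRing.HasTorAmplitudeIn R a b ((DRing.restrictD φ).obj (DRing.toD P))) :
    DRing.HasTorAmplitudeIn R a b ((DRing.restrictD (χ.comp φ)).obj (DRing.toD ((DTen.extCx χ).obj P))) := by
  refine (amp_restrict_iff _ _ a b).2 fun M i hi => (exactAt_extCx_tensor_iff' φ χ P _ i).2 ?_
  have h1 := (amp_restrict_iff φ P a b).1 h M i hi
  rw [HomologicalComplex.exactAt_iff, ShortComplex.ShortExact.moduleCat_exact_iff_function_exact] at h1 ⊢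
  haveI := hχ
  exact Module.Flat.lTensor_exact (baseMod χ) h1

attribute [local instance] Algebra.TensorProduct.rightAlgebra in
/-- Tor amplitude over the base after an exact base change followed by a flat map from a localisation. -/
theorem amp_tensor_local' {A₀ A₁ B₀ B₁ B B' : Type u} [CommRing A₀] [CommRing A₁] [CommRing B₀] [CommRing B₁]
    [CommRing B] [CommRing B'] [Algebra A₀ A₁] [Algebra A₀ B₀] [Algebra A₀ B₁] [Algebra A₁ B₁] [Algebra B₀ B₁]
    [IsScalarTower A₀ A₁ B₁] [IsScalarTower A₀ B₀ B₁] [Algebra.IsPushout A₀ A₁ B₀ B₁] [DRing.HasLBaseChange (algebraMap A₀ A₁)]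
    [Algebra B₀ B] [Algebra A₀ B] [IsScalarTower A₀ B₀ B] (T : Submonoid B₀) [IsLocalization T B]
    [Algebra B B'] [Algebra B₀ B'] [IsScalarTower B₀ B B'] [Algebra B₁ B'] [IsScalarTower B₀ B₁ B']
    [Module.Flat B₁ B'] [Algebra A₁ B'] [IsScalarTower A₁ B₁ B']
    (F : DRing.Cx B) (a b : ℤ)
    (hbc : Nonempty ((DRing.LBaseChange (algebraMap A₀ A₁)).obj (DRing.toD ((DTen.resCx (algebraMap A₀ B)).obj F)) ≅
      DRing.toD ((DTen.extCx (algebraMap A₀ A₁)).obj ((DTen.resCx (algebraMap A₀ B)).obj F))))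
    (h : DRing.HasTorAmplitudeIn A₀ a b ((DRing.restrictD (algebraMap A₀ B)).obj (DRing.toD F))) :
    DRing.HasTorAmplitudeIn A₁ a b
      ((DRing.restrictD (algebraMap A₁ B')).obj (DRing.toD ((DTen.extCx (algebraMap B B')).obj F))) := by
  let C := B₁ ⊗[B₀] B
  let lift : C →ₐ[B₁] B' := Algebra.TensorProduct.lift (Algebra.ofId B₁ B') (IsScalarTower.toAlgHom B₀ B B')
    fun x y => mul_comm _ _
  letI : Algebra C B' := lift.toRingHom.toAlgebra
  haveI : IsScalarTower B₁ C B' := .of_algebraMap_eq fun x => (lift.commutes x).symm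
  haveI : IsScalarTower B C B' := .of_algebraMap_eq fun x => by
    show algebraMap B B' x = lift (algebraMap B C x)
    rw [show algebraMap B C x = (1 : B₁) ⊗ₜ[B₀] x from rfl, Algebra.TensorProduct.lift_tmul, map_one, one_mul]
    rfl
  haveI : IsScalarTower A₀ B C := .of_algebraMap_eq fun x => by
    rw [IsScalarTower.algebraMap_apply A₀ B₀ C, IsScalarTower.algebraMap_apply B₀ B C,
      ← IsScalarTower.algebraMap_apply A₀ B₀ B]
  haveI : IsLocalization (Algebra.algebraMapSubmonoid B₁ T) C := inferInstance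
  haveI : Module.Flat C B' := (Module.flat_iff_of_isLocalization C (Algebra.algebraMapSubmonoid B₁ T) B').2 ‹_›
  haveI : Algebra.IsPushout A₀ A₁ B C := by
    haveI : Algebra.IsPushout A₀ B₀ A₁ B₁ := Algebra.IsPushout.symm ‹_›
    haveI : Algebra.IsPushout B₀ B B₁ C := inferInstance
    exact ((Algebra.IsPushout.comp_iff A₀ B₀ A₁ (T := B) (S' := B₁) (T' := C)).2 inferInstance).symm
  obtain ⟨ebc⟩ := hbc
  have h1 : DRing.HasTorAmplitudeIn A₁ a b ((DRing.restrictD (algebraMap A₁ C)).obj
      (DRing.toD ((DTen.extCx (algebraMap B C)).obj F))) := by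
    refine amp_of_iso ?_ (hasTorAmplitudeIn_lbc (algebraMap A₀ A₁) h)
    exact (DRing.LBaseChange (algebraMap A₀ A₁)).mapIso ((DTen.resFactors (algebraMap A₀ B)).app F) ≪≫
      ebc ≪≫
      DerivedCategory.Q.mapIso ((NatIso.mapHomologicalComplex (pushoutExtendIso A₀ A₁ B C)
        (ComplexShape.up ℤ)).app F) ≪≫ ((DTen.resFactors (algebraMap A₁ C)).app ((DTen.extCx (algebraMap B C)).obj F)).symm
  have h2 := amp_restrict_ext_flat (algebraMap A₁ C) (algebraMap C B') (flat_baseMod C B') _ a b h1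
  have e1 : (algebraMap C B').comp (algebraMap A₁ C) = algebraMap A₁ B' := by
    rw [IsScalarTower.algebraMap_eq A₁ B₁ C, IsScalarTower.algebraMap_eq A₁ B₁ B', ← RingHom.comp_assoc,
      ← IsScalarTower.algebraMap_eq B₁ C B']
  rw [e1] at h2
  refine amp_of_iso ((DRing.restrictD (algebraMap A₁ B')).mapIso (DerivedCategory.Q.mapIso ?_)) h2
  exact (extCompIso (algebraMap B C) (algebraMap C B') F).symm ≪≫
    eqToIso (by rw [← IsScalarTower.algebraMap_eq B C B'])

/-- Tor amplitude over the base after a flat base change followed by a flat map from a localisation. -/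
theorem amp_tensor_local {A₀ A₁ B₀ B₁ B B' : Type u} [CommRing A₀] [CommRing A₁] [CommRing B₀] [CommRing B₁]
    [CommRing B] [CommRing B'] [Algebra A₀ A₁] [Algebra A₀ B₀] [Algebra A₀ B₁] [Algebra A₁ B₁] [Algebra B₀ B₁]
    [IsScalarTower A₀ A₁ B₁] [IsScalarTower A₀ B₀ B₁] [Algebra.IsPushout A₀ A₁ B₀ B₁] [Module.Flat A₀ A₁]
    [Algebra B₀ B] [Algebra A₀ B] [IsScalarTower A₀ B₀ B] (T : Submonoid B₀) [IsLocalization T B]
    [Algebra B B'] [Algebra B₀ B'] [IsScalarTower B₀ B B'] [Algebra B₁ B'] [IsScalarTower B₀ B₁ B']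
    [Module.Flat B₁ B'] [Algebra A₁ B'] [IsScalarTower A₁ B₁ B']
    (F : DRing.Cx B) (a b : ℤ)
    (h : DRing.HasTorAmplitudeIn A₀ a b ((DRing.restrictD (algebraMap A₀ B)).obj (DRing.toD F))) :
    DRing.HasTorAmplitudeIn A₁ a b
      ((DRing.restrictD (algebraMap A₁ B')).obj (DRing.toD ((DTen.extCx (algebraMap B B')).obj F))) := by
  haveI := DRingLib.hasLBaseChange (algebraMap A₀ A₁)
  exact amp_tensor_local' (B₀ := B₀) (B₁ := B₁) T F a b
    ⟨lbcIsoOfFlat (algebraMap A₀ A₁) (flat_baseMod A₀ A₁) _⟩ h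

/-- Extension of scalars computes the derived base change of complexes K-flat over a deeper base. -/
theorem nonempty_lbc_resCx_of_kflat {R R' A₀ A₁ B : Type u} [CommRing R] [CommRing R'] [CommRing A₀] [CommRing A₁]
    [CommRing B] [Algebra R R'] [Algebra R A₀] [Algebra A₀ A₁] [Algebra R' A₁] [Algebra R A₁]
    [IsScalarTower R R' A₁] [IsScalarTower R A₀ A₁] [Algebra.IsPushout R R' A₀ A₁] [Module.Flat R A₀]
    [Algebra R B] [Algebra A₀ B] [IsScalarTower R A₀ B] [Module.Flat R B]
    [DRing.HasLBaseChange (algebraMap A₀ A₁)] (F : DRing.Cx B) (hF : DRing.IsKFlat B F) :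
    Nonempty ((DRing.LBaseChange (algebraMap A₀ A₁)).obj (DRing.toD ((DTen.resCx (algebraMap A₀ B)).obj F)) ≅
      DRing.toD ((DTen.extCx (algebraMap A₀ A₁)).obj ((DTen.resCx (algebraMap A₀ B)).obj F))) := by
  let G := (DTen.resCx (algebraMap A₀ B)).obj F
  haveI : QuasiIso ((resAπ A₀).app G) := quasiIso_resAπ G
  let c : (DTen.resCx (algebraMap R B)).obj F ≅ (DTen.resCx (algebraMap R A₀)).obj G :=
    (NatIso.mapHomologicalComplex (ModuleCat.restrictScalarsComp'.{u} (algebraMap R A₀) (algebraMap A₀ B)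
      (algebraMap R B) (IsScalarTower.algebraMap_eq R A₀ B)) (ComplexShape.up ℤ)).app F
  have hG : DRing.IsKFlat R ((DTen.resCx (algebraMap R A₀)).obj G) :=
    DCohLib.isKFlat_of_iso_ring c (isKFlat_resCx (algebraMap R B) (flat_baseMod R B) hF)
  have hq := quasiIso_ext_of_kflat R R' A₀ A₁ ((resAπ A₀).app G) ‹_›
    (isKFlat_resCx (algebraMap R A₀) (flat_baseMod R A₀) (isKFlat_resA G)) hG
  haveI : IsIso (DerivedCategory.Q.map ((DTen.extCx (algebraMap A₀ A₁)).map ((resAπ A₀).app G))) :=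
    isIso_Q_map _ hq
  haveI : IsIso (DerivedCategory.Q.map ((resAπ A₀).app G)) := isIso_Q_map _ ‹_›
  exact ⟨(DRing.LBaseChange (algebraMap A₀ A₁)).mapIso (asIso (DerivedCategory.Q.map ((resAπ A₀).app G))).symm ≪≫
    lbcIso (algebraMap A₀ A₁) _ (isKFlat_resA G) ≪≫
    asIso (DerivedCategory.Q.map ((DTen.extCx (algebraMap A₀ A₁)).map ((resAπ A₀).app G)))⟩

end Groth.Agent.RelPCLib
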