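import Groth.Agent.RelPCLib.ExtTensor
import Groth.Agent.TorLib.ChangeRing
import Groth.Agent.KFlat.QuasiIso
import Groth.Agent.KFlat.Resolution

/-!
# Base change of relative pseudo-coherence under vanishing of Tor

Bounded above complexes whose terms have no higher Tor against a module compute derived tensor products with it.
-/

set_option autoImplicit false
set_option backward.isDefEq.respectTransparency false
set_option linter.style.haveILetI false
set_option linter.unusedSectionVars false
set_option maxHeartbeats 1000000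

universe u

open CategoryTheory CategoryTheory.Limits CategoryTheory.MonoidalCategory
open scoped TensorProduct

attribute [local instance] HasDerivedCategory.standard

noncomputable section

namespace Groth.Agent.RelPCLib

open Groth.Agent.DRingLib Groth.Agent.DTenLib Groth.Agent.PCHomLib

section Acyclic

variable {R : Type u} [CommRing R] {N : ModuleCat.{u} R} (P : ProjectiveResolution N)

/-- No higher Tor against `N`. -/
def TorAcyc (M : ModuleCat.{u} R) : Prop := ∀ n : ℕ, (TorLib.cx P M).ExactAt (n + 1)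

theorem torAcyc_of_iso {M M' : ModuleCat.{u} R} (e : M ≅ M') (h : TorAcyc P M) : TorAcyc P M' := fun n =>
  (h n).of_iso ((NatIso.mapHomologicalComplex ((tensoringLeft (ModuleCat.{u} R)).mapIso e)
    (ComplexShape.down ℕ)).app P.complex)

theorem torAcyc_of_flat (M : ModuleCat.{u} R) [Module.Flat R M] : TorAcyc P M :=
  TorLib.exactAt_succ_of_flat P M

/-- Extensions of modules without higher Tor. -/
theorem torAcyc_X₂ {S : ShortComplex (ModuleCat.{u} R)} (hS : S.ShortExact) (h₁ : TorAcyc P S.X₁)
    (h₃ : TorAcyc P S.X₃) : TorAcyc P S.X₂ := fun n => by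
  rw [HomologicalComplex.exactAt_iff_isZero_homology]
  exact ((TorLib.cxSeq_shortExact P hS).homology_exact₂ (n + 1)).isZero_X₂
    ((((HomologicalComplex.exactAt_iff_isZero_homology _ _).1 (h₁ n))).eq_of_src _ _)
    ((((HomologicalComplex.exactAt_iff_isZero_homology _ _).1 (h₃ n))).eq_of_tgt _ _)

/-- Kernels of surjections between modules without higher Tor. -/
theorem torAcyc_X₁ {S : ShortComplex (ModuleCat.{u} R)} (hS : S.ShortExact) (h₂ : TorAcyc P S.X₂)
    (h₃ : TorAcyc P S.X₃) : TorAcyc P S.X₁ := fun n => by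
  rw [HomologicalComplex.exactAt_iff_isZero_homology]
  exact ((TorLib.cxSeq_shortExact P hS).homology_exact₁ (n + 2) (n + 1) (by simp)).isZero_X₂
    ((((HomologicalComplex.exactAt_iff_isZero_homology _ _).1 (h₃ (n + 1)))).eq_of_src _ _)
    ((((HomologicalComplex.exactAt_iff_isZero_homology _ _).1 (h₂ n))).eq_of_tgt _ _)

/-- Tensoring is exact on sequences ending in a module without higher Tor. -/
theorem mono_whiskerRight_f {S : ShortComplex (ModuleCat.{u} R)} (hS : S.ShortExact) (h₃ : TorAcyc P S.X₃) :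
    Mono (S.f ▷ N) := by
  haveI : Mono (HomologicalComplex.homologyMap (TorLib.cxMap P S.f) 0) :=
    ((TorLib.cxSeq_shortExact P hS).homology_exact₁ 1 0 (by simp)).mono_g
      (((HomologicalComplex.exactAt_iff_isZero_homology _ _).1 (h₃ 0)).eq_of_src _ _)
  rw [show S.f ▷ N = (TorLib.h0Iso P S.X₁).inv ≫ HomologicalComplex.homologyMap (TorLib.cxMap P S.f) 0 ≫
      (TorLib.h0Iso P S.X₂).hom by rw [TorLib.h0Iso_naturality, Iso.inv_hom_id_assoc]]
  infer_instance

/-- An acyclic bounded above complex of modules without higher Tor stays acyclic after tensoring. -/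
theorem acyclic_map_tensorRight (W : DRing.Cx R) {b : ℤ} (hb : DRing.VanishesAbove W b) (hW : W.Acyclic)
    (hT : ∀ i, TorAcyc P (W.X i)) :
    (((tensorRight N).mapHomologicalComplex (ComplexShape.up ℤ)).obj W).Acyclic := by
  let dd : ∀ i : ℤ, W.X i →ₗ[R] W.X (i + 1) := fun i => (W.d i (i + 1)).hom
  let g : ∀ i : ℤ, W.X i →ₗ[R] LinearMap.ker (dd (i + 1)) := fun i =>
    (dd i).codRestrict _ fun x => LinearMap.mem_ker.2 congr($(W.d_comp_d i (i + 1) (i + 1 + 1)).hom x)
  have hg : ∀ i, Function.Surjective (g i) := fun i z => by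
    have h := hW (i + 1)
    rw [HomologicalComplex.exactAt_iff' _ i (i + 1) (i + 1 + 1) (by simp) (by simp),
      ShortComplex.moduleCat_exact_iff] at h
    obtain ⟨x, hx⟩ := h z.1 z.2
    exact ⟨x, Subtype.ext hx⟩
  have hfg : ∀ i, Function.Exact (LinearMap.ker (dd i)).subtype (g i) := fun i => by
    refine LinearMap.exact_iff.2 ?_
    rw [Submodule.range_subtype]
    ext x
    exact ⟨fun h => congrArg Subtype.val h, fun h => Subtype.ext h⟩
  have hS := fun i => TorLib.shortExact_mk (LinearMap.ker (dd i)).subtype (g i)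
    (Submodule.injective_subtype _) (hg i) (hfg i)
  have hz : ∀ i, b < i → TorAcyc P (ModuleCat.of R (LinearMap.ker (dd i))) := fun i hi => by
    haveI : Subsingleton (W.X i) := ModuleCat.subsingleton_of_isZero (hb i hi)
    haveI : Module.Free R (LinearMap.ker (dd i)) := Module.Free.of_subsingleton R _
    haveI : Module.Flat R (ModuleCat.of R (LinearMap.ker (dd i))) := Module.Flat.of_free
    exact torAcyc_of_flat P _
  have hZ : ∀ (k : ℕ) (i : ℤ), b < i + k → TorAcyc P (ModuleCat.of R (LinearMap.ker (dd i))) := by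
    intro k
    induction k with
    | zero => exact fun i hi => hz i (by simpa using hi)
    | succ k ih => exact fun i hi => torAcyc_X₁ P (hS i) (hT i) (ih (i + 1) (by push_cast at hi; omega))
  have hZ' : ∀ i, TorAcyc P (ModuleCat.of R (LinearMap.ker (dd i))) := fun i =>
    hZ ((b - i).toNat + 1) i (by omega)
  have hinj : ∀ i, Function.Injective (LinearMap.rTensor N (LinearMap.ker (dd i)).subtype) := fun i =>
    (ModuleCat.mono_iff_injective _).1 (mono_whiskerRight_f P (hS i) (hZ' (i + 1)))
  intro n
  obtain ⟨j, rfl⟩ : ∃ j, j + 1 = n := ⟨n - 1, by omega⟩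
  rw [HomologicalComplex.exactAt_iff' _ j (j + 1) (j + 1 + 1) (by simp) (by simp),
    ShortComplex.ShortExact.moduleCat_exact_iff_function_exact]
  show Function.Exact ((dd j).rTensor N) ((dd (j + 1)).rTensor N)
  intro y
  have e : ∀ i, (dd i).rTensor N = (LinearMap.ker (dd (i + 1))).subtype.rTensor N ∘ₗ (g i).rTensor N := fun i => by
    rw [← LinearMap.rTensor_comp]
    exact congrArg (LinearMap.rTensor N) (LinearMap.ext fun _ => rfl)
  rw [e j, e (j + 1)]
  rw [LinearMap.comp_apply, map_eq_zero_iff _ (hinj (j + 1 + 1)),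
    rTensor_exact N (hfg (j + 1)) (hg (j + 1)) y]
  simp only [Set.mem_range, LinearMap.comp_apply]
  constructor
  · rintro ⟨z, rfl⟩
    obtain ⟨w, rfl⟩ := LinearMap.rTensor_surjective N (hg j) z
    exact ⟨w, rfl⟩
  · rintro ⟨w, rfl⟩
    exact ⟨_, rfl⟩

end Acyclic

/-- Extension of scalars of an acyclic bounded above complex of modules without higher Tor. -/
theorem acyclic_extCx {R R' : Type u} [CommRing R] [CommRing R'] [Algebra R R']
    (P : ProjectiveResolution (ModuleCat.of R R')) (W : DRing.Cx R) {b : ℤ} (hb : DRing.VanishesAbove W b)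
    (hW : W.Acyclic) (hT : ∀ i, TorAcyc P (W.X i)) : ((DTen.extCx (algebraMap R R')).obj W).Acyclic := by
  intro n
  have h := acyclic_map_tensorRight P W hb hW hT n
  rw [HomologicalComplex.exactAt_iff' _ (n - 1) n (n + 1) (by simp) (by simp),
    ShortComplex.ShortExact.moduleCat_exact_iff_function_exact] at h ⊢
  let c := fun i : ℤ => (FlatCx.eB R' (W.X i)).toAddEquiv.trans (TensorProduct.comm R R' (W.X i)).toAddEquiv
  have nat : ∀ i j (z : (ModuleCat.extendScalars.{u, u, u} (algebraMap R R')).obj (W.X i)),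
      LinearMap.rTensor R' (W.d i j).hom (c i z) =
        c j (((ModuleCat.extendScalars.{u, u, u} (algebraMap R R')).map (W.d i j)).hom z) := fun i j z => by
    show LinearMap.rTensor R' (W.d i j).hom (TensorProduct.comm R R' (W.X i) (FlatCx.eB R' (W.X i) z)) =
      TensorProduct.comm R R' (W.X j) (FlatCx.eB R' (W.X j) _)
    rw [FlatCx.eB_naturality]
    generalize FlatCx.eB R' (W.X i) z = t
    induction t using TensorProduct.induction_on with
    | zero => simp
    | tmul r x => rfl
    | add x y hx hy => simp only [map_add, hx, hy]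
  exact (Function.Exact.iff_of_ladder_addEquiv (e₁ := c (n - 1)) (e₂ := c n) (e₃ := c (n + 1))
    (f₁₂ := ((ModuleCat.extendScalars.{u, u, u} (algebraMap R R')).map (W.d (n - 1) n)).hom.toAddMonoidHom)
    (f₂₃ := ((ModuleCat.extendScalars.{u, u, u} (algebraMap R R')).map (W.d n (n + 1))).hom.toAddMonoidHom)
    (g₁₂ := ((W.d (n - 1) n).hom.rTensor R').toAddMonoidHom)
    (g₂₃ := ((W.d n (n + 1)).hom.rTensor R').toAddMonoidHom)
    (AddMonoidHom.ext fun z => nat (n - 1) n z)
    (AddMonoidHom.ext fun z => nat n (n + 1) z)).1 h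

/-- Extension of scalars keeps quasi-isomorphisms of bounded above complexes of modules without higher Tor. -/
theorem quasiIso_extCx_of_torAcyc {R R' : Type u} [CommRing R] [CommRing R'] [Algebra R R']
    (P : ProjectiveResolution (ModuleCat.of R R')) {F G : DRing.Cx R} (π : F ⟶ G) (hπ : QuasiIso π) {b : ℤ}
    (hFb : DRing.VanishesAbove F b) (hGb : DRing.VanishesAbove G b) (hF : ∀ i, TorAcyc P (F.X i))
    (hG : ∀ i, TorAcyc P (G.X i)) : QuasiIso ((DTen.extCx (algebraMap R R')).map π) := by
  let W := CochainComplex.mappingCone π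
  let e := fun i : ℤ => HomologicalComplex.homotopyCofiber.XIsoBiprod π i (i + 1) rfl
  have hWb : DRing.VanishesAbove W b := fun i hi =>
    (KFlat.isZero_biprod (hFb (i + 1) (by omega)) (hGb i hi)).of_iso (e i)
  have hT : ∀ i, TorAcyc P (W.X i) := fun i => torAcyc_of_iso P (e i).symm
    (torAcyc_X₂ P (ShortComplex.Splitting.ofHasBinaryBiproduct (F.X (i + 1)) (G.X i)).shortExact
      (hF (i + 1)) (hG i))
  haveI := hπ
  refine KFlat.quasiIso_of_acyclic_cone _ fun n =>
    (acyclic_extCx P W hWb (KFlat.acyclic_cone_of_quasiIso π) hT n).of_iso ?_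
  exact CochainComplex.mappingCone.mapHomologicalComplexIso π (ModuleCat.extendScalars.{u, u, u} (algebraMap R R'))

/-- Modules flat over an algebra without higher Tor have none. -/
theorem torAcyc_of_flat_over {R R' B : Type u} [CommRing R] [CommRing R'] [CommRing B] [Algebra R R'] [Algebra R B]
    (P : ProjectiveResolution (ModuleCat.of R R')) (htor : ∀ n : ℕ, Subsingleton (DRing.Tor R (n + 1) B R'))
    (M : Type u) [AddCommGroup M] [Module R M] [Module B M] [IsScalarTower R B M] [Module.Flat B M] :
    TorAcyc P (ModuleCat.of R M) := fun n => by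
  obtain ⟨φ, hφ⟩ := TorLib.exists_semilinear_bijective B M R' htor (B ⊗[R] R') (LinearEquiv.refl B _) (n + 1)
  haveI := TorLib.subsingleton_tor_of_flat (A := B) M (B ⊗[R] R') n
  haveI : Subsingleton (DRing.Tor R (n + 1) M R') := hφ.injective.subsingleton
  rw [HomologicalComplex.exactAt_iff_isZero_homology]
  exact (ModuleCat.isZero_of_subsingleton _).of_iso (TorLib.torIso P (ModuleCat.of R M) (n + 1)).symm

attribute [local instance] MvPolynomial.algebraMvPolynomial in
/-- Base change of relative pseudo-coherence under vanishing of Tor. -/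
theorem rel_lbc_of_tor {A A₁ B B₁ : Type u} [CommRing A] [CommRing A₁] [CommRing B] [CommRing B₁]
    [Algebra A A₁] [Algebra A B] [Algebra A₁ B₁] [Algebra B B₁] [Algebra A B₁] [IsScalarTower A A₁ B₁]
    [IsScalarTower A B B₁] [Algebra.IsPushout A A₁ B B₁] [Algebra.FiniteType A B]
    (htor : ∀ n : ℕ, Subsingleton (DRing.Tor A (n + 1) B A₁))
    [DRing.HasLBaseChange (algebraMap B B₁)] {K : Dual.D B} {m : ℤ}
    (h : DerCA.IsRelPseudoCoherent A B m K) :
    DerCA.IsRelPseudoCoherent A₁ B₁ m ((DRing.LBaseChange (algebraMap B B₁)).obj K) := by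
  obtain ⟨n, φ, hφ, hφc⟩ := exists_presentation (A := A) (B := B)
  have hK := (rel_iff φ hφ hφc m K).1 h
  obtain ⟨t, ht⟩ := hK.exists_aboveZero
  obtain ⟨N, hNb, hN, ⟨eN⟩⟩ := exists_proj_representative (K := K) (n := t - 1)
    (by simpa using aboveZero_of_restrict φ ht)
  let P := MvPolynomial (Fin n) A
  let P' := MvPolynomial (Fin n) A₁
  let φ' : P' →+* B₁ := MvPolynomial.eval₂Hom (algebraMap A₁ B₁) fun i => algebraMap B B₁ (φ (MvPolynomial.X i))
  have hmap : φ'.comp (MvPolynomial.map (algebraMap A A₁)) = (algebraMap B B₁).comp φ := by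
    refine MvPolynomial.ringHom_ext (fun r => ?_) fun i => ?_
    · show φ' (MvPolynomial.map (algebraMap A A₁) (MvPolynomial.C r)) = algebraMap B B₁ (φ (MvPolynomial.C r))
      rw [MvPolynomial.map_C, show φ (MvPolynomial.C r) = algebraMap A B r from RingHom.congr_fun hφc r,
        ← IsScalarTower.algebraMap_apply A B B₁]
      exact (MvPolynomial.eval₂Hom_C _ _ _).trans (IsScalarTower.algebraMap_apply A A₁ B₁ r).symm
    · show φ' (MvPolynomial.map (algebraMap A A₁) (MvPolynomial.X i)) = algebraMap B B₁ (φ (MvPolynomial.X i))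
      rw [MvPolynomial.map_X]
      exact MvPolynomial.eval₂Hom_X' _ _ _
  have hc' : φ'.comp MvPolynomial.C = algebraMap A₁ B₁ := MvPolynomial.eval₂Hom_comp_C _ _
  letI : Algebra P B := φ.toAlgebra
  letI : Algebra P' B₁ := φ'.toAlgebra
  letI : Algebra P B₁ := ((algebraMap B B₁).comp φ).toAlgebra
  haveI : IsScalarTower P B B₁ := .of_algebraMap_eq fun _ => rfl
  haveI : IsScalarTower P P' B₁ := .of_algebraMap_eq fun x => (RingHom.congr_fun hmap x).symm
  haveI : IsScalarTower A P B := .of_algebraMap_eq fun x => (RingHom.congr_fun hφc x).symm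
  haveI : IsScalarTower A₁ P' B₁ := .of_algebraMap_eq fun x => (RingHom.congr_fun hc' x).symm
  haveI : IsScalarTower A P B₁ := .of_algebraMap_eq fun x => by
    show algebraMap A B₁ x = algebraMap B B₁ (φ (MvPolynomial.C x))
    rw [show φ (MvPolynomial.C x) = algebraMap A B x from RingHom.congr_fun hφc x,
      ← IsScalarTower.algebraMap_apply]
  haveI : IsScalarTower A P' B₁ := .of_algebraMap_eq fun x => by
    rw [IsScalarTower.algebraMap_apply A A₁ P', ← IsScalarTower.algebraMap_apply A₁ P' B₁,
      ← IsScalarTower.algebraMap_apply]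
  haveI hP₀ : Algebra.IsPushout A P A₁ P' := inferInstance
  haveI : Algebra.IsPushout A A₁ P P' := hP₀.symm
  haveI hP : Algebra.IsPushout P P' B B₁ := by
    haveI : Algebra.IsPushout A B A₁ B₁ := Algebra.IsPushout.symm ‹Algebra.IsPushout A A₁ B B₁›
    exact ((Algebra.IsPushout.comp_iff (R := A) (S := P) (T := B) (R' := A₁) (S' := P') (T' := B₁)).mp
      inferInstance).symm
  have hφ' : Function.Surjective φ' := fun y => by
    induction y using hP.out.inductionOn with
    | zero => exact ⟨0, map_zero _⟩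
    | tmul c =>
      obtain ⟨p, rfl⟩ := hφ c
      exact ⟨MvPolynomial.map (algebraMap A A₁) p, RingHom.congr_fun hmap p⟩
    | smul a x hx =>
      obtain ⟨q, rfl⟩ := hx
      exact ⟨a * q, by rw [map_mul, Algebra.smul_def]; rfl⟩
    | add x y hx hy =>
      obtain ⟨a, rfl⟩ := hx
      obtain ⟨b, rfl⟩ := hy
      exact ⟨a + b, map_add _ _ _⟩
  haveI := DRingLib.hasLBaseChange (algebraMap P P')
  -- a projective resolution over the polynomial ring
  let C := (DTen.resCx (algebraMap P B)).obj N
  have hCb : DRing.VanishesAbove C (t - 1) := fun i hi =>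
    (ModuleCat.restrictScalars.{u} (algebraMap P B)).map_isZero (hNb i hi)
  obtain ⟨Q, π, hπ, hQ, hQb⟩ := exists_proj_resolution C (t - 1) hCb
  haveI := hπ
  let Res := DTen.resCx (algebraMap A P)
  let PR := projectiveResolution (ModuleCat.of A A₁)
  have hQT : ∀ i, TorAcyc PR ((Res.obj Q).X i) := fun i => by
    letI : Module A (Q.X i) := Module.compHom _ (algebraMap A P)
    haveI : IsScalarTower A P (Q.X i) := IsScalarTower.of_algebraMap_smul fun _ _ => rfl
    haveI := hQ i
    haveI : Module.Flat P (Q.X i) := Module.Flat.of_projective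
    haveI : Module.Flat A (Q.X i) := Module.Flat.trans A P (Q.X i)
    haveI : Module.Flat A ((Res.obj Q).X i) := ‹Module.Flat A (Q.X i)›
    exact torAcyc_of_flat PR _
  have hCT : ∀ i, TorAcyc PR ((Res.obj C).X i) := fun i => by
    letI : Module A (N.X i) := Module.compHom _ (algebraMap A B)
    haveI : IsScalarTower A B (N.X i) := IsScalarTower.of_algebraMap_smul fun _ _ => rfl
    haveI := hN i
    haveI : Module.Flat B (N.X i) := Module.Flat.of_projective
    exact torAcyc_of_iso PR ((ModuleCat.restrictScalarsComp'App.{u} (algebraMap A P) (algebraMap P B)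
      (algebraMap A B) (IsScalarTower.algebraMap_eq A P B) (N.X i)))
      (torAcyc_of_flat_over (R := A) (R' := A₁) (B := B) PR htor (N.X i))
  have hb : ∀ X : DRing.Cx P, DRing.VanishesAbove X (t - 1) → DRing.VanishesAbove (Res.obj X) (t - 1) :=
    fun X hX i hi => (ModuleCat.restrictScalars.{u} (algebraMap A P)).map_isZero (hX i hi)
  have h0 : QuasiIso (Res.map π) := inferInstance
  have h1 := quasiIso_extCx_of_torAcyc PR (Res.map π) h0 (hb Q hQb) (hb C hCb) hQT hCT
  have hq : QuasiIso ((DTen.extCx (algebraMap P P')).map π) := by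
    rw [← HomologicalComplex.quasiIso_map_iff_of_preservesHomology _ (ModuleCat.restrictScalars.{u} (algebraMap A₁ P'))]
    exact (quasiIso_iff_of_arrow_mk_iso _ _ (((Functor.mapArrowFunctor _ _).mapIso
      (NatIso.mapHomologicalComplex (pushoutExtendIso A A₁ P P') (ComplexShape.up ℤ))).app (Arrow.mk π))).1 h1
  haveI := isIso_Q_map π hπ
  haveI := isIso_Q_map _ hq
  have hNk := isKFlat_of_projective hNb hN
  have hQk := isKFlat_of_projective hQb hQ
  refine (rel_iff φ' hφ' hc' m _).2 ?_
  refine (pc_lbc (algebraMap P P') (((hK.of_iso ((DRing.restrictD φ).mapIso eN.symm)).of_iso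
    ((DTen.resFactors φ).app N)).of_iso (asIso (DerivedCategory.Q.map π)).symm)).of_iso ?_
  exact lbcIso (algebraMap P P') Q hQk ≪≫ asIso (DerivedCategory.Q.map ((DTen.extCx (algebraMap P P')).map π)) ≪≫
    DerivedCategory.Q.mapIso ((NatIso.mapHomologicalComplex (pushoutExtendIso P P' B B₁)
      (ComplexShape.up ℤ)).app N) ≪≫ ((DTen.resFactors φ').app ((DTen.extCx (algebraMap B B₁)).obj N)).symm ≪≫
    (DRing.restrictD φ').mapIso ((lbcIso (algebraMap B B₁) N hNk).symm ≪≫
      (DRing.LBaseChange (algebraMap B B₁)).mapIso eN)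

end Groth.Agent.RelPCLib
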